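import Cfsg.Agent.Lib.Transvec.Symplectic

/-!
Enlarging a subspace all of whose non-radical vectors are centres of transvections in a subgroup.
-/

set_option autoImplicit false
set_option linter.unusedSectionVars false

namespace CfsgLib.RegUnipotentGen.Sp

open Matrix CfsgLib.Transvec
open scoped MatrixGroups

variable {ι : Type} [Fintype ι] [DecidableEq ι] {F : Type*} [Field F]

/-- `x` is a vector of `W` outside the radical of `W`. -/
def NR (f : (ι → F) → (ι → F) → F) (W : Submodule F (ι → F)) (x : ι → F) : Prop :=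
  x ∈ W ∧ ∃ y ∈ W, f x y ≠ 0

/-- All non-radical vectors of `W` are full centres. -/
def Good (f : (ι → F) → (ι → F) → F) (M : Subgroup (GL ι F)) (W : Submodule F (ι → F)) : Prop :=
  ∀ x, NR f W x → Full f M x

variable {f : (ι → F) → (ι → F) → F} (hf : Cfsg.Geo.IsSymplecticForm f) {W : Submodule F (ι → F)}

include hf

lemma NR.add_rad {x r : ι → F} (hx : NR f W x) (hrW : r ∈ W) (hr : ¬ NR f W r) : NR f W (r + x) := by
  obtain ⟨hxW, y, hy, hxy⟩ := hx
  refine ⟨W.add_mem hrW hxW, y, hy, ?_⟩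
  have h0 : f r y = 0 := not_not.1 fun h => hr ⟨hrW, y, hy, h⟩
  rwa [add_left' hf, h0, zero_add]

lemma NR.smul {x : ι → F} (hx : NR f W x) {c : F} (hc : c ≠ 0) : NR f W (c • x) := by
  obtain ⟨hxW, y, hy, hxy⟩ := hx
  refine ⟨W.smul_mem c hxW, y, hy, ?_⟩
  rw [smul_left' hf]
  exact mul_ne_zero hc hxy

lemma nr_of_sub {x y : ι → F} (hxW : x ∈ W) (hyW : y ∈ W) (h : ¬ NR f W x) (h2 : NR f W (x - y)) :
    NR f W y := by
  obtain ⟨-, z, hz, hne⟩ := h2
  refine ⟨hyW, z, hz, fun h0 => hne ?_⟩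
  rw [sub_left' hf, h0, sub_zero]
  exact not_not.1 fun hh => h ⟨hxW, z, hz, hh⟩

/-- Avoidance over a field with at least three elements. -/
lemma avoid_three (h3 : ∃ a : F, a ≠ 0 ∧ a ≠ 1) (hne : ∃ x, NR f W x) {φ ψ : (ι → F) →ₗ[F] F}
    (hφ : ∃ x ∈ W, φ x ≠ 0) (hψ : ∃ x ∈ W, ψ x ≠ 0) (w : ι → F) :
    ∃ z, NR f W z ∧ φ z ≠ 0 ∧ ψ z ≠ 0 ∧ ∃ t : F, t ≠ 0 ∧ (w ∈ W → NR f W (w - t • z)) := by
  obtain ⟨a, ha0, ha1⟩ := h3
  suffices ∃ z, NR f W z ∧ φ z ≠ 0 ∧ ψ z ≠ 0 by
    obtain ⟨z, hz, h1, h2⟩ := this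
    refine ⟨z, hz, h1, h2, ?_⟩
    by_cases hwz : NR f W (w - (1 : F) • z)
    · exact ⟨1, one_ne_zero, fun _ => hwz⟩
    refine ⟨a, ha0, fun hw => ?_⟩
    have h := NR.add_rad hf (hz.smul hf (sub_ne_zero.2 (Ne.symm ha1)))
      (W.sub_mem hw (W.smul_mem _ hz.1)) hwz
    convert h using 1
    rw [sub_smul]; abel
  obtain ⟨y, hy⟩ := hne
  obtain ⟨z0, hz0, h01, h02⟩ := exists_avoid W (φ := φ) (ψ := ψ) (map_add φ) (map_add ψ) hφ hψ
  by_cases hz0n : NR f W z0
  · exact ⟨z0, hz0n, h01, h02⟩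
  by_cases hφy : φ y = 0
  · by_cases hψy : ψ z0 + ψ y = 0
    · refine ⟨z0 + a • y, (hy.smul hf ha0).add_rad hf hz0 hz0n, ?_, ?_⟩
      · rw [map_add, map_smul, hφy, smul_zero, add_zero]; exact h01
      · rw [map_add, map_smul, smul_eq_mul, show ψ y = -ψ z0 by linear_combination hψy]
        intro h
        have : (1 - a) * ψ z0 = 0 := by linear_combination h
        exact (mul_ne_zero (sub_ne_zero.2 (Ne.symm ha1)) h02) this
    · refine ⟨z0 + y, hy.add_rad hf hz0 hz0n, ?_, ?_⟩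
      · rw [map_add, hφy, add_zero]; exact h01
      · rwa [map_add]
  · by_cases hψy : ψ y = 0
    · by_cases h : φ z0 + φ y = 0
      · refine ⟨z0 + a • y, (hy.smul hf ha0).add_rad hf hz0 hz0n, ?_, ?_⟩
        · rw [map_add, map_smul, smul_eq_mul, show φ y = -φ z0 by linear_combination h]
          intro h'
          have : (1 - a) * φ z0 = 0 := by linear_combination h'
          exact (mul_ne_zero (sub_ne_zero.2 (Ne.symm ha1)) h01) this
        · rw [map_add, map_smul, hψy, smul_zero, add_zero]; exact h02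
      · refine ⟨z0 + y, hy.add_rad hf hz0 hz0n, ?_, ?_⟩
        · rwa [map_add]
        · rw [map_add, hψy, add_zero]; exact h02
    · exact ⟨y, hy, hφy, hψy⟩

/-- Avoidance in a translate of the common kernel of two functionals, given a non-degenerate subspace. -/
lemma avoid_coset {W0 : Submodule F (ι → F)} (h0W : W0 ≤ W) (h0 : ∀ x ∈ W0, x ≠ 0 → NR f W x)
    (hdim : 4 ≤ Module.finrank F W0) (φ ψ : (ι → F) →ₗ[F] F) {z0 : ι → F} (hz0 : z0 ∈ W) (w : ι → F) :
    ∃ z, NR f W z ∧ φ z = φ z0 ∧ ψ z = ψ z0 ∧ (w ∈ W → NR f W (w - z)) := by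
  set L : (ι → F) →ₗ[F] F × F := φ.prod ψ with hL
  set K := W0 ⊓ LinearMap.ker L with hKdef
  have hK : 1 < Module.finrank F K := by
    have h1 := LinearMap.finrank_range_add_finrank_ker L
    have h2 := Submodule.finrank_le (LinearMap.range L)
    have h3 := Submodule.finrank_sup_add_finrank_inf_eq W0 (LinearMap.ker L)
    have h4 := Submodule.finrank_le (W0 ⊔ LinearMap.ker L)
    rw [Module.finrank_prod, Module.finrank_self] at h2
    rw [hKdef]
    omega
  obtain ⟨k1, hk1K, hk1⟩ := K.exists_mem_ne_zero_of_ne_bot (by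
    intro h; rw [h, finrank_bot] at hK; omega)
  obtain ⟨k2, hk2K, hk2⟩ : ∃ k ∈ K, k ∉ Submodule.span F {k1} := by
    by_contra h
    push Not at h
    have h5 := Submodule.finrank_mono (show K ≤ Submodule.span F {k1} from h)
    rw [finrank_span_singleton hk1] at h5
    omega
  have hk2ne : k2 ≠ 0 := fun h => hk2 (h ▸ Submodule.zero_mem _)
  set c : (ι → F) → (ι → F) := fun k => z0 + k with hc
  have hcW : ∀ k ∈ K, c k ∈ W := fun k hk => W.add_mem hz0 (h0W hk.1)
  have hval : ∀ k ∈ K, φ (c k) = φ z0 ∧ ψ (c k) = ψ z0 := by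
    intro k hk
    have h := LinearMap.mem_ker.1 hk.2
    rw [hL, LinearMap.prod_apply, Function.prod_apply, Prod.mk_eq_zero] at h
    simp [hc, h.1, h.2]
  have hdiff : ∀ k ∈ K, ∀ k' ∈ K, k ≠ k' → NR f W (c k - c k') := by
    intro k hk k' hk' hne
    rw [show c k - c k' = k - k' by simp [hc]]
    exact h0 _ (W0.sub_mem hk.1 hk'.1) (sub_ne_zero.2 hne)
  -- among three translates at most one is radical, and at most one differs from `w` by a radical vector
  have A : ∀ k ∈ K, ∀ k' ∈ K, k ≠ k' → NR f W (c k) ∨ NR f W (c k') := fun k hk k' hk' hne => by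
    by_contra h
    push Not at h
    exact h.2 (nr_of_sub hf (hcW k hk) (hcW k' hk') h.1 (hdiff k hk k' hk' hne))
  have B : ∀ k ∈ K, ∀ k' ∈ K, k ≠ k' → w ∈ W → NR f W (w - c k) ∨ NR f W (w - c k') := fun k hk k' hk' hne hw => by
    by_contra h
    push Not at h
    refine h.2 (nr_of_sub hf (W.sub_mem hw (hcW k hk)) (W.sub_mem hw (hcW k' hk')) h.1 ?_)
    have := hdiff k' hk' k hk (Ne.symm hne)
    rwa [sub_sub_sub_cancel_left]
  have h10 : (0 : ι → F) ≠ k1 := Ne.symm hk1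
  have h20 : (0 : ι → F) ≠ k2 := Ne.symm hk2ne
  have h0K : (0 : ι → F) ∈ K := K.zero_mem
  have h21 : k1 ≠ k2 := fun h => hk2 (h ▸ Submodule.mem_span_singleton_self _)
  suffices ∃ k ∈ K, NR f W (c k) ∧ (w ∈ W → NR f W (w - c k)) by
    obtain ⟨k, hk, h1, h2⟩ := this
    exact ⟨c k, h1, (hval k hk).1, (hval k hk).2, h2⟩
  by_cases hw : w ∈ W
  · have a1 := A 0 h0K k1 hk1K h10
    have a2 := A 0 h0K k2 hk2K h20
    have a3 := A k1 hk1K k2 hk2K h21
    have b1 := B 0 h0K k1 hk1K h10 hw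
    have b2 := B 0 h0K k2 hk2K h20 hw
    have b3 := B k1 hk1K k2 hk2K h21 hw
    by_cases p0 : NR f W (c 0)
    · by_cases q0 : NR f W (w - c 0)
      · exact ⟨0, h0K, p0, fun _ => q0⟩
      · rcases a3 with h | h
        · exact ⟨k1, hk1K, h, fun _ => b1.resolve_left q0⟩
        · exact ⟨k2, hk2K, h, fun _ => b2.resolve_left q0⟩
    · rcases b3 with h | h
      · exact ⟨k1, hk1K, a1.resolve_left p0, fun _ => h⟩
      · exact ⟨k2, hk2K, a2.resolve_left p0, fun _ => h⟩
  · rcases A 0 h0K k1 hk1K h10 with h | h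
    · exact ⟨0, h0K, h, fun h' => absurd h' hw⟩
    · exact ⟨k1, hk1K, h, fun h' => absurd h' hw⟩

variable {M : Subgroup (GL ι F)}

/-- The growth step. -/
theorem good_sup (hW : Good f M W) (hne : ∃ x, NR f W x)
    (hq : (∃ a : F, a ≠ 0 ∧ a ≠ 1) ∨ ((∀ a : F, a ≠ 0 → a = 1) ∧ ∃ W0 ≤ W, (∀ x ∈ W0, x ≠ 0 → NR f W x) ∧
      4 ≤ Module.finrank F W0))
    {v : ι → F} (hv : Full f M v) (hvW : ∃ y ∈ W, f v y ≠ 0) : Good f M (W ⊔ Submodule.span F {v}) := by
  have avoid : ∀ φ ψ : (ι → F) →ₗ[F] F, (∃ x ∈ W, φ x ≠ 0) → (∃ x ∈ W, ψ x ≠ 0) → ∀ w : ι → F,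
      ∃ z, NR f W z ∧ φ z ≠ 0 ∧ ψ z ≠ 0 ∧ ∃ t : F, t ≠ 0 ∧ (w ∈ W → NR f W (w - t • z)) := by
    intro φ ψ hφ hψ w
    rcases hq with h3 | ⟨-, W0, h0W, h0, hdim⟩
    · exact avoid_three hf h3 hne hφ hψ w
    · obtain ⟨z0, hz0, h1, h2⟩ := exists_avoid W (φ := φ) (ψ := ψ) (map_add φ) (map_add ψ) hφ hψ
      obtain ⟨z, hz, e1, e2, e3⟩ := avoid_coset hf h0W h0 hdim φ ψ hz0 w
      exact ⟨z, hz, e1 ▸ h1, e2 ▸ h2, 1, one_ne_zero, by rwa [one_smul]⟩
  obtain ⟨y0, hy0, hvy0⟩ := hvW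
  set fv : (ι → F) →ₗ[F] F := toBilin hf.bilinear v
  have stepA : ∀ w, NR f W w → f w v ≠ 0 → ∀ d : F, Full f M (w + d • v) := fun w hw h d =>
    full_add_smul hf (hW w hw) hv h d
  have stepC : ∀ w ∈ W, ¬ NR f W w → f w v ≠ 0 → ∀ d : F, Full f M (w + d • v) := by
    intro w hw hwn hwv
    suffices key : ∀ d : F, d ≠ 0 → Full f M (w + d • v) by
      intro d
      rcases eq_or_ne d 0 with rfl | hd
      · have h1 := key 1 one_ne_zero
        rw [one_smul] at h1
        have := full_add_smul hf h1 hv (by rwa [add_left' hf, hf.alternating, add_zero]) (-1)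
        simpa using this
      · exact key d hd
    intro d hd
    have hw0 : ∀ y ∈ W, f w y = 0 := fun y hy => not_not.1 fun h => hwn ⟨hw, y, hy, h⟩
    rcases hq with h3 | ⟨h2, W0, h0W, h0, hdim⟩
    · obtain ⟨a, ha0, ha1⟩ := h3
      obtain ⟨z, hz, hzv, -, -⟩ := avoid_three hf ⟨a, ha0, ha1⟩ hne (φ := fv) (ψ := fv)
        ⟨y0, hy0, hvy0⟩ ⟨y0, hy0, hvy0⟩ w
      have hzv' : f z v ≠ 0 := by rw [hf.skew]; exact neg_ne_zero.2 hzv
      obtain ⟨c, hc0, hc⟩ : ∃ c : F, c ≠ 0 ∧ f w v + c * f z v ≠ 0 := by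
        by_cases h : f w v + f z v = 0
        · refine ⟨a, ha0, fun h' => ?_⟩
          have : (a - 1) * f z v = 0 := by linear_combination h' - h
          exact (mul_ne_zero (sub_ne_zero.2 ha1) hzv') this
        · exact ⟨1, one_ne_zero, by rwa [one_mul]⟩
      have h1 := stepA (w + c • z) ((hz.smul hf hc0).add_rad hf hw hwn)
        (by rwa [add_left' hf, smul_left' hf]) d
      have h4 : f (w + c • z + d • v) z ≠ 0 := by
        rw [add_left' hf, add_left' hf, smul_left' hf, smul_left' hf, hw0 z hz.1, hf.alternating, mul_zero,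
          add_zero, zero_add]
        exact mul_ne_zero hd hzv
      have := full_add_smul hf h1 (hW z hz) h4 (-c)
      convert this using 1
      rw [neg_smul]; abel
    · obtain rfl := h2 d hd
      rw [one_smul]
      have hm1 : (1 : F) + 1 = 0 := by
        by_contra h
        exact one_ne_zero (α := F) (by linear_combination (h2 _ h))
      obtain ⟨z2, hz2, e2, -, -⟩ := avoid_coset hf h0W h0 hdim fv fv hy0 w
      have hvz2 : f v z2 = 1 := (show f v z2 = f v y0 from e2) ▸ h2 _ hvy0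
      obtain ⟨z1, hz1, e11, e12, e13⟩ := avoid_coset hf h0W h0 hdim fv ((toBilin hf.bilinear) z2)
        (W.zero_mem) z2
      rw [map_zero] at e11 e12
      have hvz1 : f v z1 = 0 := e11
      have hz12 : f z2 z1 = 0 := e12
      have hz12' : NR f W (z1 + z2) := by
        have h := e13 hz2.1
        obtain ⟨-, y, hy, hne⟩ := h
        refine ⟨W.add_mem hz1.1 hz2.1, y, hy, fun h0 => hne ?_⟩
        rw [add_left' hf] at h0
        rw [sub_left' hf]
        linear_combination h0 - f z1 y * hm1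
      have s1 : Full f M (w + z1 + (1 : F) • v) := stepA _ (hz1.add_rad hf hw hwn)
        (by rw [add_left' hf, hf.skew z1 v, hvz1, neg_zero, add_zero]; exact hwv) 1
      rw [one_smul] at s1
      have s2 : Full f M (w + z1 + v + (1 : F) • z2) := full_add_smul hf s1 (hW z2 hz2) (by
        rw [add_left' hf, add_left' hf, hw0 z2 hz2.1, hf.skew z1 z2, hz12, hvz2, neg_zero, zero_add, zero_add]
        exact one_ne_zero) 1
      have s3 : Full f M (w + z1 + v + (1 : F) • z2 + (1 : F) • (z1 + z2)) := full_add_smul hf s2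
        (hW _ hz12') (by
        rw [one_smul, add_left' hf, add_left' hf, add_left' hf, hw0 _ hz12'.1, add_right' hf v, hvz1, hvz2,
          add_right' hf z1, add_right' hf z2, hf.alternating, hf.alternating, hf.skew z1 z2, hz12, neg_zero]
        simp) 1
      convert s3 using 1
      funext i
      simp only [Pi.add_apply, Pi.smul_apply, smul_eq_mul, one_mul]
      linear_combination -(z1 i + z2 i) * hm1
  rintro x ⟨hx, y', hy', hxy'⟩
  obtain ⟨w, hw, dv, hdv, rfl⟩ := Submodule.mem_sup.1 hx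
  obtain ⟨d, rfl⟩ := Submodule.mem_span_singleton.1 hdv
  by_cases hwv : f w v = 0
  · have hxv : f (w + d • v) v = 0 := by rw [add_left' hf, smul_left' hf, hf.alternating, hwv, mul_zero, add_zero]
    have hxW : ∃ z ∈ W, f (w + d • v) z ≠ 0 := by
      obtain ⟨u, hu, ev', hev', rfl⟩ := Submodule.mem_sup.1 hy'
      obtain ⟨e, rfl⟩ := Submodule.mem_span_singleton.1 hev'
      rw [add_right' hf, smul_right' hf, hxv, mul_zero, add_zero] at hxy'
      exact ⟨u, hu, hxy'⟩
    rcases eq_or_ne d 0 with rfl | hd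
    · rw [zero_smul, add_zero] at hxW ⊢
      exact hW w ⟨hw, hxW⟩
    obtain ⟨z, hz, hxz, hzv, t, ht, hwt⟩ := avoid (toBilin hf.bilinear (w + d • v)) fv hxW ⟨y0, hy0, hvy0⟩ w
    have h1 := stepA (w - t • z) (hwt hw) (by
      rw [sub_left' hf, smul_left' hf, hwv, zero_sub, hf.skew z v, mul_neg, neg_neg]
      exact mul_ne_zero ht hzv) d
    have h2 : f (w - t • z + d • v) z ≠ 0 := by
      rw [show w - t • z + d • v = (w + d • v) - t • z by abel, sub_left' hf, smul_left' hf, hf.alternating,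
        mul_zero, sub_zero]
      exact hxz
    have := full_add_smul hf h1 (hW z hz) h2 t
    convert this using 1
    abel
  · by_cases hwn : NR f W w
    · exact stepA w hwn hwv d
    · exact stepC w hw hwn hwv d

/-- Growing along a sequence of full vectors spanning the space. -/
theorem full_of_chain (v : ℕ → (ι → F)) {m0 N : ℕ} (hm : m0 ≤ N)
    (hspan : Submodule.span F (v '' Set.Iio N) = ⊤)
    (hW : Good f M (Submodule.span F (v '' Set.Iio m0)))
    (hne : ∃ x, NR f (Submodule.span F (v '' Set.Iio m0)) x)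
    (hq : (∃ a : F, a ≠ 0 ∧ a ≠ 1) ∨ ((∀ a : F, a ≠ 0 → a = 1) ∧ ∃ W0 ≤ Submodule.span F (v '' Set.Iio m0),
      (∀ x ∈ W0, x ≠ 0 → NR f (Submodule.span F (v '' Set.Iio m0)) x) ∧ 4 ≤ Module.finrank F W0))
    (hv : ∀ k, m0 ≤ k → k < N → Full f M (v k))
    (hlink : ∀ k, m0 ≤ k → k < N → ∃ i < k, f (v k) (v i) ≠ 0) : ∀ x, Full f M x := by
  have key : ∀ k, m0 ≤ k → k ≤ N → Good f M (Submodule.span F (v '' Set.Iio k)) := by
    intro k hk
    induction k, hk using Nat.le_induction with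
    | base => exact fun _ => hW
    | succ k hk ih =>
      intro hkN
      have hmono : Submodule.span F (v '' Set.Iio m0) ≤ Submodule.span F (v '' Set.Iio k) :=
        Submodule.span_mono (Set.image_mono (Set.Iio_subset_Iio hk))
      have hNR : ∀ {x}, NR f (Submodule.span F (v '' Set.Iio m0)) x → NR f (Submodule.span F (v '' Set.Iio k)) x :=
        fun ⟨hx, y, hy, h⟩ => ⟨hmono hx, y, hmono hy, h⟩
      have heq : Submodule.span F (v '' Set.Iio (k + 1)) =
          Submodule.span F (v '' Set.Iio k) ⊔ Submodule.span F {v k} := by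
        rw [← Submodule.span_union, ← Set.image_singleton, ← Set.image_union]
        congr 2
        ext i; simp
      rw [heq]
      obtain ⟨x, hx⟩ := hne
      obtain ⟨i, hi, hki⟩ := hlink k hk (by omega)
      refine good_sup hf (ih (by omega)) ⟨x, hNR hx⟩ ?_ (hv k hk (by omega))
        ⟨v i, Submodule.subset_span ⟨i, hi, rfl⟩, hki⟩
      rcases hq with h3 | ⟨h2, W0, h0W, h0, hdim⟩
      · exact Or.inl h3
      · exact Or.inr ⟨h2, W0, h0W.trans hmono, fun y hy hy0 => hNR (h0 y hy hy0), hdim⟩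
  intro x
  rcases eq_or_ne x 0 with rfl | hx
  · exact full_zero hf
  · obtain ⟨y, hy⟩ := (hf.nondegenerate x hx).1
    have hgood := key N hm le_rfl
    rw [hspan] at hgood
    refine hgood x ⟨trivial, y, trivial, ?_⟩
    rw [hf.skew]
    first | exact neg_ne_zero.2 hy | (rw [← hf.skew]; exact hy)

end CfsgLib.RegUnipotentGen.Sp
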