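import Cfsg.Agent.Lib.Classical.SLBasic

/-!
# Companion matrix of `(X - 1)^n`, transvections in a subgroup, lower triangular filtration
-/

set_option autoImplicit false
set_option linter.unusedSectionVars false

namespace CfsgLib.RegUnipotentGen

open Matrix
open scoped commutatorElement

variable {F : Type*} [Field F] {n : ℕ} [NeZero n]

local notation "SLn" => Matrix.SpecialLinearGroup (Fin n) F
local notation "Mn" => Matrix (Fin n) (Fin n) F

/-- Natural numbers as indices. -/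
def ix (n : ℕ) [NeZero n] (i : ℕ) : Fin n := ⟨i % n, Nat.mod_lt _ (Nat.pos_of_ne_zero (NeZero.ne n))⟩

lemma ix_val {i : ℕ} (h : i < n) : ((ix n i : Fin n) : ℕ) = i := Nat.mod_eq_of_lt h

lemma ix_inj {i j : ℕ} (hi : i < n) (hj : j < n) : ix n i = ix n j ↔ i = j :=
  ⟨fun h => by rw [← ix_val hi, ← ix_val hj, h], fun h => h ▸ rfl⟩

lemma ix_fin (i : Fin n) : ix n i = i := Fin.ext (ix_val i.2)

/-- Basis vectors. -/
def ev (F : Type*) [Field F] (n : ℕ) [NeZero n] (i : ℕ) : Fin n → F := Pi.single (ix n i) 1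

lemma ev_apply {i : ℕ} (j : Fin n) (hi : i < n) : ev F n i j = if (j : ℕ) = i then 1 else 0 := by
  rw [ev, Pi.single_apply]
  congr 1
  exact propext ⟨fun h => by rw [h, ix_val hi], fun h => Fin.ext (by rw [h, ix_val hi])⟩

lemma ev_dot (i : ℕ) (φ : Fin n → F) : φ ⬝ᵥ ev F n i = φ (ix n i) := by
  rw [ev, dotProduct_single, mul_one]

/-- The companion matrix of `(X - 1)^n`. -/
def comp (F : Type*) [Field F] (n : ℕ) : Matrix (Fin n) (Fin n) F :=
  Matrix.of fun i j => if (j : ℕ) + 1 < n then (if (i : ℕ) = j + 1 then 1 else 0)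
    else (-1) ^ (n + 1 + (i : ℕ)) * (n.choose i : F)

lemma comp_mulVec {i : ℕ} (h : i + 1 < n) : comp F n *ᵥ ev F n i = ev F n (i + 1) := by
  ext r
  rw [ev, mulVec_single_one, ev_apply _ h]
  show comp F n r (ix n i) = _
  rw [comp, Matrix.of_apply, ix_val (by omega), if_pos h]

lemma comp_pow_mulVec {i : ℕ} : ∀ j, i + j < n → comp F n ^ j *ᵥ ev F n i = ev F n (i + j)
  | 0, _ => by simp
  | j + 1, h => by
    rw [pow_succ', ← mulVec_mulVec, comp_pow_mulVec j (by omega), comp_mulVec (by omega)]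
    rfl

lemma comp_pow_ev_zero {j : ℕ} (h : j < n) : comp F n ^ j *ᵥ ev F n 0 = ev F n j := by
  rw [comp_pow_mulVec j (by omega), Nat.zero_add]

lemma comp_sub_one_pow_mulVec (m : ℕ) (v : Fin n → F) :
    (comp F n - 1) ^ m *ᵥ v = ∑ i ∈ Finset.range (m + 1), ((-1) ^ (m - i) * (m.choose i : F)) • (comp F n ^ i *ᵥ v) := by
  rw [sub_eq_add_neg, (Commute.one_right (comp F n)).neg_right.add_pow, Matrix.sum_mulVec]
  refine Finset.sum_congr rfl fun i _ => ?_
  rw [show comp F n ^ i * (-1 : Mn) ^ (m - i) * (m.choose i : Mn) =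
    ((-1 : F) ^ (m - i) * (m.choose i : F)) • comp F n ^ i from ?_, smul_mulVec]
  rw [Algebra.smul_def, map_mul, map_pow, map_neg, map_one, map_natCast]
  rw [mul_assoc (comp F n ^ i)]
  exact (((Commute.one_right _).neg_right.pow_right _).mul_right (Nat.commute_cast _ _)).eq

lemma comp_sub_one_pow : (comp F n - 1) ^ n = 0 := by
  have hn : 0 < n := Nat.pos_of_ne_zero (NeZero.ne n)
  have h0 : (comp F n - 1) ^ n *ᵥ ev F n 0 = 0 := by
    rw [comp_sub_one_pow_mulVec, Finset.sum_range_succ]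
    ext r
    rw [Pi.add_apply, Finset.sum_apply, Finset.sum_eq_single (r : ℕ)]
    · rw [Nat.sub_self, Pi.smul_apply, Pi.smul_apply, comp_pow_ev_zero r.2, ev_apply _ r.2, if_pos rfl,
        Nat.choose_self]
      have h1 : comp F n ^ n *ᵥ ev F n 0 = comp F n *ᵥ ev F n (n - 1) := by
        rw [← comp_pow_ev_zero (F := F) (n := n) (j := n - 1) (by omega), mulVec_mulVec, ← pow_succ',
          Nat.sub_add_cancel hn]
      rw [h1, ev, mulVec_single_one]
      show _ + _ • comp F n r (ix n (n - 1)) = 0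
      rw [comp, Matrix.of_apply, ix_val (by omega), if_neg (by omega)]
      simp only [smul_eq_mul, mul_one, pow_zero, Nat.cast_one, one_mul]
      have h2 : n + 1 + (r : ℕ) = (n - r) + 1 + 2 * r := by have := r.2; omega
      rw [h2, pow_add, pow_add, pow_mul]
      simp
    · intro i hi hne
      rw [Pi.smul_apply, comp_pow_ev_zero (Finset.mem_range.1 hi), ev_apply _ (Finset.mem_range.1 hi),
        if_neg (Ne.symm hne), smul_zero]
    · exact fun h => absurd (Finset.mem_range.2 r.2) h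
  refine Matrix.ext_of_mulVec_single fun j => ?_
  rw [show (Pi.single j 1 : Fin n → F) = ev F n j by rw [ev, ix_fin],
    ← comp_pow_ev_zero (F := F) j.2, mulVec_mulVec]
  have hc : Commute ((comp F n - 1) ^ n) (comp F n ^ (j : ℕ)) :=
    (((Commute.refl _).sub_left (Commute.one_left _)).pow_pow _ _)
  rw [hc.eq, ← mulVec_mulVec, h0, mulVec_zero, zero_mulVec]

lemma comp_sub_one_pow_ne (hn : 1 ≤ n) : (comp F n - 1) ^ (n - 1) ≠ 0 := by
  intro h
  have h0 := congrFun (congrArg (fun M : Mn => M *ᵥ ev F n 0) h) (ix n (n - 1))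
  simp only [zero_mulVec, Pi.zero_apply] at h0
  rw [comp_sub_one_pow_mulVec, Finset.sum_apply, Finset.sum_eq_single (n - 1)] at h0
  · rw [Pi.smul_apply, comp_pow_ev_zero (by omega), ev_apply _ (by omega), ix_val (by omega), if_pos rfl] at h0
    simp at h0
  · intro i hi hne
    have hin : i < n := by have := Finset.mem_range.1 hi; omega
    rw [Pi.smul_apply, comp_pow_ev_zero hin, ev_apply _ hin, ix_val (by omega), if_neg (Ne.symm hne), smul_zero]
  · exact fun h => absurd (Finset.mem_range.2 (by omega)) h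

lemma det_comp : (comp F n).det = 1 := by
  have hnil : IsNilpotent (comp F n - 1) := ⟨n, comp_sub_one_pow⟩
  have h := (Matrix.isNilpotent_charpoly_sub_pow_of_isNilpotent hnil).eq_zero
  rw [sub_eq_zero, Fintype.card_fin] at h
  have h1 := congrArg (Polynomial.eval (-1 : F)) h
  rw [Matrix.eval_charpoly, Polynomial.eval_pow, Polynomial.eval_X,
    show scalar (Fin n) (-1 : F) - (comp F n - 1) = -comp F n by
      rw [map_neg, map_one]; abel, det_neg, Fintype.card_fin] at h1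
  exact mul_left_cancel₀ (pow_ne_zero n (neg_ne_zero.2 one_ne_zero)) (h1.trans (mul_one _).symm)

/-- The companion matrix as an element of `SL`. -/
def cu (F : Type*) [Field F] (n : ℕ) [NeZero n] : Matrix.SpecialLinearGroup (Fin n) F :=
  ⟨comp F n, det_comp⟩

lemma cu_val : ((cu F n : SLn) : Mn) = comp F n := rfl

/-- The row vectors `e₀ C^{-j}`. -/
def phi (F : Type*) [Field F] (n : ℕ) [NeZero n] (j : ℕ) : Fin n → F :=
  ev F n 0 ᵥ* (((cu F n)⁻¹ ^ j : Matrix.SpecialLinearGroup (Fin n) F) : Matrix (Fin n) (Fin n) F)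

lemma phi_zero : phi F n 0 = ev F n 0 := by simp [phi]

lemma phi_dot (j : ℕ) (v : Fin n → F) :
    phi F n j ⬝ᵥ v = ((((cu F n)⁻¹ ^ j : SLn) : Mn) *ᵥ v) (ix n 0) := by
  rw [phi, ← dotProduct_mulVec, dotProduct_comm, ev_dot]

lemma cu_inv_pow_mulVec {j l : ℕ} (hjl : j ≤ l) (hl : l < n) :
    (((cu F n)⁻¹ ^ j : SLn) : Mn) *ᵥ ev F n l = ev F n (l - j) := by
  conv_lhs => rw [show l = l - j + j by omega, ← comp_pow_mulVec (F := F) j (by omega : l - j + j < n)]
  rw [← cu_val, ← Matrix.SpecialLinearGroup.coe_pow, mulVec_mulVec, ← Matrix.SpecialLinearGroup.coe_mul, inv_pow, inv_mul_cancel,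
    Matrix.SpecialLinearGroup.coe_one, one_mulVec]

lemma phi_apply_of_le {j l : ℕ} (hjl : j ≤ l) (hl : l < n) :
    phi F n j (ix n l) = if l = j then 1 else 0 := by
  rw [← ev_dot l (phi F n j), phi_dot, cu_inv_pow_mulVec hjl hl, ev_apply _ (by omega), ix_val (by omega)]
  congr 1
  exact propext ⟨fun h => by omega, fun h => by omega⟩

lemma phi_vecMul (j : ℕ) :
    phi F n j ᵥ* (((cu F n)⁻¹ : SLn) : Mn) = phi F n (j + 1) := by
  rw [phi, phi, vecMul_vecMul, ← Matrix.SpecialLinearGroup.coe_mul, ← pow_succ]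

/-- In characteristic `p`, for `n = p^e * m`, the first `p^e` row vectors are simple. -/
lemma phi_small {p e m : ℕ} [Fact p.Prime] [CharP F p] (hn : n = p ^ e * m) {j l : ℕ}
    (hj : j ≤ p ^ e) (hl : l < j) :
    phi F n j (ix n l) = if j = p ^ e ∧ l = 0 then (m : F) else 0 := by
  set k := p ^ e with hk
  have hn0 : 0 < n := Nat.pos_of_ne_zero (NeZero.ne n)
  have hzero : (1 - comp F n ^ k) ^ m = 0 := by
    have h1 : comp F n ^ k - 1 = (comp F n - 1) ^ k := by
      rw [hk, sub_pow_char_pow_of_commute _ _ (Commute.one_right _), one_pow]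
    rw [← neg_sub, neg_pow, h1, ← pow_mul, ← hn, comp_sub_one_pow, mul_zero]
  set S : Mn := ∑ i ∈ Finset.range m, (1 - comp F n ^ k) ^ i with hS
  have hinv : comp F n ^ k * S = 1 := by
    have := mul_neg_geom_sum (1 - comp F n ^ k) m
    rw [hzero, sub_zero, sub_sub_cancel] at this
    exact this
  have hcoord : ∀ i, ∀ s, s + k * i < n →
      (((1 - comp F n ^ k) ^ i) *ᵥ ev F n s) (ix n 0) = if s = 0 then 1 else 0 := by
    intro i
    induction i with
    | zero =>
      intro s hs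
      rw [pow_zero, one_mulVec, ev_apply _ (by omega), ix_val hn0]
      exact if_congr eq_comm rfl rfl
    | succ i ih =>
      intro s hs
      rw [Nat.mul_succ] at hs
      have hkpos : 0 < k := by omega
      rw [pow_succ, ← mulVec_mulVec, sub_mulVec, one_mulVec, comp_pow_mulVec k (by omega), mulVec_sub,
        Pi.sub_apply, ih s (by omega), ih (s + k) (by omega), if_neg (show s + k ≠ 0 by omega), sub_zero]
  have hinvj : (((cu F n)⁻¹ ^ j : SLn) : Mn) = S * comp F n ^ (k - j) := by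
    have hcomm : Commute S (comp F n ^ (k - j)) :=
      Commute.sum_left _ _ _ fun i _ => (((Commute.one_left _).sub_left (Commute.pow_pow_self _ _ _)).pow_left i)
    have h1 : comp F n ^ j * (S * comp F n ^ (k - j)) = 1 := by
      rw [hcomm.eq, ← Matrix.mul_assoc, ← pow_add, Nat.add_sub_cancel' hj, hinv]
    calc (((cu F n)⁻¹ ^ j : SLn) : Mn)
        = (((cu F n)⁻¹ ^ j : SLn) : Mn) * (comp F n ^ j * (S * comp F n ^ (k - j))) := by rw [h1, Matrix.mul_one]
      _ = S * comp F n ^ (k - j) := by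
        rw [← Matrix.mul_assoc, ← cu_val, ← Matrix.SpecialLinearGroup.coe_pow (cu F n) j, ← Matrix.SpecialLinearGroup.coe_mul,
          inv_pow, inv_mul_cancel, Matrix.SpecialLinearGroup.coe_one, Matrix.one_mul]
  rw [← ev_dot l (phi F n j), phi_dot, hinvj, ← mulVec_mulVec]
  rcases Nat.eq_zero_or_pos m with rfl | hm
  · rw [mul_zero] at hn; omega
  have hkn : k ≤ n := hn ▸ Nat.le_mul_of_pos_right _ hm
  rw [comp_pow_mulVec (k - j) (by omega), hS, Matrix.sum_mulVec, Finset.sum_apply,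
    Finset.sum_congr rfl (fun i hi => hcoord i _ ?_), Finset.sum_const, Finset.card_range, nsmul_eq_mul]
  · rcases eq_or_ne (l + (k - j)) 0 with h | h
    · rw [if_pos h, if_pos ⟨by omega, by omega⟩, mul_one]
    · rw [if_neg h, if_neg (fun h' => h (by omega)), mul_zero]
  · have h1 : k * (i + 1) ≤ k * m := Nat.mul_le_mul_left _ (Finset.mem_range.1 hi)
    rw [Nat.mul_succ] at h1
    omega

/-! ### Transvections in a subgroup -/

/-- `1 + x φ` lies in `H`. -/
def Tr (H : Subgroup SLn) (x φ : Fin n → F) : Prop :=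
  ∃ h ∈ H, ((h : SLn) : Mn) = 1 + vecMulVec x φ

variable {H : Subgroup (Matrix.SpecialLinearGroup (Fin n) F)}

lemma tr_zero (x : Fin n → F) : Tr H x 0 := ⟨1, H.one_mem, by simp⟩

lemma tr_add_axis {x φ ψ : Fin n → F} (h1 : Tr H x φ) (h2 : Tr H x ψ) (h : φ ⬝ᵥ x = 0) :
    Tr H x (φ + ψ) := by
  obtain ⟨a, ha, ha'⟩ := h1
  obtain ⟨b, hb, hb'⟩ := h2
  refine ⟨a * b, mul_mem ha hb, ?_⟩
  rw [Matrix.SpecialLinearGroup.coe_mul, ha', hb', add_mul, one_mul, mul_add, mul_one, vecMulVec_mul_vecMulVec, h,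
    zero_smul, vecMulVec_zero, add_zero, vecMulVec_add, add_comm (vecMulVec x φ), add_assoc]

lemma tr_add_centre {x y φ : Fin n → F} (h1 : Tr H x φ) (h2 : Tr H y φ) (h : φ ⬝ᵥ y = 0) :
    Tr H (x + y) φ := by
  obtain ⟨a, ha, ha'⟩ := h1
  obtain ⟨b, hb, hb'⟩ := h2
  refine ⟨a * b, mul_mem ha hb, ?_⟩
  rw [Matrix.SpecialLinearGroup.coe_mul, ha', hb', add_mul, one_mul, mul_add, mul_one, vecMulVec_mul_vecMulVec, h,
    zero_smul, vecMulVec_zero, add_zero, add_vecMulVec, add_comm (vecMulVec x φ), add_assoc]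

lemma tr_neg {x φ : Fin n → F} (h1 : Tr H x φ) (h : φ ⬝ᵥ x = 0) : Tr H x (-φ) := by
  obtain ⟨a, ha, ha'⟩ := h1
  refine ⟨a⁻¹, inv_mem ha, ?_⟩
  have h2 : (1 + vecMulVec x φ) * (1 + vecMulVec x (-φ)) = 1 := by
    rw [add_mul, one_mul, mul_add, mul_one, vecMulVec_mul_vecMulVec, h, zero_smul, vecMulVec_zero, add_zero,
      vecMulVec_neg]
    abel
  calc ((a⁻¹ : SLn) : Mn) = ((a⁻¹ : SLn) : Mn) * ((1 + vecMulVec x φ) * (1 + vecMulVec x (-φ))) := by
        rw [h2, Matrix.mul_one]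
    _ = _ := by rw [← ha', ← Matrix.mul_assoc, ← Matrix.SpecialLinearGroup.coe_mul, inv_mul_cancel,
        Matrix.SpecialLinearGroup.coe_one, Matrix.one_mul]

lemma tr_conj {x φ : Fin n → F} (h1 : Tr H x φ) {c : SLn} (hc : c ∈ H) :
    Tr H ((c : Mn) *ᵥ x) (φ ᵥ* ((c⁻¹ : SLn) : Mn)) := by
  obtain ⟨a, ha, ha'⟩ := h1
  refine ⟨c * a * c⁻¹, mul_mem (mul_mem hc ha) (inv_mem hc), ?_⟩
  rw [Matrix.SpecialLinearGroup.coe_mul, Matrix.SpecialLinearGroup.coe_mul, ha', Matrix.mul_add, Matrix.mul_one, Matrix.add_mul,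
    mul_vecMulVec, vecMulVec_mul, ← Matrix.SpecialLinearGroup.coe_mul, mul_inv_cancel, Matrix.SpecialLinearGroup.coe_one]

lemma tr_comm {x φ y ψ : Fin n → F} (h1 : Tr H x φ) (h2 : Tr H y ψ) (hx : φ ⬝ᵥ x = 0) (hy : ψ ⬝ᵥ y = 0)
    (hyx : ψ ⬝ᵥ x = 0) : Tr H x ((φ ⬝ᵥ y) • ψ) := by
  obtain ⟨a, ha, ha'⟩ := h1
  have hconj := tr_conj h2 ha
  have hinv : ψ ᵥ* ((a⁻¹ : SLn) : Mn) = ψ := by
    have h3 : ψ ᵥ* (a : Mn) = ψ := by
      rw [ha', vecMul_add, vecMul_one, vecMul_vecMulVec, hyx, zero_smul, add_zero]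
    conv_lhs => rw [← h3]
    rw [vecMul_vecMul, ← Matrix.SpecialLinearGroup.coe_mul, mul_inv_cancel, Matrix.SpecialLinearGroup.coe_one, vecMul_one]
  rw [hinv, ha', add_mulVec, one_mulVec, vecMulVec_mulVec, op_smul_eq_smul] at hconj
  have hny : Tr H (-y) ψ := by
    obtain ⟨b, hb, hb'⟩ := tr_neg h2 hy
    exact ⟨b, hb, by rw [hb', vecMulVec_neg, neg_vecMulVec]⟩
  have h4 := tr_add_centre hconj hny (by rw [dotProduct_neg, hy, neg_zero])
  rw [show y + (φ ⬝ᵥ y) • x + -y = (φ ⬝ᵥ y) • x by abel] at h4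
  obtain ⟨c, hc, hc'⟩ := h4
  exact ⟨c, hc, by rw [hc', smul_vecMulVec, vecMulVec_smul]⟩

lemma tr_sum {ι : Type*} (s : Finset ι) {x : Fin n → F} (f : ι → Fin n → F)
    (h : ∀ i ∈ s, Tr H x (f i) ∧ f i ⬝ᵥ x = 0) : Tr H x (∑ i ∈ s, f i) := by
  classical
  induction s using Finset.induction with
  | empty => exact tr_zero x
  | insert i s hi ih =>
    rw [Finset.sum_insert hi]
    exact tr_add_axis (h i (Finset.mem_insert_self i s)).1 (ih fun j hj => h j (Finset.mem_insert_of_mem hj))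
      (h i (Finset.mem_insert_self i s)).2

/-! ### The lower triangular filtration -/

/-- All nonzero entries are at least `k` below the diagonal. -/
def Off (k : ℕ) (M : Mn) : Prop := ∀ i j : Fin n, (i : ℕ) < j + k → M i j = 0

lemma Off.mono {k l : ℕ} (h : l ≤ k) {M : Mn} (hM : Off k M) : Off l M := fun i j hij => hM i j (by omega)

lemma Off.add {k : ℕ} {M N : Mn} (hM : Off k M) (hN : Off k N) : Off k (M + N) := fun i j h => by
  rw [Matrix.add_apply, hM i j h, hN i j h, add_zero]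

lemma Off.sub {k : ℕ} {M N : Mn} (hM : Off k M) (hN : Off k N) : Off k (M - N) := fun i j h => by
  rw [Matrix.sub_apply, hM i j h, hN i j h, sub_zero]

lemma Off.mul {k l : ℕ} {M N : Mn} (hM : Off k M) (hN : Off l N) : Off (k + l) (M * N) := fun i j h => by
  rw [Matrix.mul_apply]
  refine Finset.sum_eq_zero fun c _ => ?_
  rcases Nat.lt_or_ge (i : ℕ) (c + k) with h1 | h1
  · rw [hM i c h1, zero_mul]
  · rw [hN c j (by omega), mul_zero]

lemma Off.mul_apply {k l : ℕ} {M N : Mn} (hM : Off k M) (hN : Off l N) {i : ℕ} (h : i + l + k < n) :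
    (M * N) (ix n (i + l + k)) (ix n i) = M (ix n (i + l + k)) (ix n (i + l)) * N (ix n (i + l)) (ix n i) := by
  rw [Matrix.mul_apply]
  refine Finset.sum_eq_single _ (fun c _ hc => ?_) (fun h => absurd (Finset.mem_univ _) h)
  rcases lt_trichotomy (c : ℕ) (i + l) with h1 | h1 | h1
  · rw [hN c (ix n i) (by rw [ix_val (by omega)]; exact h1), mul_zero]
  · exact absurd (Fin.ext (h1.trans (ix_val (by omega)).symm)) hc
  · rw [hM (ix n (i + l + k)) c (by rw [ix_val h]; omega), zero_mul]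

/-- Unipotent lower triangular. -/
def Uni (x : SLn) : Prop := Off 1 ((x : Mn) - 1)

lemma Uni.mul {x y : SLn} (hx : Uni x) (hy : Uni y) : Uni (x * y) := by
  have h : ((x * y : SLn) : Mn) - 1 = ((x : Mn) - 1) * ((y : Mn) - 1) + ((x : Mn) - 1) + ((y : Mn) - 1) := by
    rw [Matrix.SpecialLinearGroup.coe_mul]; noncomm_ring
  rw [Uni, h]
  exact ((Off.mono (by norm_num) (Off.mul hx hy)).add hx).add hy

lemma Uni.inv [Finite F] {x : SLn} (hx : Uni x) : Uni x⁻¹ := by
  have hpow : ∀ k, Uni (x ^ k) := fun k => by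
    induction k with
    | zero => intro i j _; simp
    | succ k ih => rw [pow_succ]; exact ih.mul hx
  have h : x ^ (orderOf x - 1) = x⁻¹ := eq_inv_of_mul_eq_one_left (by
    rw [← pow_succ, Nat.sub_add_cancel (orderOf_pos x), pow_orderOf_eq_one])
  rw [← h]
  exact hpow _

/-- `x - 1` lies `k` below the diagonal, with diagonal entries there given by `c`. -/
def Lead (k : ℕ) (c : ℕ → F) (x : SLn) : Prop :=
  Off k ((x : Mn) - 1) ∧ ∀ i, i + k < n → ((x : Mn) - 1) (ix n (i + k)) (ix n i) = c i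

lemma lead_comm [Finite F] {l : ℕ} (hl : 1 ≤ l) {p c : ℕ → F} {x z : SLn} (hx : Lead 1 p x) (hz : Lead l c z) :
    Lead (l + 1) (fun i => p (i + l) * c i - c (i + 1) * p i) ⁅x, z⁆ := by
  set P : Mn := (x : Mn) - 1 with hP
  set Q : Mn := (z : Mn) - 1 with hQ
  set D : Mn := P * Q - Q * P with hD
  set R : Mn := ((x⁻¹ * z⁻¹ : SLn) : Mn) - 1 with hR
  have hR1 : Off 1 R := Uni.mul (Uni.inv (x := x) hx.1) (Uni.inv (x := z) (hz.1.mono hl))
  have hDo : Off (l + 1) D :=
    ((Off.mul hx.1 hz.1).mono (by omega)).sub ((Off.mul hz.1 hx.1).mono le_rfl)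
  have heq : ((⁅x, z⁆ : SLn) : Mn) - 1 = D + D * R := by
    have h0 : ((z * x : SLn) : Mn) * ((x⁻¹ * z⁻¹ : SLn) : Mn) = 1 := by
      rw [← Matrix.SpecialLinearGroup.coe_mul, ← mul_assoc, mul_assoc z x, mul_inv_cancel, mul_one, mul_inv_cancel,
        Matrix.SpecialLinearGroup.coe_one]
    have h1 : D = ((x * z : SLn) : Mn) - ((z * x : SLn) : Mn) := by
      rw [hD, hP, hQ, Matrix.SpecialLinearGroup.coe_mul, Matrix.SpecialLinearGroup.coe_mul]; noncomm_ring
    rw [commutatorElement_def, mul_assoc (x * z), Matrix.SpecialLinearGroup.coe_mul, ← h0, h1, hR, Matrix.mul_sub,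
      Matrix.mul_one, add_sub_cancel, ← Matrix.sub_mul]
  refine ⟨heq ▸ hDo.add ((Off.mul hDo hR1).mono (by omega)), fun i hi => ?_⟩
  rw [heq, Matrix.add_apply, (Off.mul hDo hR1) (ix n (i + (l + 1))) (ix n i) (by rw [ix_val hi, ix_val (by omega)]; omega),
    add_zero, hD, Matrix.sub_apply]
  congr 1
  · rw [show i + (l + 1) = i + l + 1 by omega, Off.mul_apply hx.1 hz.1 (by omega), hx.2 _ (by omega),
      hz.2 _ (by omega)]
  · rw [show i + (l + 1) = i + 1 + l by omega, Off.mul_apply hz.1 hx.1 (by omega), hz.2 _ (by omega),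
      hx.2 _ (by omega)]

end CfsgLib.RegUnipotentGen
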