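import Cfsg.Agent.Lib.KnownSimple.RegUnipotentGen.Basic

/-!
# `SL_n(q)`, `n ≥ 4`, is generated by two conjugate regular unipotent elements
-/

set_option autoImplicit false
set_option linter.unusedSectionVars false
set_option linter.style.haveILetI false

namespace CfsgLib.RegUnipotentGen

open Matrix
open scoped commutatorElement

variable {F : Type*} [Field F] {n : ℕ} [NeZero n]

local notation "SLn" => Matrix.SpecialLinearGroup (Fin n) F
local notation "Mn" => Matrix (Fin n) (Fin n) F

lemma phi_dot_ev {j l : ℕ} (hjl : j ≤ l) (hl : l < n) :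
    phi F n j ⬝ᵥ ev F n l = if l = j then 1 else 0 := by
  rw [ev_dot, phi_apply_of_le hjl hl]

lemma ev_dot_ev {i j : ℕ} (hi : i < n) (hj : j < n) :
    ev F n i ⬝ᵥ ev F n j = if j = i then 1 else 0 := by
  rw [ev_dot, ev_apply _ hi, ix_val hj]

lemma smul_dot_ev_zero {i : ℕ} (r : F) (h1 : 1 ≤ i) (hi : i < n) : (r • ev F n 0) ⬝ᵥ ev F n i = 0 := by
  rw [smul_dotProduct, ev_dot_ev (by omega) hi, if_neg (by omega), smul_zero]

lemma smul_last_dot_ev {i : ℕ} (r : F) (hi : i + 1 < n) : (r • ev F n (n - 1)) ⬝ᵥ ev F n i = 0 := by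
  rw [smul_dotProduct, ev_dot_ev (by omega) (by omega), if_neg (by omega), smul_zero]

/-- The sign `w₀`. -/
def eps (F : Type*) [Field F] (n : ℕ) : F := (-1) ^ (n + 1)

lemma eps_mul_self : eps F n * eps F n = 1 := by rw [eps, ← mul_pow]; simp

lemma ev_zero_vecMul_cu (hn : 2 ≤ n) : ev F n 0 ᵥ* ((cu F n : SLn) : Mn) = eps F n • ev F n (n - 1) := by
  ext j
  rw [ev, single_one_vecMul, cu_val, Pi.smul_apply, ev_apply _ (by omega)]
  show comp F n (ix n 0) j = _
  rw [comp, Matrix.of_apply, ix_val (by omega)]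
  by_cases h : (j : ℕ) + 1 < n
  · rw [if_pos h, if_neg (by omega), if_neg (by omega), smul_zero]
  · rw [if_neg h, if_pos (by have := j.2; omega), smul_eq_mul, mul_one, eps]
    simp

lemma ev_last_vecMul_cu_inv (hn : 2 ≤ n) :
    ev F n (n - 1) ᵥ* (((cu F n)⁻¹ : SLn) : Mn) = eps F n • ev F n 0 := by
  have h := congrArg (fun v => v ᵥ* (((cu F n)⁻¹ : SLn) : Mn)) (ev_zero_vecMul_cu (F := F) hn)
  simp only [vecMul_vecMul, smul_vecMul, ← Matrix.SpecialLinearGroup.coe_mul, mul_inv_cancel,
    Matrix.SpecialLinearGroup.coe_one, vecMul_one] at h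
  conv_rhs => rw [h, smul_smul, eps_mul_self, one_smul]

/-- `E₁₀(a)`. -/
def g₀ (hn : 2 ≤ n) (a : F) : SLn :=
  Matrix.SpecialLinearGroup.transvection (show ix n 1 ≠ ix n 0 from fun h =>
    absurd ((ix_inj (by omega) (by omega)).1 h) one_ne_zero) a

lemma g₀_val (hn : 2 ≤ n) (a : F) : ((g₀ hn a : SLn) : Mn) = 1 + vecMulVec (ev F n 1) (a • ev F n 0) := by
  rw [g₀, Matrix.SpecialLinearGroup.transvection_coe]
  congr 1
  ext i j
  rw [vecMulVec_apply, Pi.smul_apply, ev, ev, Matrix.single_apply, Pi.single_apply, Pi.single_apply]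
  by_cases h1 : i = ix n 1 <;> by_cases h0 : j = ix n 0 <;> simp [h1, h0, Ne.symm]

/-- The conjugates of `g₀` by powers of the companion matrix. -/
def gT (hn : 2 ≤ n) (a : F) (j : ℕ) : SLn := cu F n ^ j * g₀ hn a * (cu F n ^ j)⁻¹

/-- The quotient of consecutive conjugates. -/
def xT (hn : 2 ≤ n) (a : F) (j : ℕ) : SLn := gT hn a (j + 1) * (gT hn a j)⁻¹

/-- The group generated by the two regular unipotent elements. -/
def genGroup (hn : 2 ≤ n) (a : F) : Subgroup SLn :=
  Subgroup.closure {cu F n, g₀ hn a * cu F n * (g₀ hn a)⁻¹}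

lemma gT_val (hn : 2 ≤ n) (a : F) {j : ℕ} (hj : j + 1 < n) :
    ((gT hn a j : SLn) : Mn) = 1 + vecMulVec (ev F n (j + 1)) (a • phi F n j) := by
  rw [gT, Matrix.SpecialLinearGroup.coe_mul, Matrix.SpecialLinearGroup.coe_mul, g₀_val, Matrix.mul_add,
    Matrix.mul_one, Matrix.add_mul, mul_vecMulVec, vecMulVec_mul, ← Matrix.SpecialLinearGroup.coe_mul,
    mul_inv_cancel, Matrix.SpecialLinearGroup.coe_one, smul_vecMul, ← inv_pow, Matrix.SpecialLinearGroup.coe_pow,
    cu_val, comp_pow_mulVec j (by omega), Nat.add_comm 1 j, phi]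

lemma gT_inv_val (hn : 2 ≤ n) (a : F) {j : ℕ} (hj : j + 1 < n) :
    (((gT hn a j)⁻¹ : SLn) : Mn) = 1 - vecMulVec (ev F n (j + 1)) (a • phi F n j) := by
  set P : Mn := vecMulVec (ev F n (j + 1)) (a • phi F n j) with hP
  have hsq : P * P = 0 := by
    rw [hP, vecMulVec_mul_vecMulVec, smul_dotProduct, phi_dot_ev (by omega) hj, if_neg (by omega), smul_zero,
      zero_smul, vecMulVec_zero]
  calc (((gT hn a j)⁻¹ : SLn) : Mn) = (((gT hn a j)⁻¹ : SLn) : Mn) * ((1 + P) * (1 - P)) := by
        rw [Matrix.add_mul, Matrix.one_mul, Matrix.mul_sub, Matrix.mul_one, hsq, sub_zero, sub_add_cancel,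
          Matrix.mul_one]
    _ = 1 - P := by
      rw [hP, ← gT_val hn a hj, ← Matrix.mul_assoc, ← Matrix.SpecialLinearGroup.coe_mul, inv_mul_cancel,
        Matrix.SpecialLinearGroup.coe_one, Matrix.one_mul]

lemma xT_mulVec (hn : 2 ≤ n) (a : F) {j : ℕ} (hj : j + 2 < n) (v : Fin n → F) :
    ((xT hn a j : SLn) : Mn) *ᵥ v = v - (a * (phi F n j ⬝ᵥ v)) • ev F n (j + 1) +
      (a * (phi F n (j + 1) ⬝ᵥ v - a * (phi F n j ⬝ᵥ v))) • ev F n (j + 2) := by
  rw [xT, Matrix.SpecialLinearGroup.coe_mul, gT_val hn a hj, gT_inv_val hn a (by omega), ← mulVec_mulVec,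
    sub_mulVec, one_mulVec, vecMulVec_mulVec, op_smul_eq_smul, smul_dotProduct, smul_eq_mul, add_mulVec,
    one_mulVec, vecMulVec_mulVec, op_smul_eq_smul, smul_dotProduct, smul_eq_mul, dotProduct_sub, dotProduct_smul,
    phi_dot_ev le_rfl (by omega), if_pos rfl, smul_eq_mul, mul_one]

lemma last_vecMul_xT_inv (hn : 2 ≤ n) (a : F) {j : ℕ} (hj : j + 3 < n) :
    ev F n (n - 1) ᵥ* (((xT hn a j)⁻¹ : SLn) : Mn) = ev F n (n - 1) := by
  have h : ev F n (n - 1) ᵥ* ((xT hn a j : SLn) : Mn) = ev F n (n - 1) := by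
    rw [xT, Matrix.SpecialLinearGroup.coe_mul, gT_val hn a (by omega), gT_inv_val hn a (by omega), ← vecMul_vecMul,
      vecMul_add, vecMul_one, vecMul_vecMulVec, ev_dot_ev (by omega) (by omega), if_neg (by omega), zero_smul,
      add_zero, vecMul_sub, vecMul_one, vecMul_vecMulVec, ev_dot_ev (by omega) (by omega), if_neg (by omega),
      zero_smul, sub_zero]
  conv_lhs => rw [← h, vecMul_vecMul, ← Matrix.SpecialLinearGroup.coe_mul, mul_inv_cancel,
    Matrix.SpecialLinearGroup.coe_one, vecMul_one]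

lemma cu_mem (hn : 2 ≤ n) (a : F) : cu F n ∈ genGroup hn a := Subgroup.subset_closure (Or.inl rfl)

lemma xT_mem (hn : 2 ≤ n) (a : F) (j : ℕ) : xT hn a j ∈ genGroup hn a := by
  have h0 : xT hn a j = cu F n ^ j * (cu F n * (g₀ hn a * cu F n * (g₀ hn a)⁻¹)⁻¹) * (cu F n ^ j)⁻¹ := by
    simp only [xT, gT, pow_succ]
    group
  rw [h0]
  exact mul_mem (mul_mem (pow_mem (cu_mem hn a) j)
    (mul_mem (cu_mem hn a) (inv_mem (Subgroup.subset_closure (Or.inr rfl))))) (inv_mem (pow_mem (cu_mem hn a) j))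

lemma off_term (a : F) {j : ℕ} (hj : j + 1 < n) : Off 1 (vecMulVec (ev F n (j + 1)) (a • phi F n j)) := by
  intro r c hrc
  rw [vecMulVec_apply, ev_apply _ hj]
  by_cases hr : (r : ℕ) = j + 1
  · rw [if_pos hr, one_mul, Pi.smul_apply, ← ix_fin c, phi_apply_of_le (by omega) c.2, if_neg (by omega), smul_zero]
  · rw [if_neg hr, zero_mul]

lemma term_apply (a : F) {j i : ℕ} (hj : j + 1 < n) (hi : i + 1 < n) :
    vecMulVec (ev F n (j + 1)) (a • phi F n j) (ix n (i + 1)) (ix n i) = if i = j then a else 0 := by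
  rw [vecMulVec_apply, ev_apply _ hj, ix_val hi, Pi.smul_apply]
  by_cases h : i = j
  · subst h
    rw [if_pos rfl, if_pos rfl, phi_apply_of_le le_rfl (by omega), if_pos rfl, one_mul, smul_eq_mul, mul_one]
  · rw [if_neg (by omega), if_neg h, zero_mul]

lemma lead_xT (hn : 2 ≤ n) (a : F) {j : ℕ} (hj : j + 2 < n) :
    Lead 1 (fun i => if i = j + 1 then a else if i = j then -a else 0) (xT hn a j) := by
  set P : Mn := vecMulVec (ev F n (j + 2)) (a • phi F n (j + 1)) with hP
  set Q : Mn := vecMulVec (ev F n (j + 1)) (a • phi F n j) with hQ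
  have heq : ((xT hn a j : SLn) : Mn) - 1 = P - Q - P * Q := by
    rw [xT, Matrix.SpecialLinearGroup.coe_mul, gT_val hn a hj, gT_inv_val hn a (by omega), ← hP, ← hQ]
    noncomm_ring
  have hP1 : Off 1 P := off_term a hj
  have hQ1 : Off 1 Q := off_term a (by omega)
  refine ⟨heq ▸ (hP1.sub hQ1).sub ((Off.mul hP1 hQ1).mono (by omega)), fun i hi => ?_⟩
  rw [heq, Matrix.sub_apply, Matrix.sub_apply,
    (Off.mul hP1 hQ1) (ix n (i + 1)) (ix n i) (by rw [ix_val hi, ix_val (by omega)]; omega), sub_zero, hP, hQ,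
    term_apply a hj hi, term_apply a (by omega) hi]
  show _ = if i = j + 1 then a else if i = j then -a else 0
  by_cases h1 : i = j + 1
  · rw [if_pos h1, if_neg (by omega), if_pos h1, sub_zero]
  · rw [if_neg h1, if_neg h1]
    by_cases h2 : i = j
    · rw [if_pos h2, if_pos h2, zero_sub]
    · rw [if_neg h2, if_neg h2, sub_zero]

lemma Lead.congr {k : ℕ} {c c' : ℕ → F} {x : SLn} (h : Lead k c x) (hc : ∀ i, i + k < n → c i = c' i) :
    Lead k c' x := ⟨h.1, fun i hi => by rw [h.2 i hi, hc i hi]⟩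

/-- Iterated commutators reach the corner. -/
lemma exists_lead_corner [Finite F] (hn : 4 ≤ n) (a : F) : ∀ l, 3 ≤ l → l < n →
    ∃ z ∈ genGroup (by omega : 2 ≤ n) a, Lead l (fun i => if i = 0 then a ^ l else 0) z := by
  have hn2 : 2 ≤ n := by omega
  have hcm : ∀ {x z : SLn}, x ∈ genGroup hn2 a → z ∈ genGroup hn2 a → ⁅x, z⁆ ∈ genGroup hn2 a := fun hx hz => by
    rw [commutatorElement_def]; exact mul_mem (mul_mem (mul_mem hx hz) (inv_mem hx)) (inv_mem hz)
  intro l hl
  induction l, hl using Nat.le_induction with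
  | base =>
    intro _
    have h2 : Lead 2 (fun i => if i = 0 ∨ i = 1 then a ^ 2 else 0) ⁅xT hn2 a 1, xT hn2 a 0⁆ := by
      refine (lead_comm le_rfl (lead_xT hn2 a (j := 1) (by omega)) (lead_xT hn2 a (j := 0) (by omega))).congr
        fun i hi => ?_
      match i with
      | 0 => simp; ring
      | 1 => simp; ring
      | i + 2 => simp
    refine ⟨_, hcm (xT_mem hn2 a 1) (hcm (xT_mem hn2 a 1) (xT_mem hn2 a 0)),
      (lead_comm (by norm_num) (lead_xT hn2 a (j := 1) (by omega)) h2).congr fun i hi => ?_⟩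
    match i with
    | 0 => simp; ring
    | 1 => simp
    | i + 2 => simp
  | succ l hl ih =>
    intro hln
    obtain ⟨z, hz, hzl⟩ := ih (by omega)
    refine ⟨_, hcm (xT_mem hn2 a (l - 1)) hz,
      (lead_comm (by omega) (lead_xT hn2 a (j := l - 1) (by omega)) hzl).congr fun i hi => ?_⟩
    show (if i + l = l - 1 + 1 then a else if i + l = l - 1 then -a else 0) * (if i = 0 then a ^ l else 0) -
      (if i + 1 = 0 then a ^ l else 0) * _ = _
    by_cases h : i = 0
    · subst h
      rw [if_pos (by omega), if_pos rfl, if_neg (by omega), zero_mul, sub_zero, if_pos rfl, pow_succ']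
    · rw [if_neg h, if_neg h, mul_zero, if_neg (by omega), zero_mul, sub_zero]

/-- `E_{i0}(s)` lies in the group. -/
def ColA (H : Subgroup SLn) (i : ℕ) (s : F) : Prop := Tr H (ev F n i) (s • ev F n 0)

/-- `E_{i,n-1}(s)` lies in the group. -/
def ColB (H : Subgroup SLn) (i : ℕ) (s : F) : Prop := Tr H (ev F n i) (s • ev F n (n - 1))

variable {H : Subgroup (Matrix.SpecialLinearGroup (Fin n) F)}

lemma ColA.add {i : ℕ} {r s : F} (h1 : 1 ≤ i) (hi : i < n) (hr : ColA H i r) (hs : ColA H i s) : ColA H i (r + s) := by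
  rw [ColA, add_smul]
  exact tr_add_axis hr hs (smul_dot_ev_zero r h1 hi)

lemma ColA.neg {i : ℕ} {r : F} (h1 : 1 ≤ i) (hi : i < n) (hr : ColA H i r) : ColA H i (-r) := by
  rw [ColA, neg_smul]
  exact tr_neg hr (smul_dot_ev_zero r h1 hi)

lemma colA_to_colB (hC : cu F n ∈ H) {i : ℕ} {s : F} (h1 : 1 ≤ i) (hi : i < n) (h : ColA H i s) :
    ColB H (i - 1) (eps F n * s) := by
  have h' := tr_conj h (inv_mem hC)
  have hc : (((cu F n)⁻¹ : SLn) : Mn) *ᵥ ev F n i = ev F n (i - 1) := by
    simpa using cu_inv_pow_mulVec (F := F) (j := 1) h1 hi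
  rwa [inv_inv, smul_vecMul, ev_zero_vecMul_cu (by omega), smul_smul, hc, mul_comm] at h'

lemma colB_to_colA (hC : cu F n ∈ H) {i : ℕ} {s : F} (hi : i + 1 < n) (h : ColB H i s) :
    ColA H (i + 1) (eps F n * s) := by
  have h' := tr_conj h hC
  rwa [smul_vecMul, ev_last_vecMul_cu_inv (by omega), smul_smul, cu_val, comp_mulVec hi, mul_comm] at h'

lemma colA_pred (hC : cu F n ∈ H) {i : ℕ} {r s : F} (h2 : 2 ≤ i) (hi : i < n) (hr : ColA H i r)
    (hs : ColA H (n - 1) s) : ColA H (i - 1) (eps F n * r * s) := by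
  have hb := colA_to_colB hC (by omega) hi hr
  have h := tr_comm hb hs (smul_last_dot_ev _ (by omega)) (smul_dot_ev_zero s (by omega) (by omega))
    (smul_dot_ev_zero s (by omega) (by omega))
  rwa [smul_dotProduct, ev_dot_ev (by omega) (by omega), if_pos rfl, smul_eq_mul, mul_one, smul_smul] at h

lemma colA_succ (hn : 2 ≤ n) {a : F} (hC : cu F n ∈ H) {i : ℕ} (hx : xT hn a (i - 2) ∈ H) {s : F}
    (h2 : 2 ≤ i) (hi : i + 1 < n) (h : ColA H i s) : ColA H (i + 1) (a * s) := by
  have hb := colA_to_colB hC (by omega) (by omega) h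
  have h' := tr_conj hb hx
  rw [smul_vecMul, last_vecMul_xT_inv hn a (by omega), xT_mulVec hn a (by omega),
    phi_dot_ev (by omega) (by omega), if_neg (by omega), show i - 2 + 1 = i - 1 by omega,
    show i - 2 + 2 = i by omega, phi_dot_ev le_rfl (by omega), if_pos rfl, mul_zero, zero_smul, sub_zero,
    sub_zero, mul_one] at h'
  have h3 := tr_add_centre h' (show Tr H (-ev F n (i - 1)) ((eps F n * s) • ev F n (n - 1)) by
      obtain ⟨b, hb1, hb2⟩ := tr_neg hb (smul_last_dot_ev _ (by omega))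
      exact ⟨b, hb1, by rw [hb2, vecMulVec_neg, neg_vecMulVec]⟩)
    (by rw [dotProduct_neg, smul_last_dot_ev _ (by omega), neg_zero])
  rw [show ev F n (i - 1) + a • ev F n i + -ev F n (i - 1) = a • ev F n i by abel] at h3
  have h4 : ColB H i (a * (eps F n * s)) := by
    obtain ⟨b, hb1, hb2⟩ := h3
    exact ⟨b, hb1, by rw [hb2, smul_vecMulVec, ← vecMulVec_smul, smul_smul]⟩
  have h5 := colB_to_colA hC hi h4
  rwa [show eps F n * (a * (eps F n * s)) = a * (eps F n * eps F n) * s by ring, eps_mul_self, mul_one] at h5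

section Main

variable [Fintype F] (hn : 4 ≤ n) {a : F}

/-- The coefficient group in the first column. -/
def coefGroup (a : F) : AddSubgroup F where
  carrier := {x | ColA (genGroup (by omega : 2 ≤ n) a) (n - 1) (a ^ (n - 1) * x)}
  zero_mem' := by
    show ColA _ _ _
    rw [mul_zero, ColA, zero_smul]
    exact tr_zero _
  add_mem' := fun {x y} hx hy => by
    show ColA _ _ _
    rw [mul_add]
    exact ColA.add (by omega) (by omega) hx hy
  neg_mem' := fun {x} hx => by
    show ColA _ _ _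
    rw [mul_neg]
    exact ColA.neg (by omega) (by omega) hx

lemma one_mem_coefGroup : (1 : F) ∈ coefGroup hn a := by
  obtain ⟨z, hz, hzl⟩ := exists_lead_corner hn a (n - 1) (by omega) (by omega)
  show ColA _ _ _
  refine ⟨z, hz, ?_⟩
  rw [mul_one, ← sub_eq_iff_eq_add']
  ext r c
  rw [vecMulVec_apply, Pi.smul_apply, ev_apply _ (by omega), ev_apply _ (by omega)]
  by_cases h : (r : ℕ) < c + (n - 1)
  · rw [hzl.1 r c h]
    by_cases h1 : (r : ℕ) = n - 1
    · rw [if_neg (show ¬ (c : ℕ) = 0 by omega), smul_zero, mul_zero]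
    · rw [if_neg h1, zero_mul]
  · have hr := r.2
    rw [if_pos (show (r : ℕ) = n - 1 by omega), if_pos (show (c : ℕ) = 0 by omega), one_mul, smul_eq_mul, mul_one]
    have h2 := hzl.2 0 (by omega)
    simp only [if_pos, Nat.zero_add] at h2
    rwa [show r = ix n (n - 1) from Fin.ext (by rw [ix_val (by omega)]; omega),
      show c = ix n 0 from Fin.ext (by rw [ix_val (by omega)]; omega)]

lemma mul_pow_mem_coefGroup {x : F} (hx : x ∈ coefGroup hn a) : a ^ n * x ∈ coefGroup hn a := by
  have hn2 : 2 ≤ n := by omega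
  have hC := cu_mem hn2 a
  have h1 := colA_pred hC (by omega) (by omega) hx (one_mem_coefGroup hn)
  rw [mul_one, show n - 1 - 1 = n - 2 by omega] at h1
  have h2 := colA_succ hn2 hC (xT_mem hn2 a _) (by omega) (by omega) h1
  rw [show n - 2 + 1 = n - 1 by omega] at h2
  show ColA _ _ _
  have key : a ^ (n - 1) * (a ^ n * x) =
      eps F n * (a * (eps F n * (a ^ (n - 1) * x) * a ^ (n - 1))) := by
    conv_lhs => rw [show n = n - 1 + 1 by omega, pow_succ, Nat.add_sub_cancel]
    rw [show eps F n * (a * (eps F n * (a ^ (n - 1) * x) * a ^ (n - 1))) =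
      eps F n * eps F n * (a * a ^ (n - 1) * (a ^ (n - 1) * x)) by ring, eps_mul_self]
    ring
  rw [key]
  rcases neg_one_pow_eq_or F (n + 1) with he | he
  · rw [eps, he, one_mul]
    rwa [eps, he] at h2
  · rw [eps, he, neg_one_mul]
    rw [eps, he] at h2
    exact ColA.neg (by omega) (by omega) h2

variable (ha : a ≠ 0)

include ha in
lemma div_pow_mem_coefGroup {x : F} (hx : x ∈ coefGroup hn a) : x / a ^ n ∈ coefGroup hn a := by
  let f : coefGroup hn a → coefGroup hn a := fun y => ⟨a ^ n * y, mul_pow_mem_coefGroup hn y.2⟩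
  have hf : Function.Injective f := fun y z h =>
    Subtype.ext (mul_left_cancel₀ (pow_ne_zero n ha) (congrArg Subtype.val h))
  obtain ⟨y, hy⟩ := Finite.surjective_of_injective hf ⟨x, hx⟩
  have : a ^ n * (y : F) = x := congrArg Subtype.val hy
  rw [← this, mul_div_cancel_left₀ _ (pow_ne_zero n ha)]
  exact y.2

include ha in
lemma colA_of_mem {x : F} (hx : x ∈ coefGroup hn a) {i : ℕ} (h1 : 1 ≤ i) (hi : i < n) :
    ColA (genGroup (by omega : 2 ≤ n) a) i (a ^ i * x) := by
  have hn2 : 2 ≤ n := by omega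
  obtain ⟨d, hd⟩ : ∃ d, i + d = n - 1 := ⟨n - 1 - i, by omega⟩
  induction d generalizing i x with
  | zero => rw [Nat.add_zero] at hd; subst hd; exact hx
  | succ d ih =>
    have hy : eps F n * (x / a ^ n) ∈ coefGroup hn a := by
      rcases neg_one_pow_eq_or F (n + 1) with he | he
      · rw [eps, he, one_mul]; exact div_pow_mem_coefGroup hn ha hx
      · rw [eps, he, neg_one_mul]; exact (coefGroup hn a).neg_mem (div_pow_mem_coefGroup hn ha hx)
    have h := colA_pred (cu_mem hn2 a) (by omega) (by omega) (ih hy (i := i + 1) (by omega) (by omega) (by omega))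
      (one_mem_coefGroup hn)
    rw [mul_one, Nat.add_sub_cancel] at h
    convert h using 1
    rw [show eps F n * (a ^ (i + 1) * (eps F n * (x / a ^ n))) * a ^ (n - 1) =
      eps F n * eps F n * (a ^ (i + 1) * a ^ (n - 1)) * (x / a ^ n) by ring, eps_mul_self, ← pow_add,
      show i + 1 + (n - 1) = i + n by omega, pow_add]
    field_simp

lemma coef_of_colA {z : F} {i : ℕ} (h2 : 2 ≤ i) (hi : i < n)
    (h : ColA (genGroup (by omega : 2 ≤ n) a) i (a ^ i * z)) : z ∈ coefGroup hn a := by
  have hn2 : 2 ≤ n := by omega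
  obtain ⟨d, hd⟩ : ∃ d, i + d = n - 1 := ⟨n - 1 - i, by omega⟩
  induction d generalizing i with
  | zero => rw [Nat.add_zero] at hd; subst hd; exact h
  | succ d ih =>
    have h' := colA_succ hn2 (cu_mem hn2 a) (xT_mem hn2 a _) h2 (by omega) h
    rw [← mul_assoc, ← pow_succ'] at h'
    exact ih (i := i + 1) (by omega) (by omega) h' (by omega)

/-- Scalars preserving the coefficient group. -/
def coefRing : Subring F where
  carrier := {r | ∀ x ∈ coefGroup hn a, r * x ∈ coefGroup hn a}
  one_mem' := fun x hx => by rwa [one_mul]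
  mul_mem' := fun {r s} hr hs x hx => by rw [mul_assoc]; exact hr _ (hs x hx)
  zero_mem' := fun x _ => by rw [zero_mul]; exact zero_mem _
  add_mem' := fun {r s} hr hs x hx => by rw [add_mul]; exact add_mem (hr x hx) (hs x hx)
  neg_mem' := fun {r} hr x hx => by rw [neg_mul]; exact neg_mem (hr x hx)

lemma inv_mem_coefRing {r : F} (hr : r ∈ coefRing hn (a := a)) : r⁻¹ ∈ coefRing hn (a := a) := by
  rcases eq_or_ne r 0 with rfl | hr0
  · rw [_root_.inv_zero]; exact zero_mem _
  · have h := FiniteField.pow_card_sub_one_eq_one r hr0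
    have hq : 2 ≤ Fintype.card F := Fintype.one_lt_card
    rw [show Fintype.card F - 1 = Fintype.card F - 2 + 1 by omega, pow_succ] at h
    rw [inv_eq_of_mul_eq_one_left h]
    exact pow_mem hr _

/-- Dividing by `a^(p^e)`. -/
lemma inv_pow_mem_coefRing {p e m : ℕ} [Fact p.Prime] [CharP F p] (ha : a ≠ 0) (hnm : n = p ^ e * m)
    (hm : ¬ p ∣ m) : (a ^ p ^ e)⁻¹ ∈ coefRing hn (a := a) := by
  have hn2 : 2 ≤ n := by omega
  have hC := cu_mem hn2 a
  have hp := (Fact.out : p.Prime).two_le
  set k := p ^ e with hk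
  have hk1 : 1 ≤ k := Nat.one_le_pow _ _ (by omega)
  rcases Nat.lt_or_ge m 2 with hm1 | hm2
  · have hm' : m = 1 := by
      rcases Nat.eq_zero_or_pos m with rfl | h
      · exact absurd (dvd_zero p) hm
      · omega
    subst hm'
    rw [mul_one] at hnm
    intro x hx
    rw [← hnm, inv_mul_eq_div]
    exact div_pow_mem_coefGroup hn ha hx
  have hm0 : ((m : ℕ) : F) ≠ 0 := fun h => hm ((CharP.cast_eq_zero_iff F p m).1 h)
  have hk2 : k + 1 + 1 < n := by
    have h0 : k * 2 ≤ n := hnm ▸ Nat.mul_le_mul_left k hm2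
    by_contra hc
    have h2 : k = 2 := by omega
    have he : e ≠ 0 := fun he => by rw [hk, he, pow_zero] at h2; omega
    have hp2 : p = 2 := by
      have : p ∣ k := dvd_pow_self p he
      rw [h2] at this
      exact le_antisymm (Nat.le_of_dvd two_pos this) hp
    have hm' : m = 2 := by
      rw [h2] at hnm
      omega
    exact hm (by rw [hp2, hm'])
  -- the effect of `x_{k-1}` on `e₀`
  intro x hx
  have hb := colA_to_colB hC le_rfl (by omega) (colA_of_mem hn ha hx le_rfl (by omega))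
  rw [show 1 - 1 = 0 from rfl, pow_one] at hb
  have h' := tr_conj hb (xT_mem hn2 a (k - 1))
  have hphi1 : phi F n (k - 1 + 1) ⬝ᵥ ev F n 0 = (m : F) := by
    rw [Nat.sub_add_cancel hk1, ev_dot, phi_small hnm le_rfl (by omega : 0 < k), if_pos ⟨rfl, rfl⟩]
  have hphi0 : phi F n (k - 1) ⬝ᵥ ev F n 0 = if k = 1 then 1 else 0 := by
    by_cases h : k = 1
    · rw [if_pos h, show k - 1 = 0 by omega, phi_dot_ev le_rfl (by omega), if_pos rfl]
    · rw [if_neg h, ev_dot, phi_small hnm (by omega) (by omega : 0 < k - 1), if_neg (fun hh => by omega)]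
  rw [smul_vecMul, last_vecMul_xT_inv hn2 a (by omega), xT_mulVec hn2 a (by omega), hphi1, hphi0] at h'
  have h3 := tr_add_centre h' (show Tr _ (-ev F n 0) ((eps F n * (a * x)) • ev F n (n - 1)) by
      obtain ⟨b, hb1, hb2⟩ := tr_neg hb (smul_last_dot_ev _ (by omega))
      exact ⟨b, hb1, by rw [hb2, vecMulVec_neg, neg_vecMulVec]⟩)
    (by rw [dotProduct_neg, smul_last_dot_ev _ (by omega), neg_zero])
  have hz : (a ^ k)⁻¹ * x * m ∈ coefGroup hn a := by
    by_cases h : k = 1
    · rw [if_pos h, mul_one] at h3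
      rw [show k - 1 + 1 = 1 by omega, show k - 1 + 2 = 2 by omega,
        show ev F n 0 - a • ev F n 1 + (a * ((m : F) - a)) • ev F n 2 + -ev F n 0 =
          (a * ((m : F) - a)) • ev F n 2 + (-a) • ev F n 1 by rw [neg_smul]; abel] at h3
      -- remove the part in row one
      have hb1 : Tr (genGroup hn2 a) (a • ev F n 1) ((eps F n * (a * x)) • ev F n (n - 1)) := by
        have := colA_to_colB hC (by omega) (by omega) (colA_of_mem hn ha hx (i := 2) (by omega) (by omega))
        obtain ⟨b, hb1, hb2⟩ := this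
        exact ⟨b, hb1, by rw [hb2, smul_vecMulVec, ← vecMulVec_smul, smul_smul]; ring_nf⟩
      have h4 := tr_add_centre h3 hb1 (by rw [dotProduct_smul, smul_last_dot_ev _ (by omega), smul_zero])
      rw [show (a * ((m : F) - a)) • ev F n 2 + (-a) • ev F n 1 + a • ev F n 1 =
        (a * ((m : F) - a)) • ev F n 2 by rw [neg_smul]; abel] at h4
      have h5 : ColB (genGroup hn2 a) 2 ((a * ((m : F) - a)) * (eps F n * (a * x))) := by
        obtain ⟨b, hb1, hb2⟩ := h4
        exact ⟨b, hb1, by rw [hb2, smul_vecMulVec, ← vecMulVec_smul, smul_smul]⟩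
      have h6 := colB_to_colA hC (by omega) h5
      have h7 := ColA.add (by omega) (by omega) h6 (colA_of_mem hn ha hx (i := 3) (by omega) (by omega))
      refine coef_of_colA hn (i := 3) (by omega) (by omega) ?_
      convert h7 using 1
      rw [show eps F n * (a * ((m : F) - a) * (eps F n * (a * x))) =
        eps F n * eps F n * (a * ((m : F) - a) * (a * x)) by ring, eps_mul_self, h]
      field_simp
      ring
    · rw [if_neg h, mul_zero, zero_smul, sub_zero, sub_zero,
        show k - 1 + 2 = k + 1 by omega,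
        show ev F n 0 + (a * (m : F)) • ev F n (k + 1) + -ev F n 0 = (a * (m : F)) • ev F n (k + 1) by abel] at h3
      have h5 : ColB (genGroup hn2 a) (k + 1) ((a * (m : F)) * (eps F n * (a * x))) := by
        obtain ⟨b, hb1, hb2⟩ := h3
        exact ⟨b, hb1, by rw [hb2, smul_vecMulVec, ← vecMulVec_smul, smul_smul]⟩
      have h6 := colB_to_colA hC hk2 h5
      refine coef_of_colA hn (i := k + 1 + 1) (by omega) hk2 ?_
      convert h6 using 1
      rw [show eps F n * (a * (m : F) * (eps F n * (a * x))) =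
        eps F n * eps F n * (a * (m : F) * (a * x)) by ring, eps_mul_self, pow_succ, pow_succ]
      field_simp
  have hmR : ((m : ℕ) : F) ∈ coefRing hn (a := a) := natCast_mem _ m
  have := inv_mem_coefRing hn hmR _ hz
  rwa [mul_comm ((a ^ k)⁻¹ * x), inv_mul_cancel_left₀ hm0] at this

include hn in
/-- With a primitive element, the first column is complete. -/
lemma colA_all (ha : a ≠ 0) (hgen : ∀ x : F, x ≠ 0 → ∃ i : ℕ, a ^ i = x) {i : ℕ} (h1 : 1 ≤ i) (hi : i < n)
    (s : F) : ColA (genGroup (by omega : 2 ≤ n) a) i s := by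
  obtain ⟨p, hchar⟩ := CharP.exists F
  haveI := hchar
  obtain ⟨f, hp, hcard⟩ := FiniteField.card F p
  haveI : Fact p.Prime := ⟨hp⟩
  obtain ⟨e, m, hm, hnm⟩ := Nat.exists_eq_pow_mul_and_not_dvd (show n ≠ 0 by omega) p hp.ne_one
  have hk := inv_mem_coefRing hn (inv_pow_mem_coefRing hn ha hnm hm)
  rw [inv_inv] at hk
  have haR : a ∈ coefRing hn (a := a) := by
    have h := FiniteField.pow_card_pow e a
    rw [hcard, ← pow_mul, show (f : ℕ) * e = e + ((f : ℕ) - 1) * e by
      rw [Nat.sub_mul, one_mul]; have := f.pos; have : e ≤ (f : ℕ) * e := Nat.le_mul_of_pos_left _ this; omega,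
      pow_add, pow_mul] at h
    have h' := pow_mem hk (p ^ (((f : ℕ) - 1) * e))
    rwa [h] at h'
  have hR : ∀ r : F, r ∈ coefRing hn (a := a) := fun r => by
    rcases eq_or_ne r 0 with rfl | hr
    · exact zero_mem _
    · obtain ⟨j, rfl⟩ := hgen r hr
      exact pow_mem haR j
  have hx := hR (s / a ^ i) 1 (one_mem_coefGroup hn)
  rw [mul_one] at hx
  have h := colA_of_mem hn ha hx h1 hi
  rwa [mul_div_cancel₀ _ (pow_ne_zero i ha)] at h

include hn in
/-- Every transvection is in the generated group. -/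
lemma tr_elementary (ha : a ≠ 0) (hgen : ∀ x : F, x ≠ 0 → ∃ i : ℕ, a ^ i = x) {i j : ℕ} (hi : i < n) (hj : j < n)
    (hij : i ≠ j) (s : F) : Tr (genGroup (by omega : 2 ≤ n) a) (ev F n i) (s • ev F n j) := by
  have hn2 : 2 ≤ n := by omega
  have hC := cu_mem hn2 a
  have hlow : ∀ j i, j < i → i < n → ∀ s : F, Tr (genGroup hn2 a) (ev F n i) (s • ev F n j) := by
    intro j
    induction j using Nat.strong_induction_on with
    | _ j ih =>
      intro i hji hin s
      have h := tr_conj (colA_all hn ha hgen (i := i - j) (by omega) (by omega) s) (pow_mem hC j)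
      rw [smul_vecMul, ← inv_pow, Matrix.SpecialLinearGroup.coe_pow, cu_val, comp_pow_mulVec j (by omega),
        Nat.sub_add_cancel hji.le] at h
      have h' := tr_sum (H := genGroup hn2 a) (x := ev F n i) (Finset.range j)
        (fun l => (-(s * phi F n j (ix n l))) • ev F n l) (fun l hl => by
          have := Finset.mem_range.1 hl
          exact ⟨ih l this i (by omega) hin _,
            by rw [smul_dotProduct, ev_dot_ev (by omega) hin, if_neg (by omega), smul_zero]⟩)
      have h'' := tr_add_axis h h' (by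
        rw [smul_dotProduct]
        show s • (phi F n j ⬝ᵥ ev F n i) = 0
        rw [phi_dot_ev hji.le hin, if_neg (by omega), smul_zero])
      convert h'' using 1
      show s • ev F n j = s • phi F n j + _
      ext c
      rw [Pi.add_apply, Pi.smul_apply, Pi.smul_apply, Finset.sum_apply, ev_apply _ (by omega : j < n)]
      rcases Nat.lt_or_ge (c : ℕ) j with hc | hc
      · rw [Finset.sum_eq_single (c : ℕ), Pi.smul_apply, ev_apply _ c.2, if_pos rfl, if_neg (by omega), ix_fin]
        · simp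
        · intro l hl hne
          have := Finset.mem_range.1 hl
          rw [Pi.smul_apply, ev_apply _ (by omega), if_neg (Ne.symm hne), smul_zero]
        · exact fun h => absurd (Finset.mem_range.2 hc) h
      · rw [Finset.sum_eq_zero (fun l hl => by
          have := Finset.mem_range.1 hl
          rw [Pi.smul_apply, ev_apply _ (by omega), if_neg (by omega), smul_zero]), add_zero,
          ← ix_fin c, phi_apply_of_le hc c.2, ix_val c.2]
  rcases Nat.lt_or_ge j i with hji | hji
  · exact hlow j i hji hi s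
  have hlast : ∀ r : F, Tr (genGroup hn2 a) (ev F n i) (r • ev F n (n - 1)) := fun r => by
    have := colA_to_colB hC (i := i + 1) (by omega) (by omega)
      (colA_all hn ha hgen (i := i + 1) (by omega) (by omega) (eps F n * r))
    rwa [ColB, Nat.add_sub_cancel, ← mul_assoc, eps_mul_self, one_mul] at this
  rcases eq_or_ne j (n - 1) with rfl | hj'
  · exact hlast s
  have h := tr_comm (hlast s) (hlow j (n - 1) (by omega) (by omega) 1)
    (smul_last_dot_ev _ (by omega))
    (by rw [smul_dotProduct, ev_dot_ev (by omega) (by omega), if_neg (by omega), smul_zero])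
    (by rw [smul_dotProduct, ev_dot_ev (by omega) (by omega), if_neg (by omega), smul_zero])
  rwa [smul_dotProduct, ev_dot_ev (by omega) (by omega), if_pos rfl, smul_eq_mul, mul_one, smul_smul, mul_one] at h

end Main

/-- The companion matrix of `(X - 1)^n` and one conjugate of it generate `SL_n(q)` for `n ≥ 4`. -/
theorem exists_conjugate_regular_generators [Fintype F] (hn : 4 ≤ n) :
    ∃ u g : SLn, (IsNilpotent ((u : Mn) - 1) ∧ ((u : Mn) - 1) ^ (n - 1) ≠ 0) ∧
      (IsNilpotent (((g * u * g⁻¹ : SLn) : Mn) - 1) ∧ (((g * u * g⁻¹ : SLn) : Mn) - 1) ^ (n - 1) ≠ 0) ∧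
      Subgroup.closure ({u, g * u * g⁻¹} : Set SLn) = ⊤ := by
  have hn2 : 2 ≤ n := by omega
  obtain ⟨a, ha⟩ := IsCyclic.exists_monoid_generator (α := Fˣ)
  have hgen : ∀ x : F, x ≠ 0 → ∃ i : ℕ, (a : F) ^ i = x := fun x hx => by
    obtain ⟨i, hi⟩ := (Submonoid.mem_powers_iff _ _).1 (ha (Units.mk0 x hx))
    exact ⟨i, by rw [← Units.val_pow_eq_pow_val, hi, Units.val_mk0]⟩
  refine ⟨cu F n, g₀ hn2 (a : F), ⟨⟨n, comp_sub_one_pow⟩, comp_sub_one_pow_ne (by omega)⟩, ?_, ?_⟩
  · set g := g₀ hn2 (a : F)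
    have hinv : ((g⁻¹ : SLn) : Mn) * (g : Mn) = 1 := by
      rw [← Matrix.SpecialLinearGroup.coe_mul, inv_mul_cancel, Matrix.SpecialLinearGroup.coe_one]
    have hinv' : (g : Mn) * ((g⁻¹ : SLn) : Mn) = 1 := by
      rw [← Matrix.SpecialLinearGroup.coe_mul, mul_inv_cancel, Matrix.SpecialLinearGroup.coe_one]
    have hone : ((g * cu F n * g⁻¹ : SLn) : Mn) - 1 = (g : Mn) * (comp F n - 1) * ((g⁻¹ : SLn) : Mn) := by
      rw [Matrix.SpecialLinearGroup.coe_mul, Matrix.SpecialLinearGroup.coe_mul, cu_val, Matrix.mul_sub,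
        Matrix.sub_mul, Matrix.mul_one, hinv']
    have hpow : ∀ k, (((g * cu F n * g⁻¹ : SLn) : Mn) - 1) ^ k =
        (g : Mn) * (comp F n - 1) ^ k * ((g⁻¹ : SLn) : Mn) := fun k => by
      induction k with
      | zero => rw [pow_zero, pow_zero, Matrix.mul_one, hinv']
      | succ k ih =>
        rw [pow_succ, ih, hone, pow_succ]
        simp only [Matrix.mul_assoc]
        rw [← Matrix.mul_assoc ((g⁻¹ : SLn) : Mn) (g : Mn), hinv, Matrix.one_mul]
    refine ⟨⟨n, by rw [hpow, comp_sub_one_pow, Matrix.mul_zero, Matrix.zero_mul]⟩, fun h => ?_⟩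
    rw [hpow] at h
    refine comp_sub_one_pow_ne (F := F) (n := n) (by omega) ?_
    have h2 := congrArg (fun M : Mn => ((g⁻¹ : SLn) : Mn) * M * (g : Mn)) h
    simp only [Matrix.mul_zero, Matrix.zero_mul] at h2
    rw [← Matrix.mul_assoc, ← Matrix.mul_assoc, hinv, Matrix.one_mul, Matrix.mul_assoc, hinv, Matrix.mul_one] at h2
    exact h2
  · refine CfsgLib.Classical.SL_le_of_transvections _ fun i j hij t => ?_
    obtain ⟨h, hh, hval⟩ := tr_elementary hn a.ne_zero hgen i.2 j.2 (fun e => hij (Fin.ext e)) t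
    have heq : Matrix.SpecialLinearGroup.transvection hij t = h := by
      refine Subtype.ext ?_
      rw [hval, Matrix.SpecialLinearGroup.transvection_coe]
      congr 1
      ext r c
      rw [vecMulVec_apply, Pi.smul_apply, ev_apply _ i.2, ev_apply _ j.2, Matrix.single_apply]
      by_cases h1 : i = r <;> by_cases h2 : j = c <;> simp [h1, h2, Fin.val_eq_val, Ne.symm]
    rw [heq]
    exact hh

end CfsgLib.RegUnipotentGen
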