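import Cfsg.Agent.Lib.Classical.Dickson.PSLList
import Cfsg.Agent.Lib.Classical.SmallIso.PSL2
import Cfsg.Agent.Lib.Classical.Dickson.MinIndex
import Cfsg.Agent.Lib.Classical.Dickson.Borel
import Cfsg.Agent.Lib.LocalEven.BlockModule

/-!
`SL(2, q)`, `q ≥ 8`, `q ≠ 9`, is generated by two elements of the shape `[[1, t], [t, 1 + t²]]`.
-/

set_option autoImplicit false
set_option linter.unusedSectionVars false

namespace CfsgLib.RegUnipotentGen.Sp

open Matrix CfsgLib.Classical CfsgLib.Classical.Dickson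
open scoped MatrixGroups commutatorElement

variable {F : Type*} [Field F]

/-- The product of a lower and an upper transvection with the same parameter. -/
def E2 (t : F) : SL(2, F) := ⟨!![1, t; t, 1 + t * t], by simp [Matrix.det_fin_two]⟩

theorem E2_val (t : F) : (E2 t : Matrix (Fin 2) (Fin 2) F) = !![1, t; t, 1 + t * t] := rfl

theorem E2_mul_apply_00 (s t : F) : (E2 s * E2 t : SL(2, F)).1 0 0 = 1 + s * t := by
  simp [E2_val, Matrix.mul_fin_two, Matrix.SpecialLinearGroup.coe_mul]

theorem E2_mul_apply_01 (s t : F) : (E2 s * E2 t : SL(2, F)).1 0 1 = t + s * (1 + t * t) := by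
  simp [E2_val, Matrix.mul_fin_two, Matrix.SpecialLinearGroup.coe_mul]

theorem arith_subfield {k q m j : ℕ} (hk : 2 ≤ k) (hj : 2 ≤ j) (hq : k ^ j = q) (hm : m ∣ q + 1)
    (hmd : m ∣ k * ((k - 1) * (k + 1))) (hm5 : 5 ≤ m) (hbig : q + 1 ≤ 2 * m) : False := by
  have hcop : m.Coprime k := by
    refine Nat.Coprime.coprime_dvd_left hm ?_
    rw [← hq, Nat.coprime_comm]
    refine Nat.coprime_of_dvd fun r hr h1 h2 => hr.ne_one ?_
    exact Nat.dvd_one.1 ((Nat.dvd_add_right (h1.trans (dvd_pow_self k (by omega)))).1 h2)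
  have hm2 : m ∣ (k - 1) * (k + 1) := hcop.dvd_of_dvd_mul_left hmd
  have hk2 : (k - 1) * (k + 1) + 1 = k ^ 2 := by
    obtain ⟨l, rfl⟩ : ∃ l, k = l + 1 := ⟨k - 1, by omega⟩
    rw [Nat.add_sub_cancel]; ring
  have hz : ((k : ZMod m)) ^ 2 = 1 := by
    have h0 : (((k - 1) * (k + 1) : ℕ) : ZMod m) = 0 := (ZMod.natCast_eq_zero_iff _ _).2 hm2
    have := congrArg (fun x : ℕ => (x : ZMod m)) hk2
    simp only [Nat.cast_add, Nat.cast_one, Nat.cast_pow] at this
    rw [h0, zero_add] at this
    exact this.symm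
  have hq1 : ((k : ZMod m)) ^ j = -1 := by
    have h0 : ((q + 1 : ℕ) : ZMod m) = 0 := (ZMod.natCast_eq_zero_iff _ _).2 hm
    rw [← hq] at h0
    push_cast at h0
    linear_combination h0
  rcases Nat.even_or_odd' j with ⟨i, rfl | rfl⟩
  · rw [pow_mul, hz, one_pow] at hq1
    have h2 : ((2 : ℕ) : ZMod m) = 0 := by push_cast; linear_combination hq1
    have := Nat.le_of_dvd (by norm_num) ((ZMod.natCast_eq_zero_iff _ _).1 h2)
    omega
  · rw [pow_succ, pow_mul, hz, one_pow, one_mul] at hq1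
    have h2 : ((k + 1 : ℕ) : ZMod m) = 0 := by push_cast; linear_combination hq1
    have := Nat.le_of_dvd (by omega) ((ZMod.natCast_eq_zero_iff _ _).1 h2)
    have h3 : k ^ 3 ≤ q := hq ▸ Nat.pow_le_pow_right (by omega) (by omega)
    have h4 : 4 * k ≤ k ^ 3 := by
      rw [pow_succ k 2]
      exact Nat.mul_le_mul_right k (by nlinarith)
    omega

theorem dihedral_false {H : Type*} [Group H] [Finite H] {k : ℕ} (e : H ≃* DihedralGroup k) {a b : H}
    (ha : a ^ 2 ≠ 1) (hb : b ^ 2 ≠ 1) : a * b = b * a := by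
  refine e.injective ?_
  rw [map_mul, map_mul]
  have key : ∀ h : H, h ^ 2 ≠ 1 → ∃ i, e h = DihedralGroup.r i := by
    intro h hh
    cases he : e h with
    | r i => exact ⟨i, rfl⟩
    | sr i =>
      refine absurd (e.injective ?_) hh
      rw [map_pow, map_one, he, pow_two, DihedralGroup.sr_mul_self]
  obtain ⟨i, hi⟩ := key a ha
  obtain ⟨j, hj⟩ := key b hb
  rw [hi, hj, DihedralGroup.r_mul_r, DihedralGroup.r_mul_r, add_comm]

variable [Fintype F]

theorem exists_param :
    ∃ s : F, s ≠ 0 ∧ ∀ k : ℕ, ((E2 s : SL(2, F)) : Matrix (Fin 2) (Fin 2) F) ^ k = 1 ∨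
        ((E2 s : SL(2, F)) : Matrix (Fin 2) (Fin 2) F) ^ k = -1 →
      (Fintype.card F + 1) / Nat.gcd 2 (Fintype.card F - 1) ∣ k := by
  classical
  obtain ⟨p, hp⟩ := CharP.exists F
  haveI : Fact p.Prime := ⟨CharP.char_is_prime F p⟩
  obtain ⟨e, -, hcard⟩ := FiniteField.card F p
  set q := Fintype.card F with hqdef
  set L := AlgebraicClosure F
  haveI : CharP L p := charP_of_injective_algebraMap (algebraMap F L).injective p
  have hqL : (q : L) = 0 := by
    rw [hcard, Nat.cast_pow, CharP.cast_eq_zero, zero_pow e.pos.ne']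
  have hq1 : 1 < q := Fintype.one_lt_card
  obtain ⟨η, hη2, hdiv⟩ : ∃ η : L, η ^ q = (if q % 2 = 1 then -η⁻¹ else η⁻¹) ∧
      η ≠ 0 ∧ ∀ k, η ^ (4 * k) = 1 → (q + 1) / Nat.gcd 2 (q - 1) ∣ k := by
    rcases Nat.mod_two_eq_zero_or_one q with hev | hodd
    · have hg : Nat.gcd 2 (q - 1) = 1 := by rw [Nat.gcd_rec]; rw [show (q - 1) % 2 = 1 by omega]; rfl
      haveI : NeZero ((q + 1 : ℕ) : L) := ⟨by push_cast; rw [hqL, zero_add]; exact one_ne_zero⟩
      obtain ⟨η, hη⟩ := HasEnoughRootsOfUnity.exists_primitiveRoot L (q + 1)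
      have h0 : η ≠ 0 := hη.ne_zero (by omega)
      refine ⟨η, ?_, h0, fun k hk => ?_⟩
      · rw [if_neg (by omega)]
        exact eq_inv_of_mul_eq_one_left (by rw [← pow_succ, hη.pow_eq_one])
      · rw [hg, Nat.div_one]
        have := hη.dvd_of_pow_eq_one _ hk
        refine (Nat.Coprime.dvd_mul_left ?_).1 this
        rw [show (4 : ℕ) = 2 ^ 2 from rfl]
        exact Nat.Coprime.pow_right 2 (Nat.coprime_two_right.2 ⟨q / 2, by omega⟩)
    · have hg : Nat.gcd 2 (q - 1) = 2 := Nat.gcd_eq_left (by omega)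
      have hp2 : p ≠ 2 := fun h => by rw [hcard, h, Nat.pow_mod] at hodd; simp [e.ne_zero] at hodd
      haveI : NeZero ((2 * (q + 1) : ℕ) : L) := ⟨by
        rw [Nat.cast_mul, Nat.cast_add, hqL, Nat.cast_one, zero_add, mul_one]
        intro h
        have : ((2 : ℕ) : L) = 0 := by exact_mod_cast h
        rw [CharP.cast_eq_zero_iff L p] at this
        exact hp2 ((Nat.prime_dvd_prime_iff_eq Fact.out Nat.prime_two).1 this)⟩
      obtain ⟨η, hη⟩ := HasEnoughRootsOfUnity.exists_primitiveRoot L (2 * (q + 1))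
      have h0 : η ≠ 0 := hη.ne_zero (by omega)
      refine ⟨η, ?_, h0, fun k hk => ?_⟩
      · rw [if_pos hodd]
        have h1 : η ^ (q + 1) = -1 := by
          refine (sq_eq_one_iff.1 ?_).resolve_left fun h => ?_
          · rw [← pow_mul, mul_comm, hη.pow_eq_one]
          · have := Nat.le_of_dvd (by omega) (hη.dvd_of_pow_eq_one _ h)
            omega
        rw [← neg_inj, neg_neg]
        exact eq_inv_of_mul_eq_one_left (by rw [neg_mul, ← pow_succ, h1, neg_neg])
      · rw [hg]
        have := hη.dvd_of_pow_eq_one _ hk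
        rw [show 4 * k = 2 * (2 * k) by ring] at this
        have := Nat.dvd_of_mul_dvd_mul_left two_pos this
        obtain ⟨r, hr⟩ : 2 ∣ q + 1 := by omega
        rw [hr] at this ⊢
        rw [Nat.mul_div_cancel_left _ two_pos]
        exact Nat.dvd_of_mul_dvd_mul_left two_pos this
  obtain ⟨hη0, hdiv⟩ := hdiv
  -- `η - η⁻¹` is fixed by the Frobenius
  have hfix : (η - η⁻¹) ^ q = η - η⁻¹ := by
    have hsub : (η - η⁻¹) ^ q = η ^ q - (η⁻¹) ^ q := by rw [hcard]; exact sub_pow_char_pow _ _ _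
    rw [hsub, inv_pow, hη2]
    split_ifs with h
    · rw [inv_neg, inv_inv]; ring
    · haveI : CharP L 2 := by
        have : p = 2 := by
          by_contra hp2
          exact h (by rw [hcard, Nat.pow_mod, (Fact.out : p.Prime).eq_two_or_odd.resolve_left hp2]; simp)
        subst this; infer_instance
      rw [CharTwo.sub_eq_add, CharTwo.sub_eq_add, inv_inv, add_comm]
  obtain ⟨s, hs⟩ : ∃ s : F, algebraMap F L s = η - η⁻¹ := by
    have h1 : (Polynomial.map (algebraMap F L) (Polynomial.X ^ q - Polynomial.X)).roots =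
        (Polynomial.X ^ q - Polynomial.X : Polynomial F).roots.map (algebraMap F L) := by
      refine (Polynomial.roots_map_of_injective_of_card_eq_natDegree (algebraMap F L).injective ?_).symm
      rw [FiniteField.roots_X_pow_card_sub_X, FiniteField.X_pow_card_sub_X_natDegree_eq _ hq1]
      simp [Finset.card_univ, ← hqdef]
    have h2 : η - η⁻¹ ∈ (Polynomial.map (algebraMap F L) (Polynomial.X ^ q - Polynomial.X)).roots := by
      rw [Polynomial.mem_roots (Polynomial.map_ne_zero (FiniteField.X_pow_card_sub_X_ne_zero _ hq1))]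
      simp [hfix]
    rw [h1, FiniteField.roots_X_pow_card_sub_X, Multiset.mem_map] at h2
    obtain ⟨s, -, hs⟩ := h2
    exact ⟨s, hs⟩
  refine ⟨s, fun h => ?_, fun k hk => ?_⟩
  · rw [h, map_zero, eq_comm, sub_eq_zero, eq_comm] at hs
    have h1 : η ^ 2 = 1 := by
      rw [sq]; nth_rewrite 1 [← hs]; exact inv_mul_cancel₀ hη0
    have := hdiv 1 (by rw [show 4 * 1 = 2 * 2 from rfl, pow_mul, h1, one_pow])
    have h2 : 2 ≤ (q + 1) / Nat.gcd 2 (q - 1) := by
      have hle : Nat.gcd 2 (q - 1) ≤ 2 := Nat.le_of_dvd two_pos (Nat.gcd_dvd_left _ _)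
      have hpos : 0 < Nat.gcd 2 (q - 1) := Nat.gcd_pos_of_pos_left _ two_pos
      rw [Nat.le_div_iff_mul_le hpos]
      by_contra hh
      have : q = 2 := by omega
      rw [this] at hh
      norm_num at hh
    have := Nat.le_of_dvd one_pos this
    omega
  · refine hdiv k ?_
    set f : Matrix (Fin 2) (Fin 2) F →+* Matrix (Fin 2) (Fin 2) L := (algebraMap F L).mapMatrix
    have hev : f (E2 s).1 *ᵥ ![1, η] = η ^ 2 • ![1, η] := by
      have h1 : (η - η⁻¹) * η = η ^ 2 - 1 := by rw [sub_mul, inv_mul_cancel₀ hη0, ← sq]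
      ext i
      fin_cases i <;> simp [f, E2_val, Matrix.mulVec, dotProduct, Fin.sum_univ_two, hs]
      · linear_combination h1
      · linear_combination (η - η⁻¹) * h1 - η * mul_inv_cancel₀ hη0
    have hpow : ∀ l : ℕ, (f (E2 s).1) ^ l *ᵥ ![1, η] = (η ^ 2) ^ l • ![1, η] := by
      intro l
      induction l with
      | zero => simp
      | succ l ih => rw [pow_succ, ← mulVec_mulVec, hev, mulVec_smul, ih, smul_smul, ← pow_succ']
    have hsq : ((f (E2 s).1) ^ k) ^ 2 = 1 := by
      rcases hk with h | h <;> rw [← map_pow, h] <;> simp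
    have h0 := congrFun (hpow (k * 2)) 0
    rw [pow_mul, hsq, one_mulVec] at h0
    simp [← pow_mul] at h0
    rw [show 4 * k = 2 * (k * 2) by ring]
    exact h0.symm

/-- Two elements of the shape `E2 t` generate `SL(2, q)` for `q ≥ 8`, `q ≠ 9`. -/
theorem exists_E2_generators (h8 : 8 ≤ Fintype.card F) (h9 : Fintype.card F ≠ 9) :
    ∃ s t : F, Subgroup.closure {E2 s, E2 t} = (⊤ : Subgroup SL(2, F)) := by
  classical
  obtain ⟨p, hp⟩ := CharP.exists F
  haveI : Fact p.Prime := ⟨CharP.char_is_prime F p⟩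
  obtain ⟨e, -, hcard⟩ := FiniteField.card F p
  set q := Fintype.card F with hqdef
  obtain ⟨s, hs0, hs⟩ := exists_param (F := F)
  set m := (q + 1) / Nat.gcd 2 (q - 1) with hm
  have hgle : Nat.gcd 2 (q - 1) ≤ 2 := Nat.le_of_dvd two_pos (Nat.gcd_dvd_left _ _)
  have hg0 : 0 < Nat.gcd 2 (q - 1) := Nat.gcd_pos_of_pos_left _ two_pos
  have hmg : m * Nat.gcd 2 (q - 1) = q + 1 := by
    refine Nat.div_mul_cancel ?_
    rcases (Nat.dvd_prime Nat.prime_two).1 (Nat.gcd_dvd_left 2 (q - 1)) with h | h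
    · rw [h]; exact one_dvd _
    · have := Nat.gcd_dvd_right 2 (q - 1)
      rw [h] at this ⊢
      omega
  have hbig : q + 1 ≤ 2 * m := by
    rw [← hmg, mul_comm 2]
    exact Nat.mul_le_mul_left _ hgle
  have hm6 : 6 ≤ m := by
    rcases Nat.lt_or_ge m 6 with hlt | h
    · exfalso
      rcases (Nat.dvd_prime Nat.prime_two).1 (Nat.gcd_dvd_left 2 (q - 1)) with h | h
      · rw [h, mul_one] at hmg; omega
      · have hd := Nat.gcd_dvd_right 2 (q - 1)
        rw [h] at hmg hd
        omega
    · exact h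
  -- the second parameter
  obtain ⟨t, ht0, hts, htns, hti, ht2⟩ :
      ∃ t : F, t ≠ 0 ∧ t ≠ s ∧ t ≠ -s ∧ t ≠ -s⁻¹ ∧ 2 + t * t ≠ 0 := by
    have hroots : {t : F | 2 + t * t = 0}.ncard ≤ 2 := by
      rcases Set.eq_empty_or_nonempty {t : F | 2 + t * t = 0} with h | ⟨r, hr⟩
      · rw [h, Set.ncard_empty]; norm_num
      · refine (Set.ncard_le_ncard (t := {r, -r}) ?_).trans ((Set.ncard_insert_le _ _).trans (by simp))
        intro x hx
        have : x * x = r * r := by
          simp only [Set.mem_setOf_eq] at hx hr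
          linear_combination hx - hr
        exact mul_self_eq_mul_self_iff.1 this
    by_contra hcon
    push Not at hcon
    have hsub : (Set.univ : Set F) ⊆ {0, s, -s, -s⁻¹} ∪ {t : F | 2 + t * t = 0} := by
      intro x _
      by_cases h1 : x = 0; · exact Or.inl (Or.inl h1)
      by_cases h2 : x = s; · exact Or.inl (Or.inr (Or.inl h2))
      by_cases h3 : x = -s; · exact Or.inl (Or.inr (Or.inr (Or.inl h3)))
      by_cases h4 : x = -s⁻¹; · exact Or.inl (Or.inr (Or.inr (Or.inr h4)))
      exact Or.inr (hcon x h1 h2 h3 h4)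
    have h4 : ({0, s, -s, -s⁻¹} : Set F).ncard ≤ 4 := by
      refine (Set.ncard_insert_le _ _).trans (Nat.succ_le_succ ?_)
      refine (Set.ncard_insert_le _ _).trans (Nat.succ_le_succ ?_)
      refine (Set.ncard_insert_le _ _).trans ?_
      simp
    have h := (Set.ncard_le_ncard hsub).trans (Set.ncard_union_le _ _)
    rw [Set.ncard_univ, Nat.card_eq_fintype_card, ← hqdef] at h
    omega
  refine ⟨s, t, ?_⟩
  set K : Subgroup SL(2, F) := Subgroup.closure {E2 s, E2 t} with hK
  let π : SL(2, F) →* ProjectiveSpecialLinearGroup (Fin 2) F := QuotientGroup.mk' _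
  have hker : ∀ M : SL(2, F), π M = 1 → M.1 = 1 ∨ M.1 = -1 := fun M h => by
    rw [QuotientGroup.mk'_apply, QuotientGroup.eq_one_iff,
      Matrix.SpecialLinearGroup.mem_center_iff] at h
    obtain ⟨r, hr, hr'⟩ := h
    rw [Fintype.card_fin, sq_eq_one_iff] at hr
    rcases hr with rfl | rfl
    · left; rw [← hr', map_one]
    · right; rw [← hr', map_neg, map_one]
  set H := K.map π with hH
  set a : H := ⟨π (E2 s), E2 s, Subgroup.subset_closure (Or.inl rfl), rfl⟩
  set b : H := ⟨π (E2 t), E2 t, Subgroup.subset_closure (Or.inr rfl), rfl⟩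
  have hao : m ∣ orderOf a := by
    refine hs _ ?_
    rw [← Matrix.SpecialLinearGroup.coe_pow]
    refine hker _ ?_
    rw [map_pow, ← Subgroup.coe_pow (H := H) a, pow_orderOf_eq_one, OneMemClass.coe_one]
  have hne : a * b ≠ b * a := by
    intro hab
    have h1 : π ((E2 t * E2 s)⁻¹ * (E2 s * E2 t)) = 1 := by
      rw [map_mul, map_inv, map_mul, map_mul]
      exact inv_mul_eq_one.2 (congrArg Subtype.val hab).symm
    have h2 := hker _ h1
    have key : ∀ c : F, ((E2 t * E2 s)⁻¹ * (E2 s * E2 t)).1 = c • 1 →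
        1 + s * t = c * (1 + t * s) ∧ t + s * (1 + t * t) = c * (s + t * (1 + s * s)) := by
      intro c hc
      have h3 : (E2 s * E2 t : SL(2, F)).1 = c • (E2 t * E2 s : SL(2, F)).1 := by
        rw [show (E2 s * E2 t : SL(2, F)) = (E2 t * E2 s) * ((E2 t * E2 s)⁻¹ * (E2 s * E2 t)) by group,
          Matrix.SpecialLinearGroup.coe_mul, hc, Matrix.mul_smul, mul_one]
      constructor
      · have := congrFun (congrFun h3 0) 0
        rwa [E2_mul_apply_00, Matrix.smul_apply, E2_mul_apply_00, smul_eq_mul] at this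
      · have := congrFun (congrFun h3 0) 1
        rwa [E2_mul_apply_01, Matrix.smul_apply, E2_mul_apply_01, smul_eq_mul] at this
    rcases h2 with h2 | h2
    · obtain ⟨-, e2⟩ := key 1 (by rw [h2, one_smul])
      have : s * t * (t - s) = 0 := by linear_combination e2
      rcases mul_eq_zero.1 this with h | h
      · exact (mul_ne_zero hs0 ht0) h
      · exact hts (sub_eq_zero.1 h)
    · obtain ⟨e1, e2⟩ := key (-1) (by rw [h2, neg_one_smul])
      by_cases h22 : (2 : F) = 0
      · have : s * t * (t - s) = 0 := by linear_combination e2 - (s + t * (1 + s * s)) * h22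
        rcases mul_eq_zero.1 this with h | h
        · exact (mul_ne_zero hs0 ht0) h
        · exact hts (sub_eq_zero.1 h)
      · have : (2 : F) * (1 + s * t) = 0 := by linear_combination e1
        have h3 : 1 + s * t = 0 := (mul_eq_zero.1 this).resolve_left h22
        exact hti (by field_simp; linear_combination h3)
  have hb2 : b ^ 2 ≠ 1 := by
    intro h
    have h1 : π (E2 t * E2 t) = 1 := by
      rw [map_mul, ← pow_two]
      exact congrArg Subtype.val h
    have h01 : (E2 t * E2 t : SL(2, F)).1 0 1 = 0 := by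
      rcases hker _ h1 with h | h <;> rw [h] <;> simp
    rw [E2_mul_apply_01] at h01
    have : t * (2 + t * t) = 0 := by linear_combination h01
    exact (mul_ne_zero ht0 ht2) this
  have ha2 : a ^ 2 ≠ 1 := fun h => by
    have := Nat.le_of_dvd two_pos (hao.trans (orderOf_dvd_of_pow_eq_one h))
    omega
  -- the projective image is everything
  have htop : H = ⊤ := by
    rcases dickson_list (p := p) hqdef.symm H with ⟨k, -, hk⟩ | ⟨P, N, hN, ⟨ψ⟩⟩ | ⟨⟨ψ⟩⟩ | ⟨⟨ψ⟩⟩ | ⟨⟨ψ⟩⟩ |
      ⟨L, _, _, j, hj, hL⟩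
    · rcases hk with ⟨hc, -⟩ | ⟨⟨ψ⟩⟩
      · haveI := hc
        exact absurd ((IsCyclic.commGroup (α := H)).mul_comm a b) hne
      · exact absurd (dihedral_false ψ ha2 hb2) hne
    · exfalso
      have h1 : m ∣ Nat.card (Subgroup.normalizer
          ((P : Subgroup (ProjectiveSpecialLinearGroup (Fin 2) F)) : Set (ProjectiveSpecialLinearGroup (Fin 2) F))) := by
        refine (hao.trans (orderOf_dvd_natCard a)).trans ?_
        rw [Nat.card_congr ψ.toEquiv]
        exact Subgroup.card_dvd_of_le hN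
      have h2 := Subgroup.card_mul_index (Subgroup.normalizer
          ((P : Subgroup (ProjectiveSpecialLinearGroup (Fin 2) F)) : Set (ProjectiveSpecialLinearGroup (Fin 2) F)))
      rw [index_normalizer_sylow p hqdef.symm P] at h2
      have h3 : m ∣ q * (q - 1) := by
        refine h1.trans ⟨Nat.gcd 2 (q - 1), ?_⟩
        have h4 := gcd_mul_card_PSL (F := F) hqdef.symm
        rw [← h2] at h4
        refine Nat.eq_of_mul_eq_mul_right (show 0 < q + 1 by omega) ?_
        calc q * (q - 1) * (q + 1) = q * ((q - 1) * (q + 1)) := by ring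
          _ = _ := by rw [← h4]; ring
      have hmq : m ∣ q + 1 := ⟨_, hmg.symm⟩
      have hcop : m.Coprime q := Nat.Coprime.coprime_dvd_left hmq (by simp)
      have h4 : m ∣ q - 1 := hcop.dvd_of_dvd_mul_left h3
      have h5 : m ∣ 2 := by
        have := Nat.dvd_sub hmq h4
        rwa [show q + 1 - (q - 1) = 2 by omega] at this
      have := Nat.le_of_dvd two_pos h5
      omega
    · exfalso
      have key : ∀ x : alternatingGroup (Fin 4), orderOf x ≤ 3 := by
        intro x
        rcases (show x ^ 2 = 1 ∨ x ^ 3 = 1 by revert x; decide +kernel) with h | h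
        · exact (orderOf_le_of_pow_eq_one two_pos h).trans (by norm_num)
        · exact orderOf_le_of_pow_eq_one (by norm_num) h
      have h1 := Nat.le_of_dvd (orderOf_pos a) hao
      rw [← ψ.orderOf_eq] at h1
      have := key (ψ a)
      omega
    · exfalso
      have key : ∀ x : Equiv.Perm (Fin 4), orderOf x ≤ 4 := by
        intro x
        rcases (show x ^ 2 = 1 ∨ x ^ 3 = 1 ∨ x ^ 4 = 1 by revert x; decide +kernel) with h | h | h
        · exact (orderOf_le_of_pow_eq_one two_pos h).trans (by norm_num)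
        · exact (orderOf_le_of_pow_eq_one (by norm_num) h).trans (by norm_num)
        · exact orderOf_le_of_pow_eq_one (by norm_num) h
      have h1 := Nat.le_of_dvd (orderOf_pos a) hao
      rw [← ψ.orderOf_eq] at h1
      have := key (ψ a)
      omega
    · exfalso
      have key : ∀ x : alternatingGroup (Fin 5), orderOf x ≤ 5 := by
        intro x
        rcases (show x ^ 2 = 1 ∨ x ^ 3 = 1 ∨ x ^ 5 = 1 by revert x; decide +kernel) with h | h | h
        · exact (orderOf_le_of_pow_eq_one two_pos h).trans (by norm_num)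
        · exact (orderOf_le_of_pow_eq_one (by norm_num) h).trans (by norm_num)
        · exact orderOf_le_of_pow_eq_one (by norm_num) h
      have h1 := Nat.le_of_dvd (orderOf_pos a) hao
      rw [← ψ.orderOf_eq] at h1
      have := key (ψ a)
      omega
    · have hk2 : 2 ≤ Fintype.card L := Fintype.one_lt_card
      rcases Nat.lt_trichotomy j 1 with h | rfl | h
      · rw [Nat.lt_one_iff.1 h, pow_zero] at hj
        omega
      · rw [pow_one] at hj
        refine Subgroup.eq_top_of_le_card _ ?_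
        rcases hL with ⟨⟨ψ⟩⟩ | ⟨⟨ψ⟩⟩
        · rw [Nat.card_congr ψ.toEquiv]
          have h1 := gcd_mul_card_PSL (F := L) (q := q) hj
          have h2 := gcd_mul_card_PSL (F := F) (q := q) hqdef.symm
          exact le_of_eq (Nat.eq_of_mul_eq_mul_left hg0 (h2.trans h1.symm))
        · rw [Nat.card_congr ψ.toEquiv, card_pgl (F := L) (q := q) hj]
          exact card_psl_le hqdef.symm
      · exfalso
        refine arith_subfield hk2 h hj ⟨_, hmg.symm⟩ ?_ (by omega) hbig
        refine hao.trans ((orderOf_dvd_natCard a).trans ?_)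
        rcases hL with ⟨⟨ψ⟩⟩ | ⟨⟨ψ⟩⟩
        · rw [Nat.card_congr ψ.toEquiv, ← gcd_mul_card_PSL (F := L) rfl]
          exact dvd_mul_left _ _
        · rw [Nat.card_congr ψ.toEquiv, card_pgl (F := L) rfl]
  -- `SL(2, q)` is perfect, so the preimage is everything
  have hperf : commutator SL(2, F) = ⊤ := SmallIso.commutator_sl_two (by omega)
  have hsup : K ⊔ Subgroup.center SL(2, F) = ⊤ := by
    rw [← QuotientGroup.ker_mk' (Subgroup.center SL(2, F)), ← Subgroup.comap_map_eq]
    show H.comap π = ⊤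
    rw [htop, Subgroup.comap_top]
  have hle : commutator SL(2, F) ≤ K := by
    rw [commutator_def, Subgroup.commutator_le]
    intro x _ y _
    have hx : x ∈ K ⊔ Subgroup.center SL(2, F) := hsup ▸ Subgroup.mem_top x
    have hy : y ∈ K ⊔ Subgroup.center SL(2, F) := hsup ▸ Subgroup.mem_top y
    rw [Subgroup.mem_sup_of_normal_right] at hx hy
    obtain ⟨x', hx', z, hz, rfl⟩ := hx
    obtain ⟨y', hy', w, hw, rfl⟩ := hy
    have hz' := Subgroup.mem_center_iff.1 hz
    have hw' := Subgroup.mem_center_iff.1 hw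
    have : ⁅x' * z, y' * w⁆ = x' * y' * x'⁻¹ * y'⁻¹ := by
      rw [commutatorElement_def, _root_.mul_inv_rev, _root_.mul_inv_rev]
      have hzi : ∀ g, g * z⁻¹ = z⁻¹ * g := fun g => Subgroup.mem_center_iff.1 (inv_mem hz) g
      calc x' * z * (y' * w) * (z⁻¹ * x'⁻¹) * (w⁻¹ * y'⁻¹)
          = x' * (z * (y' * w) * z⁻¹) * (x'⁻¹ * w⁻¹) * y'⁻¹ := by group
        _ = x' * (y' * w) * (x'⁻¹ * w⁻¹) * y'⁻¹ := by
          rw [← hz' (y' * w), mul_inv_cancel_right]
        _ = x' * y' * (w * x'⁻¹ * w⁻¹) * y'⁻¹ := by group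
        _ = _ := by rw [← hw' x'⁻¹, mul_inv_cancel_right]
    rw [this]
    exact K.mul_mem (K.mul_mem (K.mul_mem hx' hy') (K.inv_mem hx')) (K.inv_mem hy')
  rw [eq_top_iff, ← hperf]
  exact hle

end CfsgLib.RegUnipotentGen.Sp
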