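import Cfsg.Agent.Lib.KnownSimple.RegUnipotentGen.SL2Pair
import Cfsg.Agent.Lib.Transvec.Basic

/-!
`SL(2, q)`, `q ≥ 4`, is generated by two elements of the shape `[[1, t], [t, 1 + t²]]`.
-/

set_option autoImplicit false
set_option linter.unusedSectionVars false

namespace CfsgLib.RegUnipotentGen.Sp

open Matrix
open scoped MatrixGroups

variable {F : Type*} [Field F]

/-- The matrix product of a word. -/
def wprod {R : Type*} [CommRing R] (w : List R) : Matrix (Fin 2) (Fin 2) R :=
  (w.map fun t => !![1, t; t, 1 + t * t]).prod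

lemma wprod_eq (w : List F) : wprod w = ((w.map E2).prod : SL(2, F)).1 := by
  induction w with
  | nil => simp [wprod]
  | cons a w ih =>
    rw [List.map_cons, List.prod_cons, Matrix.SpecialLinearGroup.coe_mul, ← ih, E2_val]
    simp [wprod]

lemma wprod_map {R : Type*} [CommRing R] (φ : R →+* F) (w : List R) :
    wprod (w.map φ) = φ.mapMatrix (wprod w) := by
  rw [wprod, wprod, map_list_prod, List.map_map, List.map_map]
  refine congrArg List.prod (List.map_congr_left fun t _ => ?_)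
  ext i j; fin_cases i <;> fin_cases j <;> simp

lemma wprod_reverse {R : Type*} [CommRing R] (w : List R) : wprod w.reverse = (wprod w)ᵀ := by
  rw [wprod, wprod, Matrix.transpose_list_prod, List.map_reverse, List.map_map]
  refine congrArg List.prod (congrArg List.reverse (List.map_congr_left fun t _ => ?_))
  ext i j; fin_cases i <;> fin_cases j <;> simp

/-- Upper transvection. -/
def upT (x : F) : SL(2, F) := Matrix.SpecialLinearGroup.transvection (show (0 : Fin 2) ≠ 1 by decide) x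

/-- Lower transvection. -/
def loT (x : F) : SL(2, F) := Matrix.SpecialLinearGroup.transvection (show (1 : Fin 2) ≠ 0 by decide) x

lemma upT_val (x : F) : (upT x : SL(2, F)).1 = !![1, x; 0, 1] := by
  ext i j; fin_cases i <;> fin_cases j <;>
    simp [upT, Matrix.SpecialLinearGroup.transvection_coe, Matrix.transvection, Matrix.single_apply]

lemma loT_val (x : F) : (loT x : SL(2, F)).1 = !![1, 0; x, 1] := by
  ext i j; fin_cases i <;> fin_cases j <;>
    simp [loT, Matrix.SpecialLinearGroup.transvection_coe, Matrix.transvection, Matrix.single_apply]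

/-- A subgroup containing all transvections is everything. -/
lemma eq_top_of_transv {K : Subgroup SL(2, F)} (hU : ∀ x, upT x ∈ K) (hL : ∀ x, loT x ∈ K) : K = ⊤ := by
  refine (Subgroup.eq_top_iff' K).2 fun s => ?_
  have ht : ∀ (i j : Fin 2) (hij : i ≠ j) (a : F), Matrix.SpecialLinearGroup.transvection hij a ∈ K := by
    intro i j hij a
    fin_cases i <;> fin_cases j <;> first | exact absurd rfl hij | exact hU a | exact hL a
  refine Matrix.SpecialLinearGroup.diagonal_transvection_induction' (fun s => s ∈ K) s (fun i j hij c hc => ?_) ht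
    (fun A B => mul_mem)
  rw [CfsgLib.Transvec.diag2n_eq hij hc]
  exact mul_mem (mul_mem (mul_mem (ht _ _ hij _) (ht _ _ hij.symm _)) (ht _ _ hij _))
    (mul_mem (mul_mem (ht _ _ hij _) (ht _ _ hij.symm _)) (ht _ _ hij _))

lemma word_mem {R : Type*} [CommRing R] (φ : R →+* F) {s t : R} (w : List R) (hw : ∀ a ∈ w, a = s ∨ a = t)
    {x : R} (hx : wprod w = !![1, x; 0, 1]) :
    upT (φ x) ∈ Subgroup.closure {E2 (φ s), E2 (φ t)} ∧ loT (φ x) ∈ Subgroup.closure {E2 (φ s), E2 (φ t)} := by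
  have hmem : ∀ w' : List R, (∀ a ∈ w', a = s ∨ a = t) →
      ((w'.map φ).map E2).prod ∈ Subgroup.closure {E2 (φ s), E2 (φ t)} := by
    intro w' hw'
    refine Subgroup.list_prod_mem _ fun g hg => ?_
    simp only [List.mem_map] at hg
    obtain ⟨_, ⟨a, ha, rfl⟩, rfl⟩ := hg
    rcases hw' a ha with rfl | rfl <;> exact Subgroup.subset_closure (by simp)
  constructor
  · convert hmem w hw using 1
    refine Subtype.ext ?_
    rw [← wprod_eq, wprod_map, hx, upT_val]
    ext i j; fin_cases i <;> fin_cases j <;> simp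
  · convert hmem w.reverse (fun a ha => hw a (List.mem_reverse.1 ha)) using 1
    refine Subtype.ext ?_
    rw [← wprod_eq, wprod_map, wprod_reverse, hx, loT_val]
    ext i j; fin_cases i <;> fin_cases j <;> simp

/-- The parameters of the transvections in a subgroup form an additive subgroup. -/
def parGroup (T : F → SL(2, F)) (hT : ∀ x y, T x * T y = T (x + y)) (h0 : T 0 = 1) (K : Subgroup SL(2, F)) :
    AddSubgroup F where
  carrier := {x | T x ∈ K}
  zero_mem' := by simp [h0]
  add_mem' := fun {a b} ha hb => by simpa [← hT] using K.mul_mem ha hb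
  neg_mem' := fun {a} ha => by
    have : T (-a) = (T a)⁻¹ := eq_inv_of_mul_eq_one_left (by rw [hT, neg_add_cancel, h0])
    simpa [this] using K.inv_mem ha

lemma upT_add (x y : F) : upT x * upT y = upT (x + y) :=
  Subtype.ext (by rw [Matrix.SpecialLinearGroup.coe_mul, upT_val, upT_val, upT_val, Matrix.mul_fin_two]; simp [add_comm])

lemma loT_add (x y : F) : loT x * loT y = loT (x + y) :=
  Subtype.ext (by rw [Matrix.SpecialLinearGroup.coe_mul, loT_val, loT_val, loT_val, Matrix.mul_fin_two]; simp)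

lemma upT_zero : upT (0 : F) = 1 := Subtype.ext (by rw [upT_val, Matrix.SpecialLinearGroup.coe_one, one_fin_two])

lemma loT_zero : loT (0 : F) = 1 := Subtype.ext (by rw [loT_val, Matrix.SpecialLinearGroup.coe_one, one_fin_two])

lemma top_of_gen {K : Subgroup SL(2, F)} (S : Set F) (hS : AddSubgroup.closure S = ⊤)
    (h : ∀ x ∈ S, upT x ∈ K ∧ loT x ∈ K) : K = ⊤ := by
  refine eq_top_of_transv (fun x => ?_) fun x => ?_
  · have : x ∈ parGroup upT upT_add upT_zero K :=
      (AddSubgroup.closure_le _).2 (fun y hy => (h y hy).1) (hS ▸ AddSubgroup.mem_top x)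
    exact this
  · have : x ∈ parGroup loT loT_add loT_zero K :=
      (AddSubgroup.closure_le _).2 (fun y hy => (h y hy).2) (hS ▸ AddSubgroup.mem_top x)
    exact this

variable [Fintype F]

lemma small_prime {p : ℕ} [Fact p.Prime] [CharP F p] (hF : Fintype.card F = p) {s t : ZMod p} (w : List (ZMod p))
    (hw : ∀ a ∈ w, a = s ∨ a = t) (hx : wprod w = !![1, 1; 0, 1]) :
    ∃ s t : F, Subgroup.closure {E2 s, E2 t} = (⊤ : Subgroup SL(2, F)) := by
  set φ : ZMod p →+* F := ZMod.castHom (dvd_refl p) F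
  have hbij : Function.Surjective φ :=
    ((Fintype.bijective_iff_injective_and_card φ).2 ⟨φ.injective, by rw [ZMod.card, hF]⟩).2
  refine ⟨φ s, φ t, top_of_gen {1} ?_ ?_⟩
  · refine (AddSubgroup.eq_top_iff' _).2 fun x => ?_
    obtain ⟨a, rfl⟩ := hbij x
    obtain ⟨i, rfl⟩ := ZMod.intCast_surjective a
    rw [map_intCast, ← zsmul_one]
    exact AddSubgroup.zsmul_mem _ (AddSubgroup.subset_closure (Set.mem_singleton (1 : F))) _
  · rintro x rfl
    exact map_one φ ▸ word_mem φ w hw hx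

lemma small_quad {p : ℕ} [Fact p.Prime] [CharP F p] (hF : Fintype.card F = p ^ 2) {ω : F}
    (hω : ω * ω = 1 + ω) (hω' : ∀ a : ZMod p, ω ≠ ZMod.castHom (dvd_refl p) F a)
    {s t : QuadraticAlgebra (ZMod p) 1 1} (w1 w2 : List (QuadraticAlgebra (ZMod p) 1 1))
    (hw1 : ∀ a ∈ w1, a = s ∨ a = t) (hw2 : ∀ a ∈ w2, a = s ∨ a = t)
    (h1 : wprod w1 = !![1, ⟨1, 0⟩; 0, 1]) (h2 : wprod w2 = !![1, ⟨0, 1⟩; 0, 1]) :
    ∃ s t : F, Subgroup.closure {E2 s, E2 t} = (⊤ : Subgroup SL(2, F)) := by
  letI := ZMod.algebra F p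
  set ψ := QuadraticAlgebra.lift (R := ZMod p) (a := 1) (b := 1)
    ⟨ω, show ω * ω = (1 : ZMod p) • (1 : F) + (1 : ZMod p) • ω by rw [one_smul, one_smul]; exact hω⟩
  set c := ZMod.castHom (dvd_refl p) F
  have e1 : ψ.toRingHom ⟨1, 0⟩ = 1 := by
    show ((1 : ZMod p) • (1 : F) + (0 : ZMod p) • ω) = 1
    rw [one_smul, zero_smul, add_zero]
  have e2 : ψ.toRingHom ⟨0, 1⟩ = ω := by
    show ((0 : ZMod p) • (1 : F) + (1 : ZMod p) • ω) = ω
    rw [one_smul, zero_smul, zero_add]
  refine ⟨ψ.toRingHom s, ψ.toRingHom t, top_of_gen {1, ω} ?_ ?_⟩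
  · have hinj : Function.Injective fun ab : ZMod p × ZMod p => c ab.1 + c ab.2 * ω := by
      rintro ⟨a, b⟩ ⟨a', b'⟩ h
      simp only at h
      by_cases hb : b = b'
      · subst hb; exact Prod.ext (c.injective (add_right_cancel h)) rfl
      · refine absurd ?_ (hω' ((a' - a) / (b - b')))
        rw [map_div₀, map_sub, map_sub, eq_div_iff (sub_ne_zero.2 fun h' => hb (c.injective h'))]
        linear_combination h
    have hsurj := ((Fintype.bijective_iff_injective_and_card _).2 ⟨hinj, by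
      rw [Fintype.card_prod, ZMod.card, hF, sq]⟩).2
    refine (AddSubgroup.eq_top_iff' _).2 fun x => ?_
    obtain ⟨⟨a, b⟩, rfl⟩ := hsurj x
    show c a + c b * ω ∈ _
    obtain ⟨i, rfl⟩ := ZMod.intCast_surjective a
    obtain ⟨j, rfl⟩ := ZMod.intCast_surjective b
    rw [map_intCast, map_intCast, ← zsmul_one i, ← zsmul_eq_mul]
    exact add_mem (AddSubgroup.zsmul_mem _ (AddSubgroup.subset_closure (Set.mem_insert (1 : F) {ω})) _)
      (AddSubgroup.zsmul_mem _ (AddSubgroup.subset_closure (Set.mem_insert_of_mem (1 : F) (Set.mem_singleton ω))) _)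
  · rintro x (rfl | rfl)
    · exact e1 ▸ word_mem ψ.toRingHom w1 hw1 h1
    · exact e2 ▸ word_mem ψ.toRingHom w2 hw2 h2

private lemma w5 : wprod ([2, 3, 3] : List (ZMod 5)) = !![1, 1; 0, 1] := by decide +kernel

private lemma w7 : wprod ([6, 6, 3, 3, 6, 3] : List (ZMod 7)) = !![1, 1; 0, 1] := by decide +kernel

private lemma w4a : wprod ([⟨0, 1⟩, ⟨0, 1⟩, ⟨1, 1⟩, ⟨1, 1⟩, ⟨1, 1⟩] : List (QuadraticAlgebra (ZMod 2) 1 1)) =
    !![1, ⟨1, 0⟩; 0, 1] := by decide +kernel

private lemma w4b : wprod ([⟨0, 1⟩, ⟨1, 1⟩, ⟨0, 1⟩, ⟨0, 1⟩, ⟨1, 1⟩, ⟨1, 1⟩] : List (QuadraticAlgebra (ZMod 2) 1 1)) =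
    !![1, ⟨0, 1⟩; 0, 1] := by decide +kernel

private lemma w9a : wprod ([⟨2, 1⟩, ⟨2, 1⟩, ⟨2, 2⟩, ⟨2, 1⟩, ⟨2, 2⟩, ⟨2, 2⟩, ⟨2, 1⟩, ⟨2, 2⟩] :
    List (QuadraticAlgebra (ZMod 3) 1 1)) = !![1, ⟨1, 0⟩; 0, 1] := by decide +kernel

private lemma w9b : wprod ([⟨2, 1⟩, ⟨2, 1⟩, ⟨2, 2⟩, ⟨2, 2⟩] : List (QuadraticAlgebra (ZMod 3) 1 1)) = !![1, ⟨0, 1⟩; 0, 1] := by decide +kernel

private lemma no_root3 : ∀ a : ZMod 3, a * a ≠ 1 + a := by decide

private lemma zmod2_cases : ∀ a : ZMod 2, a = 0 ∨ a = 1 := by decide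

/-- `SL(2, q)` is generated by two elements `E2 s`, `E2 t` for `q ≥ 4`. -/
theorem exists_E2_pair (h4 : 4 ≤ Fintype.card F) :
    ∃ s t : F, Subgroup.closure {E2 s, E2 t} = (⊤ : Subgroup SL(2, F)) := by
  classical
  by_cases h8 : 8 ≤ Fintype.card F ∧ Fintype.card F ≠ 9
  · exact exists_E2_generators h8.1 h8.2
  obtain ⟨p, hp⟩ := CharP.exists F
  haveI : Fact p.Prime := ⟨CharP.char_is_prime F p⟩
  obtain ⟨e, -, hcard⟩ := FiniteField.card F p
  have hq : Fintype.card F = 4 ∨ Fintype.card F = 5 ∨ Fintype.card F = 6 ∨ Fintype.card F = 7 ∨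
      Fintype.card F = 9 := by omega
  have hp2 : 2 ≤ p := (Fact.out : p.Prime).two_le
  have hple : p ≤ 9 := by
    have := Nat.le_self_pow e.ne_zero p
    omega
  have he : (e : ℕ) ≤ 3 := by
    by_contra h
    have := Nat.pow_le_pow_left hp2 (e : ℕ)
    have := Nat.pow_le_pow_right (show 0 < 2 by norm_num) (show 4 ≤ (e : ℕ) by omega)
    omega
  have he0 := e.pos
  rw [hcard] at hq
  have hprime : p.Prime := Fact.out
  obtain ⟨k, hk⟩ : ∃ k, k = (e : ℕ) := ⟨e, rfl⟩
  rw [← hk] at hq hcard he he0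
  have hcases : (p = 5 ∧ k = 1) ∨ (p = 7 ∧ k = 1) ∨ (p = 2 ∧ k = 2) ∨ (p = 3 ∧ k = 2) := by
    interval_cases k <;> interval_cases p <;> first | omega | (exfalso; revert hprime; norm_num)
  rcases hcases with ⟨rfl, rfl⟩ | ⟨rfl, rfl⟩ | ⟨rfl, rfl⟩ | ⟨rfl, rfl⟩
  · exact small_prime (p := 5) (by simpa using hcard) (s := 2) (t := 3) _ (by simp) w5
  · exact small_prime (p := 7) (by simpa using hcard) (s := 3) (t := 6) _ (by simp) w7
  · obtain ⟨ω, hω, hω'⟩ : ∃ ω : F, ω * ω = 1 + ω ∧ ∀ a : ZMod 2, ω ≠ ZMod.castHom (dvd_refl 2) F a := by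
      obtain ⟨x, hx⟩ : ∃ x : F, x ∉ ({0, 1} : Finset F) := by
        refine Finset.exists_mem_notMem_of_card_lt_card (s := {0, 1}) (t := Finset.univ) ?_ |>.imp fun x h => h.2
        rw [Finset.card_univ, hcard]
        exact lt_of_le_of_lt Finset.card_le_two (by norm_num)
      simp only [Finset.mem_insert, Finset.mem_singleton, not_or] at hx
      have h3 := FiniteField.pow_card_sub_one_eq_one x hx.1
      rw [hcard] at h3
      norm_num at h3
      refine ⟨x, ?_, fun a h => ?_⟩
      · have h2 : (2 : F) = 0 := by exact_mod_cast CharP.cast_eq_zero F 2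
        have h4 : (x - 1) * (x * x + x + 1) = 0 := by linear_combination h3
        have h5 := (mul_eq_zero.1 h4).resolve_left (sub_ne_zero.2 hx.2)
        linear_combination h5 - (x + 1) * h2
      · rcases zmod2_cases a with rfl | rfl
        · exact hx.1 (by simpa using h)
        · exact hx.2 (h.trans (map_one _))
    exact small_quad (p := 2) (by simpa using hcard) hω hω' (s := ⟨0, 1⟩) (t := ⟨1, 1⟩) _ _
      (by simp) (by simp) w4a w4b
  · obtain ⟨ω, hω, hω'⟩ : ∃ ω : F, ω * ω = 1 + ω ∧ ∀ a : ZMod 3, ω ≠ ZMod.castHom (dvd_refl 3) F a := by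
      obtain ⟨g, hg⟩ := IsCyclic.exists_ofOrder_eq_natCard (α := Fˣ)
      rw [Nat.card_eq_fintype_card, Fintype.card_units, hcard] at hg
      norm_num at hg
      have h4 : ((g : F)) ^ 4 = -1 := by
        have h8 : ((g : F) ^ 4) ^ 2 = 1 := by
          rw [← pow_mul, ← Units.val_pow_eq_pow_val]
          have := pow_orderOf_eq_one g
          rw [hg] at this
          rw [show 4 * 2 = 8 from rfl, this, Units.val_one]
        refine (sq_eq_one_iff.1 h8).resolve_left fun h => ?_
        rw [← Units.val_pow_eq_pow_val, Units.val_eq_one] at h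
        have := orderOf_le_of_pow_eq_one (by norm_num) h
        omega
      have h30 : (3 : F) = 0 := by exact_mod_cast CharP.cast_eq_zero F 3
      have h5 : ((g : F) * g - g - 1) * ((g : F) * g + g - 1) = 0 := by
        linear_combination h4 - ((g : F) ^ 2) * h30
      have hne : ∀ x : F, x * x = 1 + x → ∀ a : ZMod 3, x ≠ ZMod.castHom (dvd_refl 3) F a := by
        intro x hx a h
        subst h
        rw [← map_mul, ← map_one (ZMod.castHom (dvd_refl 3) F), ← map_add] at hx
        have hh := (ZMod.castHom (dvd_refl 3) F).injective hx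
        exact no_root3 a hh
      rcases mul_eq_zero.1 h5 with h | h
      · exact ⟨g, by linear_combination h, hne g (by linear_combination h)⟩
      · exact ⟨-g, by linear_combination h, hne (-g) (by linear_combination h)⟩
    exact small_quad (p := 3) (by simpa using hcard) hω hω' (s := ⟨2, 1⟩) (t := ⟨2, 2⟩) _ _
      (by simp) (by simp) w9a w9b

end CfsgLib.RegUnipotentGen.Sp
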