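/-
Growing a non-degenerate subspace all of whose isotropic vectors are centres in a subgroup.
-/
import Cfsg.Agent.Lib.Transvec.UnitarySub
import Cfsg.Agent.Lib.Classical.UnitaryShort

set_option autoImplicit false
set_option linter.unusedSectionVars false

namespace CfsgLib.RegUnipotentGen.Herm

open Matrix CfsgLib.Transvec CfsgLib.Transvec.Unitary CfsgLib.Classical.Unitary
open scoped MatrixGroups

variable {ι : Type} [Fintype ι] [DecidableEq ι] {F : Type*} [Field F] {σ : F ≃+* F}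
  {f : (ι → F) → (ι → F) → F}

/-- An element of `M` moves `x` to `y` and fixes the orthogonal of `W`. -/
def Moves (f : (ι → F) → (ι → F) → F) (M : Subgroup (GL ι F)) (W : Submodule F (ι → F)) (x y : ι → F) : Prop :=
  ∃ g ∈ M, Iso f g ∧ (g : Matrix ι ι F) *ᵥ x = y ∧
    ∀ z, (∀ w ∈ W, f z w = 0) → (g : Matrix ι ι F) *ᵥ z = z

/-- No radical. -/
def NonDeg (f : (ι → F) → (ι → F) → F) (W : Submodule F (ι → F)) : Prop :=
  ∀ w ∈ W, w ≠ 0 → ∃ x ∈ W, f x w ≠ 0

/-- Every isotropic vector of `W` is a full centre. -/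
def AllFull (σ : F ≃+* F) (f : (ι → F) → (ι → F) → F) (M : Subgroup (GL ι F)) (W : Submodule F (ι → F)) : Prop :=
  ∀ x ∈ W, f x x = 0 → UFull σ f M x

/-- Transitivity on anisotropic vectors of equal norm. -/
def AnisoTrans (f : (ι → F) → (ι → F) → F) (M : Subgroup (GL ι F)) (W : Submodule F (ι → F)) : Prop :=
  ∀ x ∈ W, ∀ y ∈ W, f x x = f y y → f x x ≠ 0 → Moves f M W x y

/-- Transitivity on isotropic vectors. -/
def IsoTrans (f : (ι → F) → (ι → F) → F) (M : Subgroup (GL ι F)) (W : Submodule F (ι → F)) : Prop :=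
  ∀ x ∈ W, ∀ y ∈ W, x ≠ 0 → y ≠ 0 → f x x = 0 → f y y = 0 → Moves f M W x y

/-- Every isotropic vector of `W` has an orthogonal anisotropic vector in `W`. -/
def Wide (f : (ι → F) → (ι → F) → F) (W : Submodule F (ι → F)) : Prop :=
  ∀ x ∈ W, x ≠ 0 → f x x = 0 → ∃ k ∈ W, f k x = 0 ∧ f k k ≠ 0

/-- The state of the induction. -/
def Grown (σ : F ≃+* F) (f : (ι → F) → (ι → F) → F) (M : Subgroup (GL ι F)) (W : Submodule F (ι → F)) : Prop :=
  NonDeg f W ∧ AllFull σ f M W ∧ AnisoTrans f M W ∧ IsoTrans f M W ∧ Wide f W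

variable (hf : Cfsg.Geo.IsUnitaryForm σ f) {M : Subgroup (GL ι F)} {W : Submodule F (ι → F)}

include hf

theorem smul_self_form' {y : ι → F} (t : F) : f (t • y) (t • y) = t * σ t * f y y := by
  rw [hf.smul_left, smul_right' hf, mul_assoc]

theorem Moves.refl (x : ι → F) : Moves f M W x x :=
  ⟨1, one_mem M, fun a a' => by simp, by simp, fun z _ => by simp⟩

theorem Moves.trans {x y z : ι → F} (h : Moves f M W x y) (h' : Moves f M W y z) : Moves f M W x z := by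
  obtain ⟨g, hg, hgi, hgx, hgf⟩ := h
  obtain ⟨g', hg', hgi', hgy, hgf'⟩ := h'
  exact ⟨g' * g, mul_mem hg' hg, hgi'.mul hgi, by rw [mul_mulVec, hgx, hgy],
    fun w hw => by rw [mul_mulVec, hgf w hw, hgf' w hw]⟩

theorem Moves.symm {x y : ι → F} (h : Moves f M W x y) : Moves f M W y x := by
  obtain ⟨g, hg, hgi, hgx, hgf⟩ := h
  refine ⟨g⁻¹, inv_mem hg, hgi.inv, ?_, fun w hw => ?_⟩
  · rw [← hgx, ← mul_mulVec, inv_mul_cancel, Units.val_one, one_mulVec]
  · conv_lhs => rw [← hgf w hw]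
    rw [← mul_mulVec, inv_mul_cancel, Units.val_one, one_mulVec]

theorem Moves.mono {W' : Submodule F (ι → F)} (hle : W ≤ W') {x y : ι → F} (h : Moves f M W x y) :
    Moves f M W' x y := by
  obtain ⟨g, hg, hgi, hgx, hgf⟩ := h
  exact ⟨g, hg, hgi, hgx, fun z hz => hgf z fun w hw => hz w (hle hw)⟩

theorem Moves.ufull {x y : ι → F} (h : Moves f M W x y) (hy : UFull σ f M y) : UFull σ f M x := by
  obtain ⟨g, hg, hgi, hgx, -⟩ := h
  have := ufull_conj hf (inv_mem hg) hgi.inv hy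
  rwa [← hgx, ← mul_mulVec, inv_mul_cancel, Units.val_one, one_mulVec] at this

theorem Moves.transv {y : ι → F} (hyW : y ∈ W) (hy : UFull σ f M y) {t : F} (ht : t + σ t = 0) (x : ι → F) :
    Moves f M W x (x + (t * f x y) • y) :=
  ⟨uT f y t, hy.2 t ht, iso_uT hf hy.1 ht, uT_mulVec hf hy.1 t x,
    fun z hz => by rw [uT_mulVec hf hy.1, hz y hyW, mul_zero, zero_smul, add_zero]⟩

theorem exists_perp_aniso (hnd : NonDeg f W) {x : ι → F} (hx : x ∈ W) (hxx : f x x ≠ 0) {y : ι → F} (hy : y ∈ W)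
    (hyx : y ∉ Submodule.span F {x}) [Finite F] : ∃ k ∈ W, f k x = 0 ∧ f k k ≠ 0 := by
  obtain ⟨p, hp⟩ : ∃ p, p = y - (f y x / f x x) • x := ⟨_, rfl⟩
  have hpx : f p x = 0 := by rw [hp, sub_left' hf, hf.smul_left, div_mul_cancel₀ _ hxx, sub_self]
  have hp0 : p ≠ 0 := fun h0 => hyx (by
    rw [hp, sub_eq_zero] at h0
    exact Submodule.mem_span_singleton.2 ⟨_, h0.symm⟩)
  obtain ⟨k, hk, hkk⟩ := exists_aniso_of_ne hf hp0 (W ⊓ LinearMap.ker (linL hf x))
    ⟨hp ▸ W.sub_mem hy (W.smul_mem _ hx), hpx⟩ (by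
      rintro z ⟨hzW, hzx⟩ hall
      change f z x = 0 at hzx
      by_contra hz0
      obtain ⟨w, hwW, hw⟩ := hnd z hzW hz0
      refine hw ((eq_zero_comm hf).mp ?_)
      have h := hall (w - (f w x / f x x) • x) ⟨W.sub_mem hwW (W.smul_mem _ hx), ?_⟩
      · rwa [sub_right' hf, smul_right' hf, hzx, mul_zero, sub_zero] at h
      · change f (w - (f w x / f x x) • x) x = 0
        rw [sub_left' hf, hf.smul_left, div_mul_cancel₀ _ hxx, sub_self])
  exact ⟨k, hk.1, hk.2, hkk⟩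

/-- A vector of prescribed norm and prescribed product with a given vector. -/
theorem exists_fiber_sub [Finite F] (hnd : NonDeg f W) (h2 : ∀ x, ∃ y ∈ W, y ∉ Submodule.span F {x}) {ξ : ι → F}
    (hξ : ξ ∈ W) (hξ0 : ξ ≠ 0) {γ ν : F} (hν : σ ν = ν)
    (h : f ξ ξ ≠ 0 ∨ γ ≠ 0 ∨ ∃ k ∈ W, f k ξ = 0 ∧ f k k ≠ 0) :
    ∃ η ∈ W, f ξ η = γ ∧ f η η = ν := by
  have hfix : ∀ x, σ (f x x) = f x x := self_fixed hf
  by_cases hξξ : f ξ ξ = 0
  · obtain ⟨y0, hy0W, hy0⟩ := hnd ξ hξ hξ0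
    have hy0' : f ξ y0 ≠ 0 := fun h0 => hy0 ((eq_zero_comm hf).mp h0)
    obtain ⟨a, ha⟩ : ∃ a, a = σ (γ / f ξ y0) := ⟨_, rfl⟩
    have h1 : f ξ (a • y0) = γ := by rw [smul_right' hf, ha, hf.involutive, div_mul_cancel₀ _ hy0']
    rcases h.resolve_left (not_not.2 hξξ) with hγ | ⟨k, hkW, hkξ, hkk⟩
    · obtain ⟨c, hc⟩ := exists_trace_eq hf.ne_refl hf.involutive (b := ν - f (a • y0) (a • y0))
        (by rw [map_sub, hν, hfix])
      refine ⟨a • y0 + (c / γ) • ξ, W.add_mem (W.smul_mem _ hy0W) (W.smul_mem _ hξ), ?_, ?_⟩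
      · rw [add_right' hf, h1, smul_right' hf, hξξ, mul_zero, add_zero]
      · have hσγ : σ γ ≠ 0 := (map_ne_zero_iff _ σ.injective).2 hγ
        have h1' : f (a • y0) ξ = σ γ := by rw [hf.herm, h1]
        rw [hf.add_left, add_right' hf, add_right' hf, hf.smul_left (c / γ) ξ (a • y0),
          hf.smul_left (c / γ) ξ ((c / γ) • ξ), smul_right' hf (c / γ) (a • y0), smul_right' hf (c / γ) ξ, hξξ,
          h1, h1', map_div₀, mul_zero, mul_zero, add_zero, div_mul_cancel₀ _ hσγ, div_mul_cancel₀ _ hγ]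
        linear_combination hc
    · obtain ⟨z, hz⟩ : ∃ z, z = a • y0 - (f (a • y0) k / f k k) • k := ⟨_, rfl⟩
      have hzk : f z k = 0 := by
        rw [hz, sub_left' hf, hf.smul_left (f (a • y0) k / f k k) k k, div_mul_cancel₀ _ hkk, sub_self]
      have hzξ : f ξ z = γ := by
        rw [hz, sub_right' hf, h1, smul_right' hf, (eq_zero_comm hf).mp hkξ, mul_zero, sub_zero]
      obtain ⟨c, hc⟩ := exists_norm_eq hf.ne_refl hf.involutive (b := (ν - f z z) / f k k)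
        (by rw [map_div₀, map_sub, hν, hfix, hfix])
      refine ⟨z + c • k, W.add_mem (hz ▸ W.sub_mem (W.smul_mem _ hy0W) (W.smul_mem _ hkW)) (W.smul_mem _ hkW),
        ?_, ?_⟩
      · rw [add_right' hf, hzξ, smul_right' hf, (eq_zero_comm hf).mp hkξ, mul_zero, add_zero]
      · rw [hf.add_left, add_right' hf, add_right' hf, hf.smul_left, hf.smul_left, smul_right' hf, smul_right' hf,
          hzk, (eq_zero_comm hf).mp hzk, mul_zero, add_zero, mul_zero, zero_add, ← mul_assoc, hc,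
          div_mul_cancel₀ _ hkk, add_sub_cancel]
  · obtain ⟨y, hyW, hy⟩ := h2 ξ
    obtain ⟨k, hkW, hkξ, hkk⟩ := exists_perp_aniso hf hnd hξ hξξ hyW hy
    obtain ⟨a, ha⟩ : ∃ a, a = σ (γ / f ξ ξ) := ⟨_, rfl⟩
    obtain ⟨c, hc⟩ := exists_norm_eq hf.ne_refl hf.involutive (b := (ν - a * σ a * f ξ ξ) / f k k)
      (by rw [map_div₀, map_sub, map_mul, map_mul, hν, hfix, hfix, hf.involutive, mul_comm (σ a)])
    refine ⟨a • ξ + c • k, W.add_mem (W.smul_mem _ hξ) (W.smul_mem _ hkW), ?_, ?_⟩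
    · rw [add_right' hf, smul_right' hf, smul_right' hf, (eq_zero_comm hf).mp hkξ, mul_zero, add_zero, ha,
        hf.involutive, div_mul_cancel₀ _ hξξ]
    · rw [hf.add_left, add_right' hf, add_right' hf, hf.smul_left, hf.smul_left, hf.smul_left, hf.smul_left,
        smul_right' hf, smul_right' hf, smul_right' hf, smul_right' hf, hkξ, (eq_zero_comm hf).mp hkξ, mul_zero,
        mul_zero, add_zero, mul_zero, mul_zero, zero_add, ← mul_assoc, ← mul_assoc, hc, div_mul_cancel₀ _ hkk,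
        add_sub_cancel]

/-- One non-degenerate step. -/
theorem extend [Finite F] (hnd : NonDeg f W) (hfull : AllFull σ f M W) (htr : AnisoTrans f M W)
    (h2 : ∀ x, ∃ y ∈ W, y ∉ Submodule.span F {x}) {π r : ι → F} (hπ : π ∈ W)
    (hr : ∀ w ∈ W, f r w = 0) (hrr : f r r ≠ 0) (hw : UFull σ f M (π + r))
    (hq : Wide f W ∨ ∀ ρ : F, σ ρ = ρ → ρ ≠ 0 → ∃ t : F, t + σ t = 0 ∧ t ≠ 0 ∧ t⁻¹ + ρ ≠ 0) :
    Grown σ f M (W ⊔ Submodule.span F {π + r}) := by
  set W' := W ⊔ Submodule.span F {π + r} with hW'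
  set ρ := f r r with hρ
  have hσρ : σ ρ = ρ := self_fixed hf r
  have hWW' : W ≤ W' := le_sup_left
  have hrW' : r ∈ W' := by
    have : π + r ∈ W' := Submodule.mem_sup_right (Submodule.mem_span_singleton_self _)
    simpa using W'.sub_mem this (hWW' hπ)
  have hwW : π + r ∈ W' := Submodule.mem_sup_right (Submodule.mem_span_singleton_self _)
  have hr' : ∀ w ∈ W, f w r = 0 := fun w hw' => (eq_zero_comm hf).mp (hr w hw')
  have hdec : ∀ x ∈ W', ∃ ξ ∈ W, ∃ s : F, x = ξ + s • r := by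
    intro x hx
    obtain ⟨a, ha, b, hb, rfl⟩ := Submodule.mem_sup.1 hx
    obtain ⟨s, rfl⟩ := Submodule.mem_span_singleton.1 hb
    exact ⟨a + s • π, W.add_mem ha (W.smul_mem _ hπ), s, by module⟩
  have hform : ∀ ξ ∈ W, ∀ η ∈ W, ∀ s s' : F, f (ξ + s • r) (η + s' • r) = f ξ η + s * σ s' * ρ := by
    intro ξ hξ η hη s s'
    rw [hf.add_left, add_right' hf, add_right' hf, hf.smul_left, hf.smul_left, smul_right' hf, smul_right' hf,
      hr' ξ hξ, hr η hη]
    ring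
  have hππ : f π π = -ρ := by
    have h := hw.1
    rw [← one_smul F r, hform π hπ π hπ, map_one] at h
    linear_combination h
  have hπ0 : π ≠ 0 := fun h0 => hrr (by rw [h0, zero_left' hf] at hππ; linear_combination hππ)
  -- every isotropic vector off `W` moves to the line of the new centre
  have hsw : ∀ ξ ∈ W, ∀ s : F, s ≠ 0 → f (ξ + s • r) (ξ + s • r) = 0 →
      Moves f M W' (ξ + s • r) (s • (π + r)) := by
    intro ξ hξ s hs h
    rw [hform ξ hξ ξ hξ] at h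
    have hN : f ξ ξ = f (s • π) (s • π) := by
      rw [hf.smul_left, smul_right' hf, hππ]; linear_combination h
    have hξ0 : f ξ ξ ≠ 0 := by
      rw [hN, hf.smul_left, smul_right' hf, hππ]
      exact mul_ne_zero hs (mul_ne_zero ((map_ne_zero_iff _ σ.injective).2 hs) (neg_ne_zero.2 hrr))
    obtain ⟨g, hg, hgi, hgx, hgf⟩ := htr ξ hξ (s • π) (W.smul_mem _ hπ) hN hξ0
    refine ⟨g, hg, hgi, ?_, fun z hz => hgf z fun w hw' => hz w (hWW' hw')⟩
    rw [mulVec_add, hgx, mulVec_smul, hgf r hr, smul_add]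
  have hfull' : AllFull σ f M W' := by
    intro x hx hxx
    obtain ⟨ξ, hξ, s, rfl⟩ := hdec x hx
    by_cases hs : s = 0
    · rw [hs, zero_smul, add_zero] at hxx ⊢; exact hfull ξ hξ hxx
    · exact (hsw ξ hξ s hs hxx).ufull hf (ufull_smul hf hw s)
  -- changing the coefficient of `r` by a transvection
  have hstep : ∀ ξ ∈ W, ∀ η ∈ W, ∀ s t : F, f η η = -ρ → t + σ t = 0 →
      ∃ ξ' ∈ W, Moves f M W' (ξ + s • r) (ξ' + (s + t * (f ξ η + s * ρ)) • r) := by
    intro ξ hξ η hη s t hηη ht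
    have hyW : η + (1 : F) • r ∈ W' := W'.add_mem (hWW' hη) (W'.smul_mem _ hrW')
    have hy : UFull σ f M (η + (1 : F) • r) := hfull' _ hyW (by
      rw [hform η hη η hη, hηη, map_one]; ring)
    refine ⟨ξ + (t * (f ξ η + s * ρ)) • η, W.add_mem hξ (W.smul_mem _ hη), ?_⟩
    have := Moves.transv hf hyW hy ht (ξ + s • r)
    rw [hform ξ hξ η hη, map_one, mul_one] at this
    convert this using 1
    module
  have hρ' : σ (-ρ) = -ρ := by rw [map_neg, hσρ]
  -- anisotropic vectors move into `W`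
  have hdown : ∀ x ∈ W', f x x ≠ 0 → ∃ ξ ∈ W, Moves f M W' x ξ := by
    intro x hx hxx
    have hnz : ∀ ξ ∈ W, ξ ≠ 0 → ∀ s : F, f (ξ + s • r) (ξ + s • r) ≠ 0 →
        ∃ ξ' ∈ W, Moves f M W' (ξ + s • r) ξ' := by
      intro ξ hξ hξ0 s hx'
      by_cases hs : s = 0
      · refine ⟨ξ, hξ, ?_⟩
        rw [hs, zero_smul, add_zero]
        exact Moves.refl hf ξ
      obtain ⟨t, ht, ht0, hcase⟩ : ∃ t : F, t + σ t = 0 ∧ t ≠ 0 ∧
          (f ξ ξ ≠ 0 ∨ -s / t - s * ρ ≠ 0 ∨ ∃ k ∈ W, f k ξ = 0 ∧ f k k ≠ 0) := by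
        obtain ⟨t0, ht00, ht0⟩ := exists_skew hf.ne_refl hf.involutive
        by_cases hξξ : f ξ ξ = 0
        · rcases hq with hwide | hq
          · exact ⟨t0, ht0, ht00, Or.inr (Or.inr (hwide ξ hξ hξ0 hξξ))⟩
          · obtain ⟨t, ht, htn, hne⟩ := hq ρ hσρ hrr
            refine ⟨t, ht, htn, Or.inr (Or.inl ?_)⟩
            rw [show -s / t - s * ρ = -(s * (t⁻¹ + ρ)) by rw [div_eq_mul_inv]; ring]
            exact neg_ne_zero.2 (mul_ne_zero hs hne)
        · exact ⟨t0, ht0, ht00, Or.inl hξξ⟩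
      obtain ⟨η, hη, hξη, hηη⟩ := exists_fiber_sub hf hnd h2 hξ hξ0 hρ' hcase
      obtain ⟨ξ', hξ', hm⟩ := hstep ξ hξ η hη s t hηη ht
      refine ⟨ξ', hξ', ?_⟩
      rw [hξη, show s + t * (-s / t - s * ρ + s * ρ) = 0 by field_simp; ring, zero_smul, add_zero] at hm
      exact hm
    obtain ⟨ξ, hξ, s, rfl⟩ := hdec x hx
    by_cases hξ0 : ξ = 0
    · subst hξ0
      have hs : s ≠ 0 := by
        rintro rfl
        simp [zero_left' hf] at hxx
      obtain ⟨t0, ht00, ht0⟩ := exists_skew hf.ne_refl hf.involutive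
      have hm := Moves.transv hf hwW hw ht0 ((0 : ι → F) + s • r)
      obtain ⟨c, hc, hc0⟩ : ∃ c : F, t0 * f (0 + s • r) (π + r) = c ∧ c ≠ 0 := by
        refine ⟨_, rfl, mul_ne_zero ht00 ?_⟩
        have hh := hform 0 W.zero_mem π hπ s 1
        rw [one_smul] at hh
        rw [hh, zero_left' hf, map_one]
        simp [hs, hrr]
      rw [hc, show (0 : ι → F) + s • r + c • (π + r) = c • π + (s + c) • r by module] at hm
      obtain ⟨g, -, hgi, hgx, -⟩ := id hm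
      obtain ⟨ξ', hξ', h'⟩ := hnz (c • π) (W.smul_mem _ hπ) (smul_ne_zero hc0 hπ0) (s + c)
        (by rw [← hgx, hgi]; exact hxx)
      exact ⟨ξ', hξ', hm.trans hf h'⟩
    · exact hnz ξ hξ hξ0 s hxx
  refine ⟨?_, hfull', ?_, ?_, ?_⟩
  · intro x hx hx0
    obtain ⟨ξ, hξ, s, rfl⟩ := hdec x hx
    by_cases hs : s = 0
    · rw [hs, zero_smul, add_zero] at hx0 ⊢
      obtain ⟨y, hy, hne⟩ := hnd ξ hξ hx0
      exact ⟨y, hWW' hy, hne⟩
    · refine ⟨r, hrW', ?_⟩
      rw [add_right' hf, smul_right' hf, hr ξ hξ, zero_add]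
      exact mul_ne_zero ((map_ne_zero_iff _ σ.injective).2 hs) hrr
  · intro x hx y hy hxy hxx
    obtain ⟨ξ, hξ, h1⟩ := hdown x hx hxx
    obtain ⟨η, hη, h1'⟩ := hdown y hy (hxy ▸ hxx)
    obtain ⟨g, -, hgi, hgx, -⟩ := id h1
    obtain ⟨g', -, hgi', hgy, -⟩ := id h1'
    have he : f ξ ξ = f η η := by rw [← hgx, ← hgy, hgi, hgi', hxy]
    have hne : f ξ ξ ≠ 0 := by rw [← hgx, hgi]; exact hxx
    exact h1.trans hf (((htr ξ hξ η hη he hne).mono hf hWW').trans hf (h1'.symm hf))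
  · -- transitivity on isotropic vectors: everything moves to the new centre
    have hnz : ∀ ξ ∈ W, ∀ s : F, s ≠ 0 → f (ξ + s • r) (ξ + s • r) = 0 →
        Moves f M W' (ξ + s • r) (π + r) := by
      intro ξ hξ s hs hxx
      refine (hsw ξ hξ s hs hxx).trans hf ?_
      obtain ⟨t, ht0, ht⟩ := exists_skew hf.ne_refl hf.involutive
      have hπn : f π π ≠ 0 := hππ ▸ neg_ne_zero.2 hrr
      obtain ⟨η, hη, hγ, hηη⟩ := exists_fiber_sub hf hnd h2 (W.smul_mem s hπ) (smul_ne_zero hs hπ0)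
        (γ := (1 - s) / t - s * ρ) hρ'
        (Or.inl (by rw [smul_self_form' hf]; exact mul_ne_zero (mul_ne_zero hs ((map_ne_zero_iff _ σ.injective).2 hs)) hπn))
      obtain ⟨ξ', hξ', hm⟩ := hstep (s • π) (W.smul_mem s hπ) η hη s t hηη ht
      rw [hγ, show s + t * ((1 - s) / t - s * ρ + s * ρ) = 1 by field_simp; ring] at hm
      obtain ⟨g, -, hgi, hgx, -⟩ := id hm
      have h0 : f (ξ' + (1 : F) • r) (ξ' + (1 : F) • r) = 0 := by
        rw [← hgx, hgi, ← smul_add, smul_self_form' hf, hw.1, mul_zero]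
      have := hm.trans hf (hsw ξ' hξ' 1 one_ne_zero h0)
      rwa [← smul_add, one_smul] at this
    have hto : ∀ x ∈ W', x ≠ 0 → f x x = 0 → Moves f M W' x (π + r) := by
      intro x hx hx0 hxx
      obtain ⟨ξ, hξ, s, rfl⟩ := hdec x hx
      by_cases hs : s = 0
      · subst hs
        rw [zero_smul, add_zero] at hx0 hxx ⊢
        obtain ⟨t, ht0, ht⟩ := exists_skew hf.ne_refl hf.involutive
        obtain ⟨η, hη, hγ, hηη⟩ := exists_fiber_sub hf hnd h2 hξ hx0 (γ := 1) hρ' (Or.inr (Or.inl one_ne_zero))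
        obtain ⟨ξ', hξ', hm⟩ := hstep ξ hξ η hη 0 t hηη ht
        rw [hγ, zero_smul, add_zero, show (0 : F) + t * (1 + 0 * ρ) = t by ring] at hm
        obtain ⟨g, -, hgi, hgx, -⟩ := id hm
        exact hm.trans hf (hnz ξ' hξ' t ht0 (by rw [← hgx, hgi]; exact hxx))
      · exact hnz ξ hξ s hs hxx
    exact fun x hx y hy hx0 hy0 hxx hyy => (hto x hx hx0 hxx).trans hf ((hto y hy hy0 hyy).symm hf)
  · intro x hx hx0 hxx
    obtain ⟨ξ, hξ, s, rfl⟩ := hdec x hx
    by_cases hs : s = 0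
    · refine ⟨r, hrW', ?_, hrr⟩
      rw [hs, zero_smul, add_zero]
      exact hr ξ hξ
    · have hξξ : f ξ ξ ≠ 0 := fun h0 => by
        rw [hform ξ hξ ξ hξ, h0, zero_add] at hxx
        exact mul_ne_zero (mul_ne_zero hs ((map_ne_zero_iff _ σ.injective).2 hs)) hrr hxx
      obtain ⟨y, hy, hyξ⟩ := h2 ξ
      obtain ⟨k, hk, hkξ, hkk⟩ := exists_perp_aniso hf hnd hξ hξξ hy hyξ
      refine ⟨k, hWW' hk, ?_, hkk⟩
      rw [add_right' hf, smul_right' hf, hkξ, hr' k hk, mul_zero, add_zero]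

end CfsgLib.RegUnipotentGen.Herm
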