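/-
Extracting a transvection from a product of two with adjacent centres.
-/
import Cfsg.Agent.Lib.KnownSimple.RegUnipotentGen.SL2Small
import Cfsg.Agent.Lib.Classical.UnitarySimple

set_option autoImplicit false
set_option linter.unusedSectionVars false

namespace CfsgLib.RegUnipotentGen.Herm

open Matrix CfsgLib.Transvec CfsgLib.Transvec.Unitary CfsgLib.Classical.Unitary CfsgLib.RegUnipotentGen.Sp
open scoped MatrixGroups commutatorElement

/-- The fixed field. -/
def fixF {F : Type*} [Field F] (σ : F ≃+* F) : Subfield F := (σ : F →+* F).eqLocusField (RingHom.id F)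

theorem mem_fixF {F : Type*} [Field F] {σ : F ≃+* F} {x : F} : x ∈ fixF σ ↔ σ x = x := Iff.rfl

variable {ι : Type} [Fintype ι] [DecidableEq ι] {F : Type*} [Field F] {σ : F ≃+* F}
  {f : (ι → F) → (ι → F) → F}

theorem card_fixF [Fintype F] [Fintype (fixF σ)] {q : ℕ} (hF : Fintype.card F = q ^ 2)
    (hinv : ∀ x, σ (σ x) = x) (hne : σ ≠ RingEquiv.refl F) : Fintype.card (fixF σ) = q := by
  obtain ⟨τ, hτ0, hτ⟩ := exists_skew hne hinv
  obtain ⟨e, he⟩ := exists_trace_eq hne hinv (b := (1 : F)) (map_one σ)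
  have hσe : σ e = 1 - e := by linear_combination he
  have hb : Function.Bijective (fun p : fixF σ × fixF σ => (p.1 : F) * e + (p.2 : F) * τ) := by
    constructor
    · rintro ⟨a, b⟩ ⟨a', b'⟩ h
      simp only at h
      have h' := congrArg σ h
      simp only [map_add, map_mul, mem_fixF.1 a.2, mem_fixF.1 b.2, mem_fixF.1 a'.2, mem_fixF.1 b'.2] at h'
      have ha : (a : F) = a' := by linear_combination h + h' - ((a : F) - a') * he - ((b : F) - b') * hτ
      rw [ha, add_right_inj] at h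
      exact Prod.ext (Subtype.ext ha) (Subtype.ext (mul_right_cancel₀ hτ0 h))
    · intro x
      have hσb : σ ((x - (x + σ x) * e) / τ) = (x - (x + σ x) * e) / τ := by
        rw [map_div₀, map_sub, map_mul, map_add, hinv, hσe, show σ τ = -τ by linear_combination hτ]
        field_simp
        ring
      refine ⟨(⟨x + σ x, mem_fixF.2 (by rw [map_add, hinv, add_comm])⟩, ⟨_, mem_fixF.2 hσb⟩), ?_⟩
      simp only
      rw [div_mul_cancel₀ _ hτ0]
      ring
  have h := Fintype.card_of_bijective hb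
  rw [Fintype.card_prod, hF, ← sq] at h
  exact Nat.pow_left_injective two_ne_zero h

variable (hf : Cfsg.Geo.IsUnitaryForm σ f) {M : Subgroup (GL ι F)}

include hf

/-- The element from a conjugate of `u` by a transvection. -/
theorem letter_mem {u : GL ι F} (hu : Iso f u) (huM : u ∈ M) {x : ι → F} (hx : f x x = 0) {c : F}
    (hg : uT f x c * u * (uT f x c)⁻¹ ∈ M) : uT f ((u : Matrix ι ι F) *ᵥ x) c * uT f x (-c) ∈ M := by
  have hinv : (uT f x c)⁻¹ = uT f x (-c) := by
    refine inv_eq_of_mul_eq_one_right (gl_ext fun y => ?_)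
    rw [mul_mulVec, uT_mulVec hf hx, uT_mulVec hf hx, hf.add_left, hf.smul_left, hx, Units.val_one, one_mulVec]
    module
  have h := inv_mem (mul_mem hg (inv_mem huM))
  rwa [show (uT f x c * u * (uT f x c)⁻¹ * u⁻¹)⁻¹ = u * uT f x c * u⁻¹ * (uT f x c)⁻¹ by group,
    conj_uT hf hu hx, hinv] at h

/-- All transvections at the first of two adjacent centres. -/
theorem uT_mem_of_pair [Fintype F] [Fintype (fixF σ)] {v0 v1 : ι → F} (h0 : f v0 v0 = 0) (h1 : f v1 v1 = 0)
    {τ : F} (hτ0 : τ ≠ 0) (hτ : τ + σ τ = 0) (hn : f v0 v1 * σ (f v0 v1) = -(τ * τ)) {s t : fixF σ}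
    (hst : Subgroup.closure {E2 s, E2 t} = (⊤ : Subgroup SL(2, fixF σ)))
    (hs : uT f v1 (-(s : F) / τ) * uT f v0 ((s : F) / τ) ∈ M)
    (ht : uT f v1 (-(t : F) / τ) * uT f v0 ((t : F) / τ) ∈ M) {c : F} (hc : c + σ c = 0) :
    uT f v0 c ∈ M := by
  obtain ⟨b, hb⟩ : ∃ b, b = f v0 v1 := ⟨_, rfl⟩
  rw [← hb] at hn
  have hb0 : b ≠ 0 := fun h => hτ0 (mul_self_eq_zero.1 (by rw [h, zero_mul] at hn; linear_combination hn))
  have hσb : σ b ≠ 0 := (map_ne_zero_iff _ σ.injective).2 hb0
  have hστ : σ τ = -τ := by linear_combination hτ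
  obtain ⟨D, hD⟩ : ∃ D, D = (τ / σ b) • v1 := ⟨_, rfl⟩
  have h10 : f v1 v0 = σ b := by rw [hb]; exact hf.herm _ _
  have hDe : f D v0 = τ := by rw [hD, hf.smul_left, h10, div_mul_cancel₀ _ hσb]
  have heD : f v0 D = -τ := by rw [hf.herm, hDe, hστ]
  have hDD : f D D = 0 := by rw [hD, hf.smul_left, smul_right' hf, h1, mul_zero, mul_zero]
  let P : Submonoid SL(2, fixF σ) :=
    { carrier := {S | ∃ g ∈ M, (g : Matrix ι ι F) *ᵥ v0 = (S.1 0 0 : F) • v0 + (S.1 1 0 : F) • D ∧
        (g : Matrix ι ι F) *ᵥ D = (S.1 0 1 : F) • v0 + (S.1 1 1 : F) • D ∧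
        ∀ z, f z v0 = 0 → f z D = 0 → (g : Matrix ι ι F) *ᵥ z = z}
      one_mem' := ⟨1, one_mem M, by simp, by simp, fun z _ _ => by simp⟩
      mul_mem' := by
        rintro S T ⟨g, hg, hg1, hg2, hg3⟩ ⟨g', hg', hg1', hg2', hg3'⟩
        refine ⟨g * g', mul_mem hg hg', ?_, ?_, fun z hz hz' => by rw [mul_mulVec, hg3' z hz hz', hg3 z hz hz']⟩
        · rw [mul_mulVec, hg1', mulVec_add, mulVec_smul, mulVec_smul, hg1, hg2]
          simp only [Matrix.SpecialLinearGroup.coe_mul, Matrix.mul_apply, Fin.sum_univ_two, Subfield.coe_add,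
            Subfield.coe_mul]
          module
        · rw [mul_mulVec, hg2', mulVec_add, mulVec_smul, mulVec_smul, hg1, hg2]
          simp only [Matrix.SpecialLinearGroup.coe_mul, Matrix.mul_apply, Fin.sum_univ_two, Subfield.coe_add,
            Subfield.coe_mul]
          module }
  have hE : ∀ r : fixF σ, uT f v1 (-(r : F) / τ) * uT f v0 ((r : F) / τ) ∈ M → E2 r ∈ P := by
    intro r hr
    have hv1D : v1 = (σ b / τ) • D := by
      rw [hD, smul_smul, show σ b / τ * (τ / σ b) = 1 by field_simp, one_smul]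
    refine ⟨_, hr, ?_, ?_, fun z hz hz' => ?_⟩
    · rw [mul_mulVec, uT_mulVec hf h0, h0, mul_zero, zero_smul, add_zero, uT_mulVec hf h1, ← hb, E2_val]
      simp only [Matrix.of_apply, Matrix.cons_val', Matrix.cons_val_zero, Matrix.cons_val_one, Matrix.empty_val',
        Matrix.cons_val_fin_one, Subfield.coe_one, one_smul]
      conv_lhs => rw [hv1D, smul_smul]
      congr 2
      field_simp
      linear_combination (-(r : F)) * hn
    · rw [mul_mulVec, uT_mulVec hf h0, uT_mulVec hf h1, hf.add_left, hf.smul_left, hDe, ← hb, E2_val]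
      simp only [Matrix.of_apply, Matrix.cons_val', Matrix.cons_val_zero, Matrix.cons_val_one, Matrix.empty_val',
        Matrix.cons_val_fin_one, Subfield.coe_one, Subfield.coe_add, Subfield.coe_mul]
      rw [hD, hf.smul_left, h1, hv1D, hD]
      match_scalars <;> field_simp <;> first | linear_combination (-(r : F) * (r : F)) * hn | ring
    · have hz1 : f z v1 = 0 := by rw [hv1D, smul_right' hf, hz', mul_zero]
      rw [mul_mulVec, uT_mulVec hf h0, hz, mul_zero, zero_smul, add_zero, uT_mulVec hf h1, hz1, mul_zero,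
        zero_smul, add_zero]
  have hP : ∀ S, S ∈ P := by
    intro S
    have h : S ∈ Subgroup.closure {E2 s, E2 t} := hst ▸ Subgroup.mem_top S
    rw [← Subgroup.mem_toSubmonoid, Subgroup.closure_toSubmonoid_of_finite] at h
    exact (Submonoid.closure_le.2 (Set.insert_subset (hE s hs) (Set.singleton_subset_iff.2 (hE t ht)))) h
  have hcτ : c * τ ∈ fixF σ := mem_fixF.2 (by
    rw [map_mul, hστ, show σ c = -c by linear_combination hc]; ring)
  obtain ⟨g, hg, hg1, hg2, hg3⟩ := hP (upT ⟨c * τ, hcτ⟩)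
  rw [upT_val] at hg1 hg2
  simp only [Matrix.of_apply, Matrix.cons_val', Matrix.cons_val_zero, Matrix.cons_val_one, Matrix.empty_val',
    Matrix.cons_val_fin_one, Subfield.coe_one, Subfield.coe_zero, one_smul, zero_smul, add_zero] at hg1 hg2
  suffices g = uT f v0 c from this ▸ hg
  refine gl_ext fun x => ?_
  obtain ⟨z, hz⟩ : ∃ z, z = x + (f x D / τ) • v0 - (f x v0 / τ) • D := ⟨_, rfl⟩
  have hz0 : f z v0 = 0 := by
    rw [hz, sub_left' hf, hf.add_left, hf.smul_left, hf.smul_left, h0, hDe, div_mul_cancel₀ _ hτ0]; ring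
  have hzD : f z D = 0 := by
    rw [hz, sub_left' hf, hf.add_left, hf.smul_left, hf.smul_left, heD, hDD, mul_neg, div_mul_cancel₀ _ hτ0]
    ring
  have hx : x = z - (f x D / τ) • v0 + (f x v0 / τ) • D := by rw [hz]; module
  rw [uT_mulVec hf h0]
  conv_lhs => rw [hx, mulVec_add, mulVec_sub, mulVec_smul, mulVec_smul, hg3 z hz0 hzD, hg1, hg2]
  rw [hz]
  match_scalars <;> field_simp <;> ring

omit hf in
/-- A subgroup normalised by the element joining it to a perfect group contains that group. -/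
theorem le_of_perfect_adjoin {G : Type*} [Group G] {K M : Subgroup G} {g : G} (hperf : commutator K = ⊤)
    (hK : K ≤ M ⊔ Subgroup.zpowers g) (hg : g ∈ Subgroup.normalizer (M : Set G)) : K ≤ M := by
  set M' := M ⊔ Subgroup.zpowers g
  have hnorm : M' ≤ Subgroup.normalizer (M : Set G) :=
    sup_le Subgroup.le_normalizer ((Subgroup.zpowers_le).2 hg)
  have hdec : ∀ x ∈ M', ∃ m ∈ M, ∃ k : ℤ, x = m * g ^ k := by
    intro x hx
    have h : x ∈ ((M ⊔ Subgroup.zpowers g : Subgroup G) : Set G) := hx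
    rw [Subgroup.coe_mul_of_right_le_normalizer_left M (Subgroup.zpowers g) ?_] at h
    · obtain ⟨m, hm, z, hz, rfl⟩ := Set.mem_mul.1 h
      obtain ⟨k, rfl⟩ := Subgroup.mem_zpowers_iff.1 hz
      exact ⟨m, hm, k, rfl⟩
    · exact (Subgroup.zpowers_le).2 hg
  have hcomm : ∀ x ∈ M', ∀ y ∈ M', ⁅x, y⁆ ∈ M := by
    intro x hx y hy
    obtain ⟨m, hm, k, rfl⟩ := hdec x hx
    obtain ⟨m', hm', l, rfl⟩ := hdec y hy
    have hconj : ∀ z ∈ M', ∀ a ∈ M, z * a * z⁻¹ ∈ M := fun z hz a ha =>
      (Subgroup.mem_normalizer_iff.1 (hnorm hz) a).1 ha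
    have hk : ∀ j : ℤ, g ^ j ∈ M' := fun j => Subgroup.mem_sup_right (Subgroup.zpow_mem_zpowers g j)
    rw [show ⁅m * g ^ k, m' * g ^ l⁆ = m * (g ^ k * m' * (g ^ k)⁻¹) * (g ^ l * m⁻¹ * (g ^ l)⁻¹) * m'⁻¹ by
      rw [commutatorElement_def]; group]
    exact mul_mem (mul_mem (mul_mem hm (hconj _ (hk k) m' hm')) (hconj _ (hk l) _ (inv_mem hm))) (inv_mem hm')
  calc K = (commutator K).map K.subtype := by rw [hperf, ← MonoidHom.range_eq_map, Subgroup.range_subtype]
    _ ≤ M := by
      rw [commutator_def, Subgroup.map_commutator, ← MonoidHom.range_eq_map, Subgroup.range_subtype]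
      exact Subgroup.commutator_le.2 fun x hx y hy => hcomm x (hK hx) y (hK hy)

end CfsgLib.RegUnipotentGen.Herm
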