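/-
From a chain of full centres spanning the space to all transvections.
-/
import Cfsg.Agent.Lib.KnownSimple.RegUnipotentGen.SUOddClosure

set_option autoImplicit false
set_option linter.unusedSectionVars false

namespace CfsgLib.RegUnipotentGen.Herm

open Matrix CfsgLib.Transvec CfsgLib.Transvec.Unitary CfsgLib.Classical.Unitary
open scoped MatrixGroups

variable {ι : Type} [Fintype ι] [DecidableEq ι] {F : Type*} [Field F] {σ : F ≃+* F}
  {f : (ι → F) → (ι → F) → F}

variable (hf : Cfsg.Geo.IsUnitaryForm σ f) [Finite F] {M : Subgroup (GL ι F)} {W : Submodule F (ι → F)}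

include hf

/-- A non-degenerate subspace with an isotropic vector is no line. -/
theorem exists_not_mem_span (hnd : NonDeg f W) {v : ι → F} (hv : v ∈ W) (hv0 : v ≠ 0) (hvv : f v v = 0)
    (x : ι → F) : ∃ y ∈ W, y ∉ Submodule.span F {x} := by
  by_contra hcon
  push Not at hcon
  obtain ⟨y, hy, hne⟩ := hnd v hv hv0
  obtain ⟨a, ha⟩ := Submodule.mem_span_singleton.1 (hcon v hv)
  obtain ⟨c, hc⟩ := Submodule.mem_span_singleton.1 (hcon y hy)
  have ha0 : a ≠ 0 := fun h => hv0 (by rw [← ha, h, zero_smul])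
  refine hne ?_
  have hxx : f x x = 0 := by
    rw [← ha, smul_self_form' hf, mul_eq_zero, mul_eq_zero, map_eq_zero] at hvv
    rcases hvv with (h | h) | h
    · exact absurd h ha0
    · exact absurd h ha0
    · exact h
  rw [← hc, ← ha, hf.smul_left, smul_right' hf, hxx, mul_zero, mul_zero]

/-- Adding a full centre not in `W` and not orthogonal to it. -/
theorem exists_grown_gt (hW : Grown σ f M W) {n : ℕ} {v : ℕ → ι → F} (hv : ∀ i < n, UFull σ f M (v i))
    (hspan : Submodule.span F (v '' Set.Iio n) = ⊤) (hadj : ∀ i, i + 1 < n → f (v i) (v (i + 1)) ≠ 0)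
    (h0 : v 0 ∈ W) (hv0 : v 0 ≠ 0) (hn : 0 < n) (hWtop : W ≠ ⊤) :
    ∃ W', W < W' ∧ Grown σ f M W' := by
  obtain ⟨hnd, hfull, htr, hiso, hwide⟩ := hW
  have h2 := exists_not_mem_span hf hnd h0 hv0 (hv 0 hn).1
  obtain ⟨i, hi, hiW, hiW'⟩ : ∃ i, i + 1 < n ∧ v i ∈ W ∧ v (i + 1) ∉ W := by
    by_contra hcon
    push Not at hcon
    refine hWtop (top_le_iff.1 (hspan ▸ Submodule.span_le.2 ?_))
    rintro _ ⟨j, hj, rfl⟩
    induction j with
    | zero => exact h0
    | succ j ih => exact hcon j hj (ih (Set.mem_Iio.2 (Nat.lt_of_succ_lt hj)))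
  obtain ⟨π, hπ, r, hr, hπr⟩ := exists_add_perpU hf hnd (v (i + 1))
  rw [mem_perpU hf] at hr
  have hr' : ∀ w ∈ W, f w r = 0 := fun w hw => (eq_zero_comm hf).mp (hr w hw)
  have hr0 : r ≠ 0 := fun h => hiW' (by rw [← hπr, h, add_zero]; exact hπ)
  have hπi : f (v i) π ≠ 0 := by
    have h := hadj i hi
    rwa [← hπr, add_right' hf, hr' _ hiW, add_zero] at h
  have hπ0 : π ≠ 0 := fun h => hπi (by rw [h, zero_right' hf])
  have hw : UFull σ f M (π + r) := hπr ▸ hv (i + 1) hi
  have hext : ∀ π r : ι → F, π ∈ W → (∀ w ∈ W, f r w = 0) → f r r ≠ 0 → UFull σ f M (π + r) →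
      ∃ W', W < W' ∧ Grown σ f M W' := by
    intro π r hπ hr hrr hw
    refine ⟨_, ?_, extend hf hnd hfull htr h2 hπ hr hrr hw (Or.inl hwide)⟩
    refine lt_of_le_of_ne le_sup_left fun heq => hrr ?_
    have hm : π + r ∈ W ⊔ Submodule.span F {π + r} :=
      Submodule.mem_sup_right (Submodule.mem_span_singleton_self _)
    rw [← heq] at hm
    exact hr r (by simpa using W.sub_mem hm hπ)
  by_cases hrr : f r r = 0
  swap
  · exact hext π r hπ hr hrr hw
  -- the orthogonal part is isotropic: use another centre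
  have hππ : f π π = 0 := by
    have h := hw.1
    rw [hf.add_left, add_right' hf, add_right' hf, hr' π hπ, hr π hπ, hrr] at h
    linear_combination h
  obtain ⟨j, hj, hrj⟩ : ∃ j, j < n ∧ f r (v j) ≠ 0 := by
    by_contra hcon
    push Not at hcon
    obtain ⟨y, hy⟩ := (hf.nondegenerate r hr0).2
    refine hy ?_
    have hy' : y ∈ Submodule.span F (v '' Set.Iio n) := hspan ▸ Submodule.mem_top
    clear hy
    induction hy' using Submodule.span_induction with
    | mem z hz => obtain ⟨j, hj, rfl⟩ := hz; exact hcon j hj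
    | zero => exact zero_right' hf r
    | add z z' _ _ h h' => rw [add_right' hf, h, h', add_zero]
    | smul c z _ h => rw [smul_right' hf, h, mul_zero]
  obtain ⟨π', hπ', r', hr1, hπr'⟩ := exists_add_perpU hf hnd (v j)
  rw [mem_perpU hf] at hr1
  by_cases hrr' : f r' r' = 0
  swap
  · exact hext π' r' hπ' hr1 hrr' (hπr' ▸ hv j hj)
  -- reduce to a second centre with isotropic parts, both non-zero
  obtain ⟨π', hπ', hπ'0, r', hr1, hrr', hw', hA⟩ : ∃ π' ∈ W, π' ≠ 0 ∧ ∃ r', (∀ w ∈ W, f r' w = 0) ∧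
      f r' r' = 0 ∧ UFull σ f M (π' + r') ∧ f r r' ≠ 0 := by
    have hA : f r r' ≠ 0 := by
      rwa [← hπr', add_right' hf, hr π' hπ', zero_add] at hrj
    by_cases hπ'0 : π' = 0
    · have hr'full : UFull σ f M r' := by
        have := hv j hj
        rwa [← hπr', hπ'0, zero_add] at this
      obtain ⟨t, ht0, ht⟩ := exists_skew hf.ne_refl hf.involutive
      have hπr1 : f π r' = 0 := (eq_zero_comm hf).mp (hr1 π hπ)
      obtain ⟨c, hc⟩ : ∃ c, c = t * f r r' := ⟨_, rfl⟩
      refine ⟨π, hπ, hπ0, r + c • r', fun w hw' => ?_, ?_, ?_, ?_⟩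
      · rw [hf.add_left, hf.smul_left, hr w hw', hr1 w hw']; ring
      · rw [hf.add_left, add_right' hf, add_right' hf, hf.smul_left, hf.smul_left, smul_right' hf, smul_right' hf,
          hrr, hrr', hc, map_mul, hf.herm r' r]
        linear_combination (f r r' * σ (f r r')) * ht
      · have h := uT_add_smul hf hw hr'full.1 ht (hr'full.2 t ht)
        rwa [hf.add_left, hπr1, zero_add, ← hc, add_assoc] at h
      · rw [add_right' hf, smul_right' hf, hrr, zero_add, hc, map_mul]
        exact mul_ne_zero (mul_ne_zero ((map_ne_zero_iff _ σ.injective).2 ht0)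
          ((map_ne_zero_iff _ σ.injective).2 hA)) hA
    · exact ⟨π', hπ', hπ'0, r', hr1, hrr', hπr' ▸ hv j hj, hA⟩
  set A := f r r' with hAdef
  have hr1' : ∀ w ∈ W, f w r' = 0 := fun w hw => (eq_zero_comm hf).mp (hr1 w hw)
  have hππ' : f π' π' = 0 := by
    have h := hw'.1
    rw [hf.add_left, add_right' hf, add_right' hf, hr1' π' hπ', hr1 π' hπ', hrr'] at h
    linear_combination h
  obtain ⟨κ, hκ⟩ : ∃ κ, σ κ ≠ κ := by
    by_contra h
    simp only [not_exists, not_not] at h
    exact hf.ne_refl (RingEquiv.ext h)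
  have hκ0 : κ ≠ 0 := fun h => hκ (by rw [h, map_zero])
  -- an isotropic vector with the desired product
  obtain ⟨πs, hπs, hπs0, hπss, hG⟩ : ∃ πs ∈ W, πs ≠ 0 ∧ f πs πs = 0 ∧ f πs π' = A * κ := by
    obtain ⟨y, hy, hne⟩ := hnd π' hπ' hπ'0
    obtain ⟨y1, hy1⟩ : ∃ y1, y1 = (A * κ / f y π') • y := ⟨_, rfl⟩
    have h1 : f y1 π' = A * κ := by rw [hy1, hf.smul_left, div_mul_cancel₀ _ hne]
    have hσ0 : σ (A * κ) ≠ 0 := (map_ne_zero_iff _ σ.injective).2 (mul_ne_zero hA hκ0)
    have h1' : f π' y1 = σ (A * κ) := by rw [hf.herm, h1]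
    obtain ⟨c, hc⟩ := exists_trace_eq hf.ne_refl hf.involutive (b := -f y1 y1) (by rw [map_neg, self_fixed hf])
    have e : f (y1 + (c / σ (A * κ)) • π') π' = A * κ := by
      rw [hf.add_left, hf.smul_left, hππ', mul_zero, add_zero, h1]
    refine ⟨y1 + (c / σ (A * κ)) • π', W.add_mem (hy1 ▸ W.smul_mem _ hy) (W.smul_mem _ hπ'), fun h0 => ?_, ?_, e⟩
    · rw [h0, zero_left' hf] at e
      exact mul_ne_zero hA hκ0 e.symm
    · rw [hf.add_left, add_right' hf, add_right' hf, hf.smul_left (c / σ (A * κ)) π' y1,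
        hf.smul_left (c / σ (A * κ)) π' ((c / σ (A * κ)) • π'), smul_right' hf (c / σ (A * κ)) y1 π',
        smul_right' hf (c / σ (A * κ)) π' π', hππ', h1, h1', map_div₀, hf.involutive, mul_zero, mul_zero, add_zero,
        div_mul_cancel₀ _ hσ0, div_mul_cancel₀ _ (mul_ne_zero hA hκ0)]
      linear_combination hc
  obtain ⟨g, hg, hgi, hgπ, hgf⟩ := hiso π hπ πs hπs hπ0 hπs0 hππ hπss
  have hws : UFull σ f M (πs + r) := by
    have h := ufull_conj hf hg hgi hw
    rwa [mulVec_add, hgπ, hgf r hr] at h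
  obtain ⟨t, ht0, ht⟩ := exists_skew hf.ne_refl hf.involutive
  have h3 := uT_add_smul hf hws hw'.1 ht (hw'.2 t ht)
  obtain ⟨G, hGdef⟩ : ∃ G, G = t * f (πs + r) (π' + r') := ⟨_, rfl⟩
  have hGv : G = t * (A * (κ + 1)) := by
    rw [hGdef, hf.add_left, add_right' hf, add_right' hf, hG, hr1' πs hπs, hr π' hπ']
    ring
  rw [← hGdef, show πs + r + G • (π' + r') = (πs + G • π') + (r + G • r') by module] at h3
  refine hext _ _ (W.add_mem hπs (W.smul_mem _ hπ')) (fun w hw => ?_) ?_ h3
  · rw [hf.add_left, hf.smul_left, hr w hw, hr1 w hw]; ring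
  · rw [hf.add_left, add_right' hf, add_right' hf, hf.smul_left, hf.smul_left, smul_right' hf, smul_right' hf, hrr,
      hrr', hf.herm r' r, ← hAdef, hGv, map_mul, map_mul, map_add, map_one, show σ t = -t by linear_combination ht,
      show (0 : F) + -t * (σ A * (σ κ + 1)) * A + (t * (A * (κ + 1)) * σ A +
        t * (A * (κ + 1)) * (-t * (σ A * (σ κ + 1)) * 0)) = t * (A * σ A) * (κ - σ κ) by ring]
    exact mul_ne_zero (mul_ne_zero ht0 (mul_ne_zero hA ((map_ne_zero_iff _ σ.injective).2 hA)))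
      (sub_ne_zero.2 (Ne.symm hκ))

/-- The closure theorem. -/
theorem transvGroup_le_of_grown (hW : Grown σ f M W) {n : ℕ} {v : ℕ → ι → F} (hv : ∀ i < n, UFull σ f M (v i))
    (hspan : Submodule.span F (v '' Set.Iio n) = ⊤) (hadj : ∀ i, i + 1 < n → f (v i) (v (i + 1)) ≠ 0)
    (h0 : v 0 ∈ W) (hv0 : v 0 ≠ 0) (hn : 0 < n) : transvGroup σ f ≤ M := by
  revert hW h0
  induction W using (WellFoundedGT.induction (α := Submodule F (ι → F))) with
  | ind W ih =>
    intro hW h0
    by_cases htop : W = ⊤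
    · refine transvGroup_le_of hf fun x hx c hc => ?_
      exact (hW.2.1 x (htop ▸ Submodule.mem_top) hx).2 c hc
    · obtain ⟨W', hlt, hW'⟩ := exists_grown_gt hf hW hv hspan hadj h0 hv0 hn htop
      exact ih W' hlt hW' (hlt.le h0)

/-- A hyperbolic plane spanned by two full centres. -/
theorem plane_grown {e d : ι → F} (he : UFull σ f M e) (hd : UFull σ f M d) (hed : f e d = 1) :
    NonDeg f (Submodule.span F {e, d}) ∧ AllFull σ f M (Submodule.span F {e, d}) ∧
      AnisoTrans f M (Submodule.span F {e, d}) := by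
  have hde : f d e = 1 := by rw [hf.herm, hed, map_one]
  have hee := he.1
  have hdd := hd.1
  set P := Submodule.span F ({e, d} : Set (ι → F)) with hP
  have heP : e ∈ P := Submodule.subset_span (by simp)
  have hdP : d ∈ P := Submodule.subset_span (by simp)
  have hform : ∀ α β α' β' : F, f (α • e + β • d) (α' • e + β' • d) = α * σ β' + β * σ α' := by
    intro α β α' β'
    simp only [hf.add_left, add_right' hf, hf.smul_left, smul_right' hf, hee, hdd, hed, hde]
    ring
  have hTe : ∀ α β t : F, t + σ t = 0 → Moves f M P (α • e + β • d) ((α + t * β) • e + β • d) := by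
    intro α β t ht
    have h := Moves.transv hf heP he ht (α • e + β • d)
    rw [hf.add_left, hf.smul_left, hf.smul_left, hee, hde] at h
    convert h using 1
    module
  have hTd : ∀ α β t : F, t + σ t = 0 → Moves f M P (α • e + β • d) (α • e + (β + t * α) • d) := by
    intro α β t ht
    have h := Moves.transv hf hdP hd ht (α • e + β • d)
    rw [hf.add_left, hf.smul_left, hf.smul_left, hdd, hed] at h
    convert h using 1
    module
  refine ⟨?_, ?_, ?_⟩
  · intro x hx hx0
    obtain ⟨α, β, rfl⟩ := Submodule.mem_span_pair.1 hx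
    by_cases hβ : β = 0
    · refine ⟨d, hdP, ?_⟩
      have hα : α ≠ 0 := fun h => hx0 (by rw [hβ, h]; simp)
      rw [add_right' hf, smul_right' hf, smul_right' hf, hde, hdd]
      simpa using hα
    · refine ⟨e, heP, ?_⟩
      rw [add_right' hf, smul_right' hf, smul_right' hf, hed, hee]
      simpa using hβ
  · intro x hx hxx
    obtain ⟨α, β, rfl⟩ := Submodule.mem_span_pair.1 hx
    rw [hform] at hxx
    by_cases hβ : β = 0
    · rw [hβ, zero_smul, add_zero]
      exact ufull_smul hf he α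
    · have ht : α / β + σ (α / β) = 0 := by
        have hσβ : σ β ≠ 0 := (map_ne_zero_iff _ σ.injective).2 hβ
        rw [map_div₀]
        field_simp
        linear_combination hxx
      have h := hTe 0 β (α / β) ht
      rw [zero_add, div_mul_cancel₀ _ hβ, zero_smul, zero_add] at h
      exact (h.symm hf).ufull hf (ufull_smul hf hd β)
  · intro x hx y hy hxy hxx
    -- normal form `(a, 1)`
    have hnorm : ∀ x ∈ P, f x x ≠ 0 → ∃ a : F, Moves f M P x (a • e + (1 : F) • d) := by
      intro x hx hxx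
      obtain ⟨α, β, rfl⟩ := Submodule.mem_span_pair.1 hx
      rw [hform] at hxx
      obtain ⟨τ, hτ0, hτ⟩ := exists_skew hf.ne_refl hf.involutive
      obtain ⟨α₁, β₁, hm, hβ1, hne⟩ : ∃ α₁ β₁, Moves f M P (α • e + β • d) (α₁ • e + β₁ • d) ∧ σ β₁ ≠ β₁ ∧
          α₁ * σ β₁ + β₁ * σ α₁ ≠ 0 := by
        by_cases hβ : σ β = β
        · refine ⟨α, β + τ * α, hTd α β τ hτ, fun h => hxx ?_, ?_⟩
          · rw [map_add, map_mul, hβ, show σ τ = -τ by linear_combination hτ] at h
            have h1 : τ * (α + σ α) = 0 := by linear_combination -h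
            rw [hβ]
            linear_combination β * (mul_eq_zero.1 h1).resolve_left hτ0
          · convert hxx using 1
            rw [map_add, map_mul]
            linear_combination (α * σ α) * hτ
        · exact ⟨α, β, Moves.refl hf _, hβ, hxx⟩
      obtain ⟨L, hL⟩ : ∃ L, L = (1 - β₁) * σ α₁ + (1 - σ β₁) * α₁ := ⟨_, rfl⟩
      have hd0 : σ β₁ - β₁ ≠ 0 := sub_ne_zero.2 hβ1
      obtain ⟨t, ht⟩ : ∃ t, t = L / (σ β₁ - β₁) := ⟨_, rfl⟩
      have htd : t * (σ β₁ - β₁) = L := by rw [ht, div_mul_cancel₀ _ hd0]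
      have htt : t + σ t = 0 := by
        have hσL : σ L = L := by
          rw [hL]; simp only [map_add, map_mul, map_sub, map_one, hf.involutive]; ring
        have h := congrArg σ htd
        rw [map_mul, map_sub, hf.involutive, hσL] at h
        have h2 : (t + σ t) * (σ β₁ - β₁) = 0 := by linear_combination htd - h
        exact (mul_eq_zero.1 h2).resolve_right hd0
      obtain ⟨α₂, hα₂⟩ : ∃ α₂, α₂ = α₁ + t * β₁ := ⟨_, rfl⟩
      have hm2 : Moves f M P (α • e + β • d) (α₂ • e + β₁ • d) := hm.trans hf (hα₂ ▸ hTe α₁ β₁ t htt)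
      have hα0 : α₂ ≠ 0 := by
        intro h
        obtain ⟨g, -, hgi, hgx, -⟩ := id hm2
        have h' := hgi (α • e + β • d) (α • e + β • d)
        rw [hgx, hform, hform, h] at h'
        apply hxx
        rw [← h']
        simp
      obtain ⟨s, hs⟩ : ∃ s, s = (1 - β₁) / α₂ := ⟨_, rfl⟩
      have hss : s + σ s = 0 := by
        have hσα : σ α₂ ≠ 0 := (map_ne_zero_iff _ σ.injective).2 hα0
        rw [hs, map_div₀, map_sub, map_one]
        field_simp
        rw [hα₂, map_add, map_mul, show σ t = -t by linear_combination htt]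
        linear_combination -htd - hL
      have hm3 := hTd α₂ β₁ s hss
      rw [hs, div_mul_cancel₀ _ hα0, add_sub_cancel] at hm3
      exact ⟨α₂, hm2.trans hf hm3⟩
    obtain ⟨a, ha⟩ := hnorm x hx hxx
    obtain ⟨c, hc⟩ := hnorm y hy (hxy ▸ hxx)
    obtain ⟨g, -, hgi, hgx, -⟩ := id ha
    obtain ⟨g', -, hgi', hgy, -⟩ := id hc
    have h : f (a • e + (1 : F) • d) (a • e + (1 : F) • d) = f (c • e + (1 : F) • d) (c • e + (1 : F) • d) := by
      rw [← hgx, ← hgy, hgi, hgi', hxy]
    rw [hform, hform, map_one, mul_one, mul_one, one_mul, one_mul] at h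
    have h' := hTe a 1 (c - a) (by rw [map_sub]; linear_combination -h)
    rw [mul_one, add_sub_cancel] at h'
    exact ha.trans hf (h'.trans hf (hc.symm hf))

/-- The base for fields with more than four elements: three consecutive centres. -/
theorem grown_of_three (hq : ∀ ρ : F, σ ρ = ρ → ρ ≠ 0 → ∃ t : F, t + σ t = 0 ∧ t ≠ 0 ∧ t⁻¹ + ρ ≠ 0)
    {v0 v1 v2 : ι → F} (h0 : UFull σ f M v0) (h1 : UFull σ f M v1) (h2 : UFull σ f M v2) {b1 b2 : F}
    (hb01 : f v0 v1 = b1) (hb12 : f v1 v2 = b1) (hb02 : f v0 v2 = b2) (hb1 : b1 ≠ 0)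
    (hdet : b1 * b1 * σ b2 + σ b1 * σ b1 * b2 ≠ 0) :
    ∃ W, v0 ∈ W ∧ Grown σ f M W := by
  have hσb : σ b1 ≠ 0 := (map_ne_zero_iff _ σ.injective).2 hb1
  obtain ⟨d, hd⟩ : ∃ d, d = (σ b1)⁻¹ • v1 := ⟨_, rfl⟩
  have hed : f v0 d = 1 := by rw [hd, smul_right' hf, hb01, map_inv₀, hf.involutive, inv_mul_cancel₀ hb1]
  obtain ⟨hnd, hfull, htr⟩ := plane_grown hf h0 (hd ▸ ufull_smul hf h1 _) hed
  set P := Submodule.span F ({v0, d} : Set (ι → F)) with hP
  have h0P : v0 ∈ P := Submodule.subset_span (by simp)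
  have hv0 : v0 ≠ 0 := fun h => hb1 (by rw [← hb01, h, zero_left' hf])
  have h2' := exists_not_mem_span hf hnd h0P hv0 h0.1
  obtain ⟨π, hπ, r, hr, hπr⟩ := exists_add_perpU hf hnd v2
  rw [mem_perpU hf] at hr
  have hrr : f r r ≠ 0 := by
    intro h
    apply hdet
    obtain ⟨α, β, hαβ⟩ := Submodule.mem_span_pair.1 hπ
    have e1 : f v2 v0 = β := by
      rw [← hπr, hf.add_left, hr v0 h0P, ← hαβ, hf.add_left, hf.smul_left, hf.smul_left, h0.1, hf.herm d v0, hed,
        map_one]
      ring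
    have e2 : f v2 d = α := by
      rw [← hπr, hf.add_left, hr d (Submodule.subset_span (by simp)), ← hαβ, hf.add_left, hf.smul_left,
        hf.smul_left, hed, hd, hf.smul_left, smul_right' hf, h1.1]
      ring
    have hv : f π π = 0 := by
      have h' := h2.1
      rw [← hπr, hf.add_left, add_right' hf, add_right' hf, hr π hπ, (eq_zero_comm hf).mp (hr π hπ), h] at h'
      linear_combination h'
    rw [← hαβ] at hv
    simp only [hf.add_left, add_right' hf, hf.smul_left, smul_right' hf, h0.1, hed, hf.herm d v0, map_one,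
      (hd ▸ ufull_smul hf h1 _ : UFull σ f M d).1] at hv
    rw [← e1, ← e2, hf.herm v2 v0, hb02, hd, smul_right' hf, hf.herm v2 v1, hb12, map_inv₀, hf.involutive,
      hf.involutive, map_mul, map_inv₀, hf.involutive] at hv
    field_simp at hv
    linear_combination hv
  exact ⟨_, le_sup_left (a := P) h0P, extend hf hnd hfull htr h2' hπ hr hrr (hπr ▸ h2) (Or.inr hq)⟩

end CfsgLib.RegUnipotentGen.Herm
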