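/-
Over four elements: five consecutive centres span a space with all isotropic centres.
-/
import Cfsg.Agent.Lib.KnownSimple.RegUnipotentGen.SUOddGrow
import Cfsg.Agent.Lib.KnownSimple.RegUnipotentGen.SUOddFourData

set_option autoImplicit false
set_option linter.unusedSectionVars false

namespace CfsgLib.RegUnipotentGen.Herm

open Matrix CfsgLib.Transvec CfsgLib.Transvec.Unitary CfsgLib.Classical.Unitary Four
open scoped MatrixGroups

variable {ι : Type} [Fintype ι] [DecidableEq ι] {F : Type*} [Field F] {σ : F ≃+* F}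
  {f : (ι → F) → (ι → F) → F}

/-- The field element of a code. -/
def fieldOf (w : F) : ℕ → F
  | 0 => 0
  | 1 => 1
  | 2 => w
  | _ => 1 + w

omit [Fintype ι] [DecidableEq ι] in
/-- The vector of a code. -/
def codeVec (w : F) (v : ℕ → ι → F) (k : ℕ) : ι → F :=
  fieldOf w (dig 0 k) • v 0 + fieldOf w (dig 1 k) • v 1 + fieldOf w (dig 2 k) • v 2 + fieldOf w (dig 3 k) • v 3 +
    fieldOf w (dig 4 k) • v 4

theorem dig_lt (i k : ℕ) : dig i k < 4 := Nat.lt_succ_of_le Nat.and_le_right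

theorem dig_xor (i a b : ℕ) : dig i (a ^^^ b) = dig i a ^^^ dig i b := by
  rw [dig, dig, dig, Nat.shiftRight_xor_distrib, Nat.and_xor_distrib_right]

theorem mul4_lt : ∀ a < 4, ∀ b < 4, mul4 a b < 4 := by decide

theorem xor4_lt : ∀ a < 4, ∀ b < 4, a ^^^ b < 4 := by decide

theorem dig_shift : ∀ c < 4, ∀ j < 5, ∀ i < 5, dig i (c <<< (2 * j)) = if i = j then c else 0 := by decide

theorem dig_eq (i k : ℕ) : dig i k = k / 2 ^ (2 * i) % 4 := by
  rw [dig, Nat.shiftRight_eq_div_pow, show (3 : ℕ) = 2 ^ 2 - 1 by norm_num, Nat.and_two_pow_sub_one_eq_mod]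

theorem dig_code (a : ℕ) (_ : a < 4) (b : ℕ) (_ : b < 4) (c : ℕ) (_ : c < 4) (d : ℕ) (_ : d < 4) (e : ℕ)
    (_ : e < 4) :
    a + 4 * b + 16 * c + 64 * d + 256 * e < 1024 ∧ dig 0 (a + 4 * b + 16 * c + 64 * d + 256 * e) = a ∧
      dig 1 (a + 4 * b + 16 * c + 64 * d + 256 * e) = b ∧ dig 2 (a + 4 * b + 16 * c + 64 * d + 256 * e) = c ∧
      dig 3 (a + 4 * b + 16 * c + 64 * d + 256 * e) = d ∧ dig 4 (a + 4 * b + 16 * c + 64 * d + 256 * e) = e := by
  simp only [dig_eq]
  norm_num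
  omega

variable {w : F} (h2 : (2 : F) = 0) (hw : w * w + w + 1 = 0) (hσw : σ w = w * w)

include h2

theorem fieldOf_xor {a b : ℕ} (ha : a < 4) (hb : b < 4) :
    fieldOf w (a ^^^ b) = fieldOf w a + fieldOf w b := by
  interval_cases a <;> interval_cases b <;> simp [fieldOf] <;>
    first
      | (linear_combination (0 : F) * h2)
      | (linear_combination -h2)
      | (linear_combination -(1 : F) * h2 * w)
      | (linear_combination -(1 + w) * h2)

include hw

theorem fieldOf_mul {a b : ℕ} (ha : a < 4) (hb : b < 4) :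
    fieldOf w (mul4 a b) = fieldOf w a * fieldOf w b := by
  interval_cases a <;> interval_cases b <;> simp [fieldOf, mul4] <;>
    first
      | (linear_combination (0 : F) * h2)
      | (linear_combination -hw + (1 + w) * h2)
      | (linear_combination -hw + h2)
      | (linear_combination -hw)

include hσw

theorem fieldOf_cj {a : ℕ} (ha : a < 4) : fieldOf w (cj4 a) = σ (fieldOf w a) := by
  rw [cj4, fieldOf_mul h2 hw ha ha]
  interval_cases a <;> simp [fieldOf, hσw]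
  linear_combination w * h2

theorem fieldOf_ne {a : ℕ} (ha : a < 4) (ha0 : a ≠ 0) : fieldOf w a ≠ 0 := by
  intro h
  interval_cases a
  · exact ha0 rfl
  · exact one_ne_zero (α := F) h
  · change w = 0 at h
    rw [h] at hw
    simp at hw
  · change 1 + w = 0 at h
    exact one_ne_zero (α := F) (by linear_combination hw - w * h)

theorem fieldOf_inj {a b : ℕ} (ha : a < 4) (hb : b < 4) (h : fieldOf w a = fieldOf w b) : a = b := by
  by_contra hne
  refine fieldOf_ne h2 hw hσw (xor4_lt a ha b hb) (fun h0 => hne (Nat.xor_eq_zero_iff.mp h0)) ?_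
  rw [fieldOf_xor h2 ha hb, h]
  linear_combination fieldOf w b * h2

theorem fieldOf_surj [Fintype F] (hF : Fintype.card F = 4) (x : F) : ∃ a < 4, fieldOf w a = x := by
  have hb : Function.Bijective (fun a : Fin 4 => fieldOf w (a : ℕ)) :=
    (Fintype.bijective_iff_injective_and_card _).2
      ⟨fun a b h => Fin.ext (fieldOf_inj h2 hw hσw a.2 b.2 h), by rw [Fintype.card_fin, hF]⟩
  obtain ⟨a, ha⟩ := hb.2 x
  exact ⟨a, a.2, ha⟩

omit hσw

theorem codeVec_xor (v : ℕ → ι → F) (a b : ℕ) : codeVec w v (a ^^^ b) = codeVec w v a + codeVec w v b := by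
  simp only [codeVec, dig_xor, fieldOf_xor h2 (dig_lt _ _) (dig_lt _ _)]
  module

theorem codeVec_shift (v : ℕ → ι → F) {c j : ℕ} (hc : c < 4) (hj : j < 5) :
    codeVec w v (c <<< (2 * j)) = fieldOf w c • v j := by
  simp only [codeVec, dig_shift c hc j hj 0 (by omega), dig_shift c hc j hj 1 (by omega),
    dig_shift c hc j hj 2 (by omega), dig_shift c hc j hj 3 (by omega), dig_shift c hc j hj 4 (by omega)]
  interval_cases j <;> simp [fieldOf]

include hσw

variable (hf : Cfsg.Geo.IsUnitaryForm σ f) {M : Subgroup (GL ι F)} {v : ℕ → ι → F} {bl : List ℕ}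
  (hbl : ∀ i, bl.getD i 0 < 4) (hgram : ∀ i j, i ≤ j → j < 5 → f (v i) (v j) = fieldOf w (bl.getD (j - i) 0))

include hf hbl hgram

theorem withSeed_lt (k j : ℕ) : withSeed bl k j < 4 := by
  have hg : ∀ i j, gr bl i j < 4 := fun i j => by
    rw [gr]; split
    · exact hbl _
    · exact mul4_lt _ (hbl _) _ (hbl _)
  have hm : ∀ i, mul4 (dig i k) (gr bl i j) < 4 := fun i => mul4_lt _ (dig_lt _ _) _ (hg _ _)
  exact xor4_lt _ (xor4_lt _ (xor4_lt _ (xor4_lt _ (hm 0) _ (hm 1)) _ (hm 2)) _ (hm 3)) _ (hm 4)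

theorem form_seed (k : ℕ) {j : ℕ} (hj : j < 5) : f (codeVec w v k) (v j) = fieldOf w (withSeed bl k j) := by
  have hg : ∀ i, i < 5 → gr bl i j < 4 ∧ f (v i) (v j) = fieldOf w (gr bl i j) := fun i hi => by
    rw [gr]
    split_ifs with h
    · exact ⟨hbl _, hgram i j h hj⟩
    · refine ⟨mul4_lt _ (hbl _) _ (hbl _), ?_⟩
      rw [fieldOf_cj h2 hw hσw (hbl _), hf.herm, hgram j i (by omega) hi]
  have hm : ∀ i, i < 5 → mul4 (dig i k) (gr bl i j) < 4 ∧
      fieldOf w (mul4 (dig i k) (gr bl i j)) = fieldOf w (dig i k) * f (v i) (v j) := fun i hi =>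
    ⟨mul4_lt _ (dig_lt _ _) _ (hg i hi).1, by rw [fieldOf_mul h2 hw (dig_lt _ _) (hg i hi).1, (hg i hi).2]⟩
  have m0 := hm 0 (by omega)
  have m1 := hm 1 (by omega)
  have m2 := hm 2 (by omega)
  have m3 := hm 3 (by omega)
  have m4 := hm 4 (by omega)
  have x1 := xor4_lt _ m0.1 _ m1.1
  have x2 := xor4_lt _ x1 _ m2.1
  have x3 := xor4_lt _ x2 _ m3.1
  rw [withSeed, fieldOf_xor h2 x3 m4.1, fieldOf_xor h2 x2 m3.1, fieldOf_xor h2 x1 m2.1, fieldOf_xor h2 m0.1 m1.1,
    m0.2, m1.2, m2.2, m3.2, m4.2]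
  simp only [codeVec, hf.add_left, hf.smul_left]

theorem form_norm (k : ℕ) : f (codeVec w v k) (codeVec w v k) = fieldOf w (nrm bl k) := by
  have hm : ∀ i, i < 5 → mul4 (cj4 (dig i k)) (withSeed bl k i) < 4 ∧
      fieldOf w (mul4 (cj4 (dig i k)) (withSeed bl k i)) =
        σ (fieldOf w (dig i k)) * f (codeVec w v k) (v i) := fun i hi =>
    have hc : cj4 (dig i k) < 4 := mul4_lt _ (dig_lt _ _) _ (dig_lt _ _)
    have hs := withSeed_lt h2 hw hσw hf hbl hgram k i
    ⟨mul4_lt _ hc _ hs, by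
      rw [fieldOf_mul h2 hw hc hs, fieldOf_cj h2 hw hσw (dig_lt _ _), form_seed h2 hw hσw hf hbl hgram k hi]⟩
  have m0 := hm 0 (by omega)
  have m1 := hm 1 (by omega)
  have m2 := hm 2 (by omega)
  have m3 := hm 3 (by omega)
  have m4 := hm 4 (by omega)
  have x1 := xor4_lt _ m0.1 _ m1.1
  have x2 := xor4_lt _ x1 _ m2.1
  have x3 := xor4_lt _ x2 _ m3.1
  rw [nrm, fieldOf_xor h2 x3 m4.1, fieldOf_xor h2 x2 m3.1, fieldOf_xor h2 x1 m2.1, fieldOf_xor h2 m0.1 m1.1,
    m0.2, m1.2, m2.2, m3.2, m4.2]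
  conv_lhs => arg 2; unfold codeVec
  simp only [add_right' hf, smul_right' hf]

theorem codeVec_step (k : ℕ) {j : ℕ} (hj : j < 5) :
    codeVec w v (stepTo bl k j) = codeVec w v k + f (codeVec w v k) (v j) • v j := by
  rw [stepTo, codeVec_xor h2 hw, codeVec_shift h2 hw v (withSeed_lt h2 hw hσw hf hbl hgram k j) hj,
    form_seed h2 hw hσw hf hbl hgram k hj]

theorem runOrbit_sound {W : Submodule F (ι → F)} (hvW : ∀ j, j < 5 → v j ∈ W)
    (hvM : ∀ j, j < 5 → UFull σ f M (v j)) (st : ℕ) : ∀ (ds acc : List ℕ),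
    (∀ k ∈ acc, Moves f M W (codeVec w v st) (codeVec w v k)) →
    ∀ k ∈ runOrbit bl st ds acc, Moves f M W (codeVec w v st) (codeVec w v k)
  | [], acc, h, k, hk => h k hk
  | d :: ds, acc, h, k, hk => by
    refine runOrbit_sound hvW hvM st ds _ (fun l hl => ?_) k hk
    rcases List.mem_append.1 hl with hl | hl
    · exact h l hl
    · rw [List.mem_singleton] at hl
      subst hl
      have hj : d % 5 < 5 := Nat.mod_lt _ (by omega)
      have hpar : Moves f M W (codeVec w v st) (codeVec w v (acc.getD (d / 5) st)) := by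
        rw [List.getD_eq_getElem?_getD]
        cases hq : acc[d / 5]? with
        | none => exact Moves.refl hf _
        | some a => exact h a (List.mem_of_getElem? hq)
      refine hpar.trans hf ?_
      rw [codeVec_step h2 hw hσw hf hbl hgram _ hj]
      have ht : (1 : F) + σ 1 = 0 := by rw [map_one]; linear_combination h2
      have := Moves.transv hf (hvW _ hj) (hvM _ hj) ht (codeVec w v (acc.getD (d / 5) st))
      rwa [one_mul] at this

/-- Five consecutive centres over four elements. -/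
theorem grown_of_five [Fintype F] (hF : Fintype.card F = 4) {sI sN : ℕ} {dI dN : List ℕ}
    (hchk : checkAll bl sI dI sN dN = true) (hv : ∀ j, j < 5 → UFull σ f M (v j)) (h0 : v 0 ≠ 0) :
    ∃ W, v 0 ∈ W ∧ Grown σ f M W := by
  set W := Submodule.span F (Set.range fun i : Fin 5 => v i) with hW
  have hvW : ∀ j, j < 5 → v j ∈ W := fun j hj => Submodule.subset_span ⟨⟨j, hj⟩, rfl⟩
  simp only [checkAll, List.all_eq_true, List.mem_range, Bool.and_eq_true, List.any_eq_true, Bool.or_eq_true,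
    bne_iff_ne, ne_eq, beq_iff_eq] at hchk
  obtain ⟨⟨km, -, hkm, hkm0⟩, hchk⟩ := hchk
  have hrep : ∀ x ∈ W, x ≠ 0 → ∃ k, k < 1023 ∧ codeVec w v (k + 1) = x := by
    intro x hx hx0
    obtain ⟨c, hc⟩ := Submodule.mem_span_range_iff_exists_fun (R := F) |>.1 hx
    obtain ⟨a0, ha0, hc0⟩ := fieldOf_surj h2 hw hσw hF (c 0)
    obtain ⟨a1, ha1, hc1⟩ := fieldOf_surj h2 hw hσw hF (c 1)
    obtain ⟨a2, ha2, hc2⟩ := fieldOf_surj h2 hw hσw hF (c 2)
    obtain ⟨a3, ha3, hc3⟩ := fieldOf_surj h2 hw hσw hF (c 3)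
    obtain ⟨a4, ha4, hc4⟩ := fieldOf_surj h2 hw hσw hF (c 4)
    obtain ⟨hlt, d0, d1, d2, d3, d4⟩ := dig_code a0 ha0 a1 ha1 a2 ha2 a3 ha3 a4 ha4
    have he : codeVec w v (a0 + 4 * a1 + 16 * a2 + 64 * a3 + 256 * a4) = x := by
      rw [codeVec, d0, d1, d2, d3, d4, hc0, hc1, hc2, hc3, hc4, ← hc, Fin.sum_univ_five]
      rfl
    obtain ⟨k, hk⟩ := Nat.exists_eq_succ_of_ne_zero (show a0 + 4 * a1 + 16 * a2 + 64 * a3 + 256 * a4 ≠ 0 from
      fun h0' => hx0 (by rw [← he, h0']; simp [codeVec, dig, fieldOf]))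
    exact ⟨k, by omega, by rw [← he, hk]⟩
  have hI : ∀ x ∈ W, x ≠ 0 → f x x = 0 → Moves f M W (codeVec w v sI) x := by
    intro x hx hx0 hxx
    obtain ⟨k, hk, rfl⟩ := hrep x hx hx0
    rcases (hchk k hk).2 with ⟨-, hm⟩ | ⟨hn, -⟩
    · exact runOrbit_sound h2 hw hσw hf hbl hgram hvW hv sI dI [sI]
        (fun l hl => by rw [List.mem_singleton] at hl; rw [hl]; exact Moves.refl hf _) _ (mem_of_testBit _ _ hm)
    · rw [form_norm h2 hw hσw hf hbl hgram, hn] at hxx
      exact absurd hxx one_ne_zero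
  have hiso : IsoTrans f M W := fun x hx y hy hx0 hy0 hxx hyy =>
    ((hI x hx hx0 hxx).symm hf).trans hf (hI y hy hy0 hyy)
  have hN : ∀ x ∈ W, f x x ≠ 0 → Moves f M W (codeVec w v sN) x := by
    intro x hx hxx
    have hx0 : x ≠ 0 := fun h => hxx (by rw [h, zero_left' hf])
    obtain ⟨k, hk, rfl⟩ := hrep x hx hx0
    rcases (hchk k hk).2 with ⟨hn, -⟩ | ⟨-, hm⟩
    · rw [form_norm h2 hw hσw hf hbl hgram, hn] at hxx
      exact absurd rfl hxx
    · exact runOrbit_sound h2 hw hσw hf hbl hgram hvW hv sN dN [sN]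
        (fun l hl => by rw [List.mem_singleton] at hl; rw [hl]; exact Moves.refl hf _) _ (mem_of_testBit _ _ hm)
  have hnd : NonDeg f W := by
    intro x hx hx0
    obtain ⟨k, hk, rfl⟩ := hrep x hx hx0
    obtain ⟨j, hj, hne⟩ := (hchk k hk).1
    refine ⟨v j, hvW j hj, fun h => fieldOf_ne h2 hw hσw (withSeed_lt h2 hw hσw hf hbl hgram (k + 1) j) hne ?_⟩
    rw [← form_seed h2 hw hσw hf hbl hgram _ hj]
    exact (eq_zero_comm hf).mp h
  refine ⟨W, hvW 0 (by omega), hnd, fun x hx hxx => ?_,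
    fun x hx y hy _ hxx => ((hN x hx hxx).symm hf).trans hf (hN y hy (by simp_all)), hiso, ?_⟩
  · by_cases hx0 : x = 0
    · rw [hx0]
      have := ufull_smul hf (hv 0 (by omega)) 0
      rwa [zero_smul] at this
    · exact (hiso x hx (v 0) (hvW 0 (by omega)) hx0 h0 hxx (hv 0 (by omega)).1).ufull hf (hv 0 (by omega))
  · intro x hx hx0 hxx
    obtain ⟨m, hmW, hmv, hmm⟩ : ∃ m ∈ W, f m (v 0) = 0 ∧ f m m ≠ 0 := by
      refine ⟨codeVec w v (km + 1), ?_, ?_, ?_⟩
      · exact W.add_mem (W.add_mem (W.add_mem (W.add_mem (W.smul_mem _ (hvW 0 (by omega)))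
          (W.smul_mem _ (hvW 1 (by omega)))) (W.smul_mem _ (hvW 2 (by omega)))) (W.smul_mem _ (hvW 3 (by omega))))
          (W.smul_mem _ (hvW 4 (by omega)))
      · rw [form_seed h2 hw hσw hf hbl hgram _ (by omega), hkm0]; rfl
      · rw [form_norm h2 hw hσw hf hbl hgram, hkm]; exact one_ne_zero
    obtain ⟨g, hg, hgi, hgx, hgf⟩ := hiso (v 0) (hvW 0 (by omega)) x hx h0 hx0 (hv 0 (by omega)).1 hxx
    refine ⟨(g : Matrix ι ι F) *ᵥ m, ?_, by rw [← hgx, hgi]; exact hmv, by rw [hgi]; exact hmm⟩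
    rw [← perpU_perpU hf W]
    intro z hz
    rw [← hgf z hz, hgi]
    exact (eq_zero_comm hf).mp (hz m hmW)

end CfsgLib.RegUnipotentGen.Herm
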