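import Cfsg.Agent.Lib.KnownSimple.RegUnipotentGen.Basic
import Cfsg.Agent.Lib.Classical.AltBasis
import Cfsg.Agent.Lib.Transvec.SympSpaces

/-!
A regular unipotent isometry of the standard symplectic space with prescribed Gram sequence on an orbit.
-/

set_option autoImplicit false
set_option linter.unusedSectionVars false

namespace CfsgLib.RegUnipotentGen.Sp

open Matrix CfsgLib.RegUnipotentGen
open scoped fwdDiff

variable {F : Type*} [Field F]

/-- The odd integer polynomial sequence `x ↦ ∑ α t * choose (x + t) (2t+1)`. -/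
noncomputable def bseq (α : ℕ → F) (n : ℕ) (x : ℤ) : F :=
  ∑ t ∈ Finset.range n, α t * ((Ring.choose (x + (t : ℤ)) (2 * t + 1) : ℤ) : F)

lemma bseq_neg (α : ℕ → F) (n : ℕ) (x : ℤ) : bseq α n (-x) = - bseq α n x := by
  rw [bseq, bseq, ← Finset.sum_neg_distrib]
  refine Finset.sum_congr rfl fun t _ => ?_
  rw [show -x + (t : ℤ) = -(x - t) by ring, Ring.choose_neg,
    show x - t + ((2 * t + 1 : ℕ) : ℤ) - 1 = x + t by push_cast; ring,
    Int.negOnePow_odd ((2 * t + 1 : ℕ) : ℤ) ⟨t, by push_cast; ring⟩]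
  simp

lemma bseq_zero (α : ℕ → F) (n : ℕ) : bseq α n 0 = 0 := by
  refine Finset.sum_eq_zero fun t _ => ?_
  rw [zero_add, Ring.choose_natCast, Nat.choose_eq_zero_of_lt (by omega), Nat.cast_zero, Int.cast_zero, mul_zero]

lemma bseq_natCast (α : ℕ → F) (n d : ℕ) :
    bseq α n (d : ℤ) = ∑ t ∈ Finset.range n, α t * ((d + t).choose (2 * t + 1) : F) := by
  refine Finset.sum_congr rfl fun t _ => ?_
  rw [← Nat.cast_add, Ring.choose_natCast, Int.cast_natCast]

/-- The Newton basis function. -/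
private noncomputable def newt (F : Type*) [Field F] (c : ℤ) (k : ℕ) : ℤ → F :=
  fun x => ((Ring.choose (x + c) k : ℤ) : F)

private lemma fwdDiff_newt (c : ℤ) (k : ℕ) : Δ_[1] (newt F c (k + 1)) = newt F c k := by
  funext x
  simp only [fwdDiff, newt]
  rw [show x + 1 + c = (x + c) + 1 by ring, Ring.choose_succ_succ]
  push_cast
  ring

private lemma fwdDiff_iter_newt (c : ℤ) (m k : ℕ) : Δ_[1] ^[m] (newt F c (m + k)) = newt F c k := by
  induction m with
  | zero => simp
  | succ m ih => rw [Function.iterate_succ_apply, show m + 1 + k = m + k + 1 by ring, fwdDiff_newt, ih]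

private lemma fwdDiff_iter_newt_lt (c : ℤ) {m k : ℕ} (h : k < m) : Δ_[1] ^[m] (newt F c k) = fun _ => 0 := by
  obtain ⟨j, rfl⟩ : ∃ j, m = j + 1 + k := ⟨m - k - 1, by omega⟩
  rw [Function.iterate_add_apply]
  have h0 : Δ_[1] ^[k] (newt F c k) = newt F c 0 := fwdDiff_iter_newt c k 0
  rw [h0, Function.iterate_succ_apply]
  have h1 : Δ_[1] (newt F c 0) = fun _ => 0 := by
    funext x; simp [fwdDiff, newt]
  rw [h1]
  clear h
  induction j with
  | zero => rfl
  | succ j ih => rw [Function.iterate_succ_apply, fwdDiff_const]; exact ih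

private lemma fwdDiff_iter_bseq (α : ℕ → F) (n m : ℕ) (hm : 2 * n - 1 ≤ m) :
    Δ_[1] ^[m] (bseq α n) = fun _ => if 0 < n ∧ m = 2 * n - 1 then α (n - 1) else 0 := by
  have hb : bseq α n = ∑ t ∈ Finset.range n, α t • newt F t (2 * t + 1) := by
    funext x; simp [bseq, newt, Finset.sum_apply]
  rw [hb, fwdDiff_iter_finsetSum]
  funext x
  rw [Finset.sum_apply]
  rcases Nat.eq_zero_or_pos n with rfl | hn
  · simp
  rw [Finset.sum_eq_single (n - 1)]
  · rw [fwdDiff_iter_const_smul, Pi.smul_apply]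
    rcases Nat.lt_or_ge (2 * n - 1) m with h | h
    · rw [fwdDiff_iter_newt_lt _ (by omega), smul_zero, if_neg (by omega)]
    · rw [show 2 * (n - 1) + 1 = m + 0 by omega, fwdDiff_iter_newt, if_pos ⟨hn, by omega⟩]
      simp [newt]
  · intro t ht hne
    have := Finset.mem_range.1 ht
    rw [fwdDiff_iter_const_smul, fwdDiff_iter_newt_lt _ (by omega)]
    simp
  · exact fun h => absurd (Finset.mem_range.2 (by omega)) h

lemma bseq_recurrence (α : ℕ → F) (n : ℕ) (hn : 0 < n) (y : ℤ) :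
    ∑ k ∈ Finset.range (2 * n + 1), (-1 : F) ^ (2 * n - k) * ((2 * n).choose k : F) * bseq α n (y + k) = 0 := by
  have h := congrFun (fwdDiff_iter_bseq α n (2 * n) (by omega)) y
  rw [fwdDiff_iter_eq_sum_shift, if_neg (by omega)] at h
  refine Eq.trans (Finset.sum_congr rfl fun k _ => ?_) h
  simp [zsmul_eq_mul]

lemma bseq_top (α : ℕ → F) (n : ℕ) (hn : 0 < n) :
    ∑ k ∈ Finset.range (2 * n - 1 + 1), (-1 : F) ^ (2 * n - 1 - k) * ((2 * n - 1).choose k : F) * bseq α n k =
      α (n - 1) := by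
  have h := congrFun (fwdDiff_iter_bseq α n (2 * n - 1) le_rfl) 0
  rw [fwdDiff_iter_eq_sum_shift, if_pos ⟨hn, rfl⟩] at h
  refine Eq.trans (Finset.sum_congr rfl fun k _ => ?_) h
  simp [zsmul_eq_mul]

section Comp

variable {N : ℕ} [NeZero N]

/-- Contracting a column of the companion matrix against a recurrent sequence shifts it by one. -/
lemma comp_col (g : ℤ → F)
    (hg : ∑ k ∈ Finset.range (N + 1), (-1 : F) ^ (N - k) * (N.choose k : F) * g k = 0) (j : Fin N) :
    ∑ r, comp F N r j * g (r : ℕ) = g ((j : ℕ) + 1) := by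
  rcases Nat.lt_or_ge ((j : ℕ) + 1) N with h | h
  · rw [Finset.sum_eq_single (ix N (j + 1))]
    · rw [comp, Matrix.of_apply, if_pos h, ix_val h, if_pos rfl, one_mul, Nat.cast_add, Nat.cast_one]
    · intro r _ hr
      rw [comp, Matrix.of_apply, if_pos h, if_neg (fun h' => hr (Fin.ext (by rw [ix_val h, h']))), zero_mul]
    · exact fun h' => absurd (Finset.mem_univ _) h'
  · have hj : ((j : ℕ) : ℤ) + 1 = (N : ℤ) := by have := j.2; omega
    rw [hj]
    rw [Finset.sum_range_succ, Nat.sub_self, Nat.choose_self, pow_zero, Nat.cast_one, one_mul, one_mul,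
      Finset.sum_range fun k => (-1 : F) ^ (N - k) * (N.choose k : F) * g k] at hg
    rw [eq_neg_of_add_eq_zero_right hg, ← Finset.sum_neg_distrib]
    refine Finset.sum_congr rfl fun r _ => ?_
    rw [comp, Matrix.of_apply, if_neg (by omega)]
    have h2 : N + 1 + (r : ℕ) = (N - r) + 1 + 2 * r := by have := r.2; omega
    rw [h2, pow_add, pow_add, pow_mul]
    simp [mul_assoc]

/-- The fixed space of the companion matrix is at most a line. -/
lemma fix_coord {x : Fin N → F} (hx : comp F N *ᵥ x = x) (h0 : x (ix N (N - 1)) = 0) : x = 0 := by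
  have hN : 0 < N := Nat.pos_of_ne_zero (NeZero.ne N)
  suffices ∀ i : ℕ, i < N → x (ix N i) = 0 by
    funext i; rw [← ix_fin i]; exact this i i.2
  intro i
  induction i with
  | zero =>
    intro _
    have h := congrFun hx (ix N 0)
    rw [← h, mulVec, dotProduct]
    refine Finset.sum_eq_zero fun j _ => ?_
    rw [comp, Matrix.of_apply]
    split_ifs with h1 h2
    · rw [ix_val hN] at h2; omega
    · rw [zero_mul]
    · have : j = ix N (N - 1) := Fin.ext (by rw [ix_val (by omega)]; omega)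
      rw [this, h0, mul_zero]
  | succ i ih =>
    intro hi
    have h := congrFun hx (ix N (i + 1))
    rw [← h, mulVec, dotProduct]
    refine Finset.sum_eq_zero fun j _ => ?_
    rw [comp, Matrix.of_apply]
    split_ifs with h1 h2
    · rw [ix_val hi] at h2
      have : j = ix N i := Fin.ext (by rw [ix_val (by omega)]; omega)
      rw [this, ih (by omega), mul_zero]
    · rw [zero_mul]
    · have : j = ix N (N - 1) := Fin.ext (by rw [ix_val (by omega)]; omega)
      rw [this, h0, mul_zero]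

end Comp

/-- The Gram matrix of the orbit. -/
noncomputable def gram (α : ℕ → F) (n : ℕ) : Matrix (Fin (2 * n)) (Fin (2 * n)) F :=
  of fun i j => bseq α n (((j : ℕ) : ℤ) - ((i : ℕ) : ℤ))

lemma gram_invariant (α : ℕ → F) (n : ℕ) [NeZero (2 * n)] :
    (comp F (2 * n))ᵀ * gram α n * comp F (2 * n) = gram α n := by
  have hn : 0 < n := by have := NeZero.ne (2 * n); omega
  have h1 : ∀ (y : ℤ) (j : Fin (2 * n)),
      ∑ s, comp F (2 * n) s j * bseq α n (y + (s : ℕ)) = bseq α n (y + ((j : ℕ) + 1)) := fun y j =>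
    comp_col (fun z => bseq α n (y + z)) (bseq_recurrence α n hn y) j
  ext i j
  rw [Matrix.mul_assoc, Matrix.mul_apply]
  have h2 : ∀ r, (gram α n * comp F (2 * n)) r j = bseq α n (-((r : ℕ) : ℤ) + ((j : ℕ) + 1)) := fun r => by
    rw [← h1, Matrix.mul_apply]
    refine Finset.sum_congr rfl fun s _ => ?_
    rw [gram, of_apply, mul_comm, show ((s : ℕ) : ℤ) - (r : ℕ) = -((r : ℕ) : ℤ) + (s : ℕ) by ring]
  simp only [h2, transpose_apply]
  have h3 : ∀ r : Fin (2 * n), bseq α n (-((r : ℕ) : ℤ) + ((j : ℕ) + 1)) =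
      - bseq α n (-((j : ℕ) + 1 : ℤ) + (r : ℕ)) := fun r => by
    rw [← bseq_neg]; congr 1; ring
  simp only [h3, mul_neg, Finset.sum_neg_distrib, h1]
  rw [gram, of_apply, ← bseq_neg]
  congr 1
  ring

/-- A regular unipotent isometry of the standard symplectic space with given orbit Gram sequence. -/
theorem exists_data (α : ℕ → F) {n : ℕ} (hn : 0 < n) (hα : α (n - 1) ≠ 0) :
    ∃ (u : GL (Fin n ⊕ Fin n) F) (v : Fin n ⊕ Fin n → F),
      CfsgLib.Transvec.Iso (Cfsg.sympForm n F) u ∧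
      ((u : Matrix (Fin n ⊕ Fin n) (Fin n ⊕ Fin n) F) - 1) ^ (2 * n) = 0 ∧
      ((u : Matrix (Fin n ⊕ Fin n) (Fin n ⊕ Fin n) F) - 1) ^ (2 * n - 1) ≠ 0 ∧
      (∀ i j : ℕ, i < 2 * n → j < 2 * n → Cfsg.sympForm n F
        ((u : Matrix (Fin n ⊕ Fin n) (Fin n ⊕ Fin n) F) ^ i *ᵥ v)
        ((u : Matrix (Fin n ⊕ Fin n) (Fin n ⊕ Fin n) F) ^ j *ᵥ v) = bseq α n ((j : ℤ) - (i : ℤ))) ∧
      Submodule.span F (Set.range fun k : Fin (2 * n) =>
        (u : Matrix (Fin n ⊕ Fin n) (Fin n ⊕ Fin n) F) ^ (k : ℕ) *ᵥ v) = ⊤ := by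
  classical
  haveI : NeZero (2 * n) := ⟨by omega⟩
  set C := comp F (2 * n) with hC
  set B := Matrix.toBilin' (gram α n) with hB
  have hBapp : ∀ x y, B x y = x ⬝ᵥ (gram α n *ᵥ y) := fun x y => by
    rw [hB, Matrix.toBilin'_apply']
  have hinv : ∀ x y, B (C *ᵥ x) (C *ᵥ y) = B x y := fun x y => by
    rw [hBapp, hBapp, mulVec_mulVec, dotProduct_comm, dotProduct_mulVec, ← mulVec_transpose, mulVec_mulVec,
      dotProduct_comm, ← Matrix.mul_assoc, gram_invariant]
  have hev : ∀ i j, i < 2 * n → j < 2 * n →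
      B (ev F (2 * n) i) (ev F (2 * n) j) = bseq α n ((j : ℤ) - (i : ℤ)) := fun i j hi hj => by
    rw [hBapp, ev, ev, mulVec_single_one, single_dotProduct, one_mul]
    show gram α n (ix (2 * n) i) (ix (2 * n) j) = _
    rw [gram, of_apply, ix_val hi, ix_val hj]
  have hskew : ∀ i j, gram α n i j = - gram α n j i := fun i j => by
    rw [gram, of_apply, of_apply, ← bseq_neg]; congr 1; ring
  have hdiag : ∀ i, gram α n i i = 0 := fun i => by rw [gram, of_apply, sub_self, bseq_zero]
  have hA : B.IsAlt := by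
    intro x
    rw [hBapp]
    simp only [dotProduct, mulVec, Finset.mul_sum]
    rw [← Finset.sum_product']
    refine Finset.sum_involution (fun a _ => (a.2, a.1)) (fun a _ => ?_) (fun a _ hne heq => hne ?_)
      (fun a _ => Finset.mem_univ _) (fun a _ => rfl)
    · simp only [hskew a.2 a.1]; ring
    · have h : a.2 = a.1 := congrArg Prod.fst heq
      rw [h, hdiag]; ring
  have hnd : ∀ x, (∀ w, B x w = 0) → x = 0 := by
    intro x hx
    by_contra hx0
    obtain ⟨m, hm, hm'⟩ : ∃ m, (C - 1) ^ m *ᵥ x ≠ 0 ∧ (C - 1) ^ (m + 1) *ᵥ x = 0 := by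
      have hex : ∃ m, (C - 1) ^ m *ᵥ x = 0 := ⟨2 * n, by rw [hC, comp_sub_one_pow, zero_mulVec]⟩
      have h0 : Nat.find hex ≠ 0 := fun h => hx0 (by simpa [h] using Nat.find_spec hex)
      exact ⟨Nat.find hex - 1, Nat.find_min hex (by omega), by
        rw [Nat.sub_add_cancel (Nat.pos_of_ne_zero h0)]; exact Nat.find_spec hex⟩
    have hrad : ∀ k w, B ((C - 1) ^ k *ᵥ x) w = 0 := by
      intro k
      induction k with
      | zero => simpa using hx
      | succ k ih =>
        intro w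
        have hsurj : ∃ w', C *ᵥ w' = w := by
          refine ⟨C⁻¹ *ᵥ w, ?_⟩
          rw [mulVec_mulVec, Matrix.mul_nonsing_inv _ (by rw [hC, det_comp]; exact isUnit_one), one_mulVec]
        obtain ⟨w', rfl⟩ := hsurj
        rw [pow_succ', ← mulVec_mulVec, sub_mulVec, one_mulVec, map_sub, LinearMap.sub_apply, hinv, ih, ih,
          sub_zero]
    set z := (C - 1) ^ (2 * n - 1) *ᵥ ev F (2 * n) 0 with hz
    set y := (C - 1) ^ m *ᵥ x with hy
    have hzfix : C *ᵥ z = z := by
      have h : (C - 1) *ᵥ z = 0 := by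
        rw [hz, mulVec_mulVec, ← pow_succ', show 2 * n - 1 + 1 = 2 * n by omega, hC, comp_sub_one_pow, zero_mulVec]
      rwa [sub_mulVec, one_mulVec, sub_eq_zero] at h
    have hyfix : C *ᵥ y = y := by
      rw [pow_succ', ← mulVec_mulVec, sub_mulVec, one_mulVec, sub_eq_zero] at hm'
      exact hm'
    set L := ix (2 * n) (2 * n - 1)
    have hzB : B (ev F (2 * n) 0) z = α (n - 1) := by
      rw [hz, comp_sub_one_pow_mulVec, map_sum, ← bseq_top α n hn]
      refine Finset.sum_congr rfl fun k hk => ?_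
      have hk' : k < 2 * n := by have := Finset.mem_range.1 hk; omega
      rw [map_smul, smul_eq_mul, comp_pow_ev_zero hk', hev 0 k (by omega) hk', Nat.cast_zero, sub_zero]
    have hzL : z L ≠ 0 := by
      intro h
      rw [fix_coord hzfix h, map_zero] at hzB
      exact hα hzB.symm
    have hyz : y = (y L / z L) • z := by
      rw [← sub_eq_zero]
      refine fix_coord ?_ ?_
      · rw [mulVec_sub, mulVec_smul, hyfix, hzfix]
      · rw [Pi.sub_apply, Pi.smul_apply, smul_eq_mul, div_mul_cancel₀ _ hzL, sub_self]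
    have := hrad m (ev F (2 * n) 0)
    rw [← hy, hyz, map_smul, LinearMap.smul_apply, smul_eq_mul, ← LinearMap.IsAlt.neg hA, hzB, mul_neg,
      neg_eq_zero] at this
    rcases mul_eq_zero.1 this with h | h
    · rw [h, zero_smul] at hyz; exact hm hyz
    · exact hα h
  obtain ⟨m, hm, e, he⟩ := CfsgLib.Classical.exists_symp_equiv B hA hnd
  rw [Module.finrank_fin_fun] at hm
  obtain rfl : m = n := by omega
  set σ : (Fin m ⊕ Fin m → F) →ₗ[F] (Fin m ⊕ Fin m → F) :=
    e.symm.toLinearMap ∘ₗ Matrix.mulVecLin C ∘ₗ e.toLinearMap with hσ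
  have hinj : Function.Injective σ := by
    intro a b h
    refine e.injective (Matrix.mulVec_injective_iff_isUnit.2 ?_ (e.symm.injective h))
    rw [Matrix.isUnit_iff_isUnit_det, det_comp]; exact isUnit_one
  set u := CfsgLib.Transvec.glOfInjective σ hinj with hu
  have hue : ∀ x, e ((u : Matrix (Fin m ⊕ Fin m) (Fin m ⊕ Fin m) F) *ᵥ x) = C *ᵥ e x := fun x => by
    rw [hu, CfsgLib.Transvec.glOfInjective_mulVec, hσ]; simp
  have hpow : ∀ k x, e ((u : Matrix (Fin m ⊕ Fin m) (Fin m ⊕ Fin m) F) ^ k *ᵥ x) = C ^ k *ᵥ e x := by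
    intro k
    induction k with
    | zero => simp
    | succ k ih => intro x; rw [pow_succ, pow_succ, ← mulVec_mulVec, ← mulVec_mulVec, ih, hue]
  have hNpow : ∀ k x, e (((u : Matrix (Fin m ⊕ Fin m) (Fin m ⊕ Fin m) F) - 1) ^ k *ᵥ x) =
      (C - 1) ^ k *ᵥ e x := by
    intro k
    induction k with
    | zero => simp
    | succ k ih =>
      intro x
      rw [pow_succ, pow_succ, ← mulVec_mulVec, ← mulVec_mulVec, ih, sub_mulVec, sub_mulVec, one_mulVec,
        one_mulVec, map_sub, hue]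
  set v := e.symm (ev F (2 * m) 0)
  have hev0 : ∀ k, k < 2 * m →
      e ((u : Matrix (Fin m ⊕ Fin m) (Fin m ⊕ Fin m) F) ^ k *ᵥ v) = ev F (2 * m) k := fun k hk => by
    rw [hpow, LinearEquiv.apply_symm_apply, hC, comp_pow_ev_zero hk]
  refine ⟨u, v, fun x y => ?_, ?_, fun h => ?_, fun i j hi hj => ?_, ?_⟩
  · rw [← he, ← he, hue, hue, hinv]
  · refine Matrix.ext_of_mulVec_single fun i => e.injective ?_
    rw [hNpow, hC, comp_sub_one_pow, zero_mulVec, zero_mulVec, map_zero]
  · refine comp_sub_one_pow_ne (F := F) (n := 2 * m) (by omega) (Matrix.ext_of_mulVec_single fun i => ?_)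
    have := hNpow (2 * m - 1) (e.symm (Pi.single i 1))
    rw [h, zero_mulVec, map_zero, LinearEquiv.apply_symm_apply] at this
    rw [← hC, ← this, zero_mulVec]
  · rw [← he, hev0 i hi, hev0 j hj, hev i j hi hj]
  · refine Submodule.eq_top_iff'.2 fun x => ?_
    have hx : x = ∑ k : Fin (2 * m), e x k • ((u : Matrix (Fin m ⊕ Fin m) (Fin m ⊕ Fin m) F) ^ (k : ℕ) *ᵥ v) := by
      refine e.injective ?_
      rw [map_sum, pi_eq_sum_univ' (e x)]
      refine Finset.sum_congr rfl fun k _ => ?_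
      rw [map_smul, hev0 k k.2, ← pi_eq_sum_univ' (e x), ev, ix_fin]
    rw [hx]
    exact Submodule.sum_mem _ fun k _ => Submodule.smul_mem _ _ (Submodule.subset_span ⟨k, rfl⟩)

end CfsgLib.RegUnipotentGen.Sp
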