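/-
A regular unipotent isometry of the standard unitary space with prescribed Gram sequence on an orbit.
-/
import Cfsg.Agent.Lib.KnownSimple.RegUnipotentGen.SpSpace
import Cfsg.Agent.Lib.Transvec.HermForm
import Cfsg.Agent.S0755

set_option autoImplicit false
set_option linter.unusedSectionVars false

namespace CfsgLib.RegUnipotentGen.Herm

open Matrix CfsgLib.RegUnipotentGen
open scoped fwdDiff

variable {F : Type*} [Field F]

/-- The Newton basis function. -/
noncomputable def newton (F : Type*) [Field F] (c : ℤ) (k : ℕ) : ℤ → F :=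
  fun x => ((Ring.choose (x + c) k : ℤ) : F)

lemma newton_apply (c : ℤ) (k : ℕ) (x : ℤ) : newton F c k x = ((Ring.choose (x + c) k : ℤ) : F) := rfl

lemma fwdDiff_newton (c : ℤ) (k : ℕ) : Δ_[1] (newton F c (k + 1)) = newton F c k := by
  funext x
  simp only [fwdDiff, newton]
  rw [show x + 1 + c = (x + c) + 1 by ring, Ring.choose_succ_succ]
  push_cast
  ring

lemma fwdDiff_iter_newton (c : ℤ) (m k : ℕ) : Δ_[1] ^[m] (newton F c (m + k)) = newton F c k := by
  induction m with
  | zero => simp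
  | succ m ih => rw [Function.iterate_succ_apply, show m + 1 + k = m + k + 1 by ring, fwdDiff_newton, ih]

lemma fwdDiff_iter_newton_lt (c : ℤ) {m k : ℕ} (h : k < m) : Δ_[1] ^[m] (newton F c k) = fun _ => 0 := by
  obtain ⟨j, rfl⟩ : ∃ j, m = j + 1 + k := ⟨m - k - 1, by omega⟩
  rw [Function.iterate_add_apply]
  have h0 : Δ_[1] ^[k] (newton F c k) = newton F c 0 := fwdDiff_iter_newton c k 0
  rw [h0, Function.iterate_succ_apply]
  have h1 : Δ_[1] (newton F c 0) = fun _ => 0 := by
    funext x; simp [fwdDiff, newton]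
  rw [h1]
  clear h
  induction j with
  | zero => rfl
  | succ j ih => rw [Function.iterate_succ_apply, fwdDiff_const]; exact ih

lemma newton_self (c : ℤ) (k : ℕ) : Δ_[1] ^[k] (newton F c k) = fun _ => 1 := by
  rw [show Δ_[1] ^[k] (newton F c k) = newton F c 0 from fwdDiff_iter_newton c k 0]
  funext x
  simp [newton]

/-- Reflection of a function of even degree. -/
lemma newton_neg (c : ℤ) {m : ℕ} (hm : Even m) (x : ℤ) :
    newton F c m (-x) = newton F ((m : ℤ) - 1 - c) m x := by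
  rw [newton_apply, newton_apply, show -x + c = -(x - c) by ring, Ring.choose_neg,
    show x - c + (m : ℤ) - 1 = x + ((m : ℤ) - 1 - c) by ring,
    Int.negOnePow_even (m : ℤ) (Int.even_coe_nat m |>.2 hm)]
  simp

/-- A hermitian combination of two Newton functions of even degree. -/
noncomputable def hpair (σ : F ≃+* F) (γ : F) (c : ℤ) (m : ℕ) : ℤ → F :=
  γ • newton F c m + σ γ • newton F ((m : ℤ) - 1 - c) m

lemma hpair_apply (σ : F ≃+* F) (γ : F) (c : ℤ) (m : ℕ) (x : ℤ) :
    hpair σ γ c m x = γ * newton F c m x + σ γ * newton F ((m : ℤ) - 1 - c) m x := rfl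

lemma hpair_neg {σ : F ≃+* F} (hinv : ∀ a, σ (σ a) = a) (γ : F) (c : ℤ) {m : ℕ} (hm : Even m) (x : ℤ) :
    hpair σ γ c m (-x) = σ (hpair σ γ c m x) := by
  have hσ : ∀ (d : ℤ) (y : ℤ), σ (newton F d m y) = newton F d m y := fun d y => by
    rw [newton_apply, map_intCast]
  rw [hpair_apply, hpair_apply, newton_neg _ hm, newton_neg _ hm, map_add, map_mul, map_mul, hinv, hσ, hσ,
    show (m : ℤ) - 1 - ((m : ℤ) - 1 - c) = c by ring]
  ring

lemma fwdDiff_hpair (σ : F ≃+* F) (γ : F) (c : ℤ) {m j : ℕ} (h : m ≤ j) :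
    Δ_[1] ^[j] (hpair σ γ c m) = fun _ => if j = m then γ + σ γ else 0 := by
  rw [hpair, fwdDiff_iter_add, fwdDiff_iter_const_smul, fwdDiff_iter_const_smul]
  rcases h.lt_or_eq with h | rfl
  · rw [fwdDiff_iter_newton_lt _ h, fwdDiff_iter_newton_lt _ h]
    funext x
    simp [h.ne']
  · rw [newton_self, newton_self]
    funext x
    simp

/-- A function vanishing under the `N`-th difference satisfies the recurrence of `(X - 1) ^ N`. -/
lemma recurrence_of_fwdDiff {b : ℤ → F} {N : ℕ} {c : F} (h : Δ_[1] ^[N] b = fun _ => c) (y : ℤ) :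
    ∑ k ∈ Finset.range (N + 1), (-1 : F) ^ (N - k) * (N.choose k : F) * b (y + k) = c := by
  have h' := congrFun h y
  rw [fwdDiff_iter_eq_sum_shift] at h'
  refine Eq.trans (Finset.sum_congr rfl fun k _ => ?_) h'
  simp [zsmul_eq_mul]

/-- The companion matrix has fixed entries. -/
lemma map_comp (σ : F ≃+* F) (N : ℕ) : (comp F N).map σ = comp F N := by
  ext i j
  rw [Matrix.map_apply, comp, Matrix.of_apply]
  split_ifs <;> simp

/-- A regular unipotent isometry of the standard unitary space with given orbit Gram sequence. -/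
theorem exists_data [Fintype F] {n q : ℕ} {σ : F ≃+* F} (hσ : ∀ x, σ x = x ^ q) (hinv : ∀ x, σ (σ x) = x)
    (hne : σ ≠ RingEquiv.refl F) (hn : 0 < n) (b : ℤ → F) (hb : ∀ x, b (-x) = σ (b x))
    (hrec : Δ_[1] ^[n] b = fun _ => 0) {top : F} (htop : Δ_[1] ^[n - 1] b = fun _ => top) (ht0 : top ≠ 0) :
    ∃ (u : GL (Fin n) F) (v : Fin n → F),
      CfsgLib.Transvec.Iso (Cfsg.hermForm n F q) u ∧ (u : Matrix (Fin n) (Fin n) F).det = 1 ∧
      ((u : Matrix (Fin n) (Fin n) F) - 1) ^ n = 0 ∧ ((u : Matrix (Fin n) (Fin n) F) - 1) ^ (n - 1) ≠ 0 ∧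
      (∀ i j : ℕ, i < n → j < n → Cfsg.hermForm n F q
        ((u : Matrix (Fin n) (Fin n) F) ^ i *ᵥ v) ((u : Matrix (Fin n) (Fin n) F) ^ j *ᵥ v) =
          b ((j : ℤ) - (i : ℤ))) ∧
      Submodule.span F (Set.range fun k : Fin n => (u : Matrix (Fin n) (Fin n) F) ^ (k : ℕ) *ᵥ v) = ⊤ := by
  classical
  haveI : NeZero n := ⟨by omega⟩
  set C := comp F n with hC
  set G : Matrix (Fin n) (Fin n) F := of fun i j => b (((j : ℕ) : ℤ) - ((i : ℕ) : ℤ)) with hG
  have hcol : ∀ (y : ℤ) (j : Fin n), ∑ s, C s j * b (y + (s : ℕ)) = b (y + ((j : ℕ) + 1)) := fun y j =>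
    Sp.comp_col (fun z => b (y + z)) (recurrence_of_fwdDiff hrec y) j
  have hCG : Cᵀ * G * C = G := by
    ext i j
    rw [Matrix.mul_assoc, Matrix.mul_apply]
    have h2 : ∀ r, (G * C) r j = σ (b (-((j : ℕ) + 1 : ℤ) + (r : ℕ))) := fun r => by
      rw [← hb, show -(-((j : ℕ) + 1 : ℤ) + (r : ℕ)) = -((r : ℕ) : ℤ) + ((j : ℕ) + 1) by ring, ← hcol,
        Matrix.mul_apply]
      refine Finset.sum_congr rfl fun s _ => ?_
      rw [hG, of_apply, mul_comm, show ((s : ℕ) : ℤ) - (r : ℕ) = -((r : ℕ) : ℤ) + (s : ℕ) by ring]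
    have h3 : ∀ r i, σ (C r i) = C r i := fun r i => congrFun (congrFun (map_comp σ n) r) i
    calc ∑ r, Cᵀ i r * (G * C) r j = σ (∑ r, C r i * b (-((j : ℕ) + 1 : ℤ) + (r : ℕ))) := by
          rw [map_sum]
          exact Finset.sum_congr rfl fun r _ => by rw [h2, map_mul, h3, transpose_apply]
      _ = G i j := by
          rw [hcol, ← hb, hG, of_apply]
          congr 1
          ring
  let B : (Fin n → F) →ₛₗ[(σ : F →+* F)] (Fin n → F) →ₗ[F] F :=
    LinearMap.mk₂'ₛₗ (σ : F →+* F) (RingHom.id F) (fun x y => y ⬝ᵥ (G *ᵥ (σ ∘ x)))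
      (fun x x' y => by
        rw [show (σ ∘ (x + x') : Fin n → F) = σ ∘ x + σ ∘ x' by funext i; simp, mulVec_add, dotProduct_add])
      (fun c x y => by
        rw [show (σ ∘ (c • x) : Fin n → F) = σ c • (σ ∘ x) by funext i; simp, mulVec_smul, dotProduct_smul]; rfl)
      (fun x y y' => by simp)
      (fun c x y => by simp)
  have hB : ∀ x y, B x y = y ⬝ᵥ (G *ᵥ (σ ∘ x)) := fun _ _ => rfl
  have hCσ : ∀ x : Fin n → F, σ ∘ (C *ᵥ x) = C *ᵥ (σ ∘ x) := fun x => by
    funext i
    have h := RingHom.map_mulVec σ.toRingHom C x i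
    rw [show C.map σ.toRingHom = C from map_comp σ n] at h
    exact h
  have hBC : ∀ x y, B (C *ᵥ x) (C *ᵥ y) = B x y := fun x y => by
    rw [hB, hB, hCσ, mulVec_mulVec, dotProduct_comm, dotProduct_mulVec, ← mulVec_transpose, mulVec_mulVec,
      dotProduct_comm, ← Matrix.mul_assoc, hCG]
  have hev : ∀ i j, i < n → j < n → B (ev F n j) (ev F n i) = b ((j : ℤ) - (i : ℤ)) := fun i j hi hj => by
    have hs : (σ ∘ ev F n j : Fin n → F) = ev F n j := by
      funext r
      rw [Function.comp_apply, ev, Pi.single_apply]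
      split_ifs <;> simp
    rw [hB, hs, ev, ev, mulVec_single_one, single_dotProduct, one_mul]
    show G (ix n i) (ix n j) = _
    rw [hG, of_apply, ix_val hi, ix_val hj]
  have hsymG : Gᵀ = G.map σ := by
    ext i j
    rw [transpose_apply, Matrix.map_apply, hG, of_apply, of_apply, ← hb]
    congr 1
    ring
  have hsym : ∀ x y, σ (B x y) = B y x := fun x y => by
    rw [hB, hB, show σ (y ⬝ᵥ (G *ᵥ (σ ∘ x))) = σ.toRingHom (y ⬝ᵥ (G *ᵥ (σ ∘ x))) from rfl,
      RingHom.map_dotProduct, show (σ.toRingHom ∘ (G *ᵥ (σ ∘ x)) : Fin n → F) = G.map σ *ᵥ x from ?_,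
      ← hsymG, mulVec_transpose, dotProduct_comm, ← dotProduct_mulVec]
    · rfl
    · funext i
      rw [Function.comp_apply, RingHom.map_mulVec]
      congr 1
      funext r
      exact hinv _
  have hsep : B.SeparatingLeft := by
    intro x hx
    by_contra hx0
    have hex : ∃ m, (C - 1) ^ m *ᵥ x = 0 := ⟨n, by rw [hC, comp_sub_one_pow, zero_mulVec]⟩
    have h0 : Nat.find hex ≠ 0 := fun h => hx0 (by simpa [h] using Nat.find_spec hex)
    obtain ⟨m, hm, hm'⟩ : ∃ m, (C - 1) ^ m *ᵥ x ≠ 0 ∧ (C - 1) ^ (m + 1) *ᵥ x = 0 :=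
      ⟨Nat.find hex - 1, Nat.find_min hex (by omega), by
        rw [Nat.sub_add_cancel (Nat.pos_of_ne_zero h0)]; exact Nat.find_spec hex⟩
    have hrad : ∀ k y, B ((C - 1) ^ k *ᵥ x) y = 0 := by
      intro k
      induction k with
      | zero => simpa using hx
      | succ k ih =>
        intro y
        obtain ⟨y', rfl⟩ : ∃ y', C *ᵥ y' = y := ⟨C⁻¹ *ᵥ y, by
          rw [mulVec_mulVec, Matrix.mul_nonsing_inv _ (by rw [hC, det_comp]; exact isUnit_one), one_mulVec]⟩
        rw [pow_succ', ← mulVec_mulVec, sub_mulVec, one_mulVec, map_sub, LinearMap.sub_apply, hBC, ih, ih,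
          sub_zero]
    set z := (C - 1) ^ (n - 1) *ᵥ ev F n 0 with hz
    set y := (C - 1) ^ m *ᵥ x with hy
    have hzfix : C *ᵥ z = z := by
      have h : (C - 1) *ᵥ z = 0 := by
        rw [hz, mulVec_mulVec, ← pow_succ', show n - 1 + 1 = n by omega, hC, comp_sub_one_pow, zero_mulVec]
      rwa [sub_mulVec, one_mulVec, sub_eq_zero] at h
    have hyfix : C *ᵥ y = y := by
      rw [pow_succ', ← mulVec_mulVec, sub_mulVec, one_mulVec, sub_eq_zero] at hm'
      exact hm'
    set L := ix n (n - 1)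
    have hzB : B z (ev F n 0) = top := by
      rw [hz, comp_sub_one_pow_mulVec, map_sum, LinearMap.sum_apply, ← recurrence_of_fwdDiff htop 0]
      refine Finset.sum_congr rfl fun k hk => ?_
      have hk' : k < n := by have := Finset.mem_range.1 hk; omega
      rw [LinearMap.map_smulₛₗ, LinearMap.smul_apply, smul_eq_mul, comp_pow_ev_zero hk', hev 0 k (by omega) hk',
        Nat.cast_zero, sub_zero, zero_add]
      congr 1
      simp
    have hzL : z L ≠ 0 := by
      intro h
      rw [Sp.fix_coord hzfix h, map_zero, LinearMap.zero_apply] at hzB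
      exact ht0 hzB.symm
    have hyz : y = (y L / z L) • z := by
      rw [← sub_eq_zero]
      refine Sp.fix_coord ?_ ?_
      · rw [mulVec_sub, mulVec_smul, hyfix, hzfix]
      · rw [Pi.sub_apply, Pi.smul_apply, smul_eq_mul, div_mul_cancel₀ _ hzL, sub_self]
    have := hrad m (ev F n 0)
    rw [← hy, hyz, LinearMap.map_smulₛₗ, LinearMap.smul_apply, smul_eq_mul, hzB] at this
    rcases mul_eq_zero.1 this with h | h
    · rw [map_eq_zero] at h
      rw [h, zero_smul] at hyz
      exact hm hyz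
    · exact ht0 h
  obtain ⟨bb, hbb⟩ := Cfsg.Agent.S0755.result (σ : F →+* F)
    (fun h => hne (RingEquiv.ext fun a => RingHom.congr_fun h a))
    hinv B ⟨fun x y => hsym x y⟩ ⟨hsep, fun y hy => hsep y fun w => by rw [← hsym w y, hy w, map_zero]⟩
  let e : (Fin n → F) ≃ₗ[F] (Fin n → F) :=
    (bb.reindex (finCongr (Module.finrank_fin_fun (R := F) (n := n)))).equivFun.symm
  have he : ∀ x y, B (e y) (e x) = Cfsg.hermForm n F q x y := fun x y => by
    rw [CfsgLib.Transvec.Unitary.hermForm_eq hσ]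
    simp only [e, Module.Basis.equivFun_symm_apply, map_sum, LinearMap.sum_apply, map_smulₛₗ,
      LinearMap.smul_apply, smul_eq_mul, RingHom.id_apply, Module.Basis.reindex_apply, hbb]
    simp [mul_comm]
  set s : (Fin n → F) →ₗ[F] (Fin n → F) :=
    e.symm.toLinearMap ∘ₗ Matrix.mulVecLin C ∘ₗ e.toLinearMap with hs
  have hinj : Function.Injective s := by
    intro a c h
    refine e.injective (Matrix.mulVec_injective_iff_isUnit.2 ?_ (e.symm.injective h))
    rw [Matrix.isUnit_iff_isUnit_det, det_comp]; exact isUnit_one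
  set u := CfsgLib.Transvec.glOfInjective s hinj with hu
  have hue : ∀ x, e ((u : Matrix (Fin n) (Fin n) F) *ᵥ x) = C *ᵥ e x := fun x => by
    rw [hu, CfsgLib.Transvec.glOfInjective_mulVec, hs]; simp
  have hpow : ∀ k x, e ((u : Matrix (Fin n) (Fin n) F) ^ k *ᵥ x) = C ^ k *ᵥ e x := by
    intro k
    induction k with
    | zero => simp
    | succ k ih => intro x; rw [pow_succ, pow_succ, ← mulVec_mulVec, ← mulVec_mulVec, ih, hue]
  have hNpow : ∀ k x, e (((u : Matrix (Fin n) (Fin n) F) - 1) ^ k *ᵥ x) = (C - 1) ^ k *ᵥ e x := by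
    intro k
    induction k with
    | zero => simp
    | succ k ih =>
      intro x
      rw [pow_succ, pow_succ, ← mulVec_mulVec, ← mulVec_mulVec, ih, sub_mulVec, sub_mulVec, one_mulVec,
        one_mulVec, map_sub, hue]
  set v := e.symm (ev F n 0)
  have hev0 : ∀ k, k < n → e ((u : Matrix (Fin n) (Fin n) F) ^ k *ᵥ v) = ev F n k := fun k hk => by
    rw [hpow, LinearEquiv.apply_symm_apply, hC, comp_pow_ev_zero hk]
  have hdet : (u : Matrix (Fin n) (Fin n) F).det = 1 := by
    have hnil : IsNilpotent ((u : Matrix (Fin n) (Fin n) F) - 1) := ⟨n, Matrix.ext_of_mulVec_single fun i =>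
      e.injective (by rw [hNpow, hC, comp_sub_one_pow, zero_mulVec, zero_mulVec, map_zero])⟩
    have h1 : LinearMap.det (Matrix.toLin' (u : Matrix (Fin n) (Fin n) F)) = LinearMap.det (Matrix.toLin' C) := by
      rw [← LinearMap.det_conj (Matrix.toLin' (u : Matrix (Fin n) (Fin n) F)) e]
      congr 1
      refine LinearMap.ext fun x => ?_
      simp [hue]
    rwa [LinearMap.det_toLin', LinearMap.det_toLin', hC, det_comp] at h1
  refine ⟨u, v, fun x y => ?_, hdet, ?_, fun h => ?_, fun i j hi hj => ?_, ?_⟩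
  · rw [← he, ← he, hue, hue, hBC]
  · refine Matrix.ext_of_mulVec_single fun i => e.injective ?_
    rw [hNpow, hC, comp_sub_one_pow, zero_mulVec, zero_mulVec, map_zero]
  · refine comp_sub_one_pow_ne (F := F) (n := n) (by omega) (Matrix.ext_of_mulVec_single fun i => ?_)
    have := hNpow (n - 1) (e.symm (Pi.single i 1))
    rw [h, zero_mulVec, map_zero, LinearEquiv.apply_symm_apply] at this
    rw [← hC, ← this, zero_mulVec]
  · rw [← he, hev0 i hi, hev0 j hj, hev i j hi hj]
  · refine Submodule.eq_top_iff'.2 fun x => ?_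
    have hx : x = ∑ k : Fin n, e x k • ((u : Matrix (Fin n) (Fin n) F) ^ (k : ℕ) *ᵥ v) := by
      refine e.injective ?_
      rw [map_sum, pi_eq_sum_univ' (e x)]
      refine Finset.sum_congr rfl fun k _ => ?_
      rw [map_smul, hev0 k k.2, ← pi_eq_sum_univ' (e x), ev, ix_fin]
    rw [hx]
    exact Submodule.sum_mem _ fun k _ => Submodule.smul_mem _ _ (Submodule.subset_span ⟨k, rfl⟩)

end CfsgLib.RegUnipotentGen.Herm
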