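/-
Three conjugate regular unipotents generate SU in odd dimension.
-/
import Cfsg.Agent.Lib.KnownSimple.RegUnipotentGen.SUOddSpace
import Cfsg.Agent.Lib.KnownSimple.RegUnipotentGen.SUOddFour
import Cfsg.Agent.Lib.KnownSimple.RegUnipotentGen.SUOddExtract
import Cfsg.Agent.Lib.Classical.UnitaryPSU

set_option autoImplicit false
set_option linter.unusedSectionVars false
set_option linter.style.haveILetI false

namespace CfsgLib.RegUnipotentGen.Herm

open Matrix CfsgLib.Transvec CfsgLib.Transvec.Unitary CfsgLib.Classical.Unitary Four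
open scoped MatrixGroups fwdDiff

variable {F : Type*} [Field F] {σ : F ≃+* F}

theorem newton_natCast (c m x : ℕ) : newton F (c : ℤ) m (x : ℤ) = (((x + c).choose m : ℕ) : F) := by
  rw [newton_apply, ← Nat.cast_add, Ring.choose_natCast, Int.cast_natCast]

theorem hpair_natCast (γ : F) {c c' m : ℕ} (h : c + c' + 1 = m) (x : ℕ) :
    hpair σ γ (c : ℤ) m (x : ℤ) = γ * (((x + c).choose m : ℕ) : F) + σ γ * (((x + c').choose m : ℕ) : F) := by
  rw [hpair_apply, show (m : ℤ) - 1 - (c : ℤ) = (c' : ℤ) by omega, newton_natCast, newton_natCast]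

theorem fwdDiff_ite_hpair (p : Prop) [Decidable p] (γ : F) (c : ℤ) {m j : ℕ} (h : m ≤ j) :
    Δ_[1] ^[j] (if p then (0 : ℤ → F) else hpair σ γ c m) =
      fun _ => if p then 0 else if j = m then γ + σ γ else 0 := by
  by_cases hp : p
  · simp only [hp, if_true]
    induction j generalizing m with
    | zero => rfl
    | succ j ih =>
      rw [Function.iterate_succ_apply, show Δ_[1] (0 : ℤ → F) = 0 by funext x; simp [fwdDiff]]
      exact ih (Nat.zero_le j)
  · simp only [hp, if_false]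
    exact fwdDiff_hpair σ γ c h

/-- A unipotent with a chain of centres, from which the transvection group is generated. -/
def HasTriple (σ : F ≃+* F) {n : ℕ} (f : (Fin n → F) → (Fin n → F) → F) : Prop :=
  ∃ u g h : GL (Fin n) F,
    (Iso f u ∧ (u : Matrix (Fin n) (Fin n) F).det = 1) ∧ (Iso f g ∧ (g : Matrix (Fin n) (Fin n) F).det = 1) ∧
    (Iso f h ∧ (h : Matrix (Fin n) (Fin n) F).det = 1) ∧
    (((u : Matrix (Fin n) (Fin n) F) - 1) ^ n = 0 ∧ ((u : Matrix (Fin n) (Fin n) F) - 1) ^ (n - 1) ≠ 0) ∧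
    transvGroup σ f ≤ Subgroup.closure ({u, g * u * g⁻¹, h * u * h⁻¹} : Set (GL (Fin n) F))

variable [Fintype F] {n q : ℕ}

/-- The generation from prescribed Gram data. -/
theorem hasTriple_of_seq (hF : Fintype.card F = q ^ 2) (hσ : ∀ x, σ x = x ^ q) (hinv : ∀ x, σ (σ x) = x)
    (hne : σ ≠ RingEquiv.refl F) (hn : 3 ≤ n) (h32 : ¬ (n = 3 ∧ q = 2)) (b : ℤ → F) (hb : ∀ x, b (-x) = σ (b x))
    (hb0 : b 0 = 0) (hrec : Δ_[1] ^[n] b = fun _ => 0) {top : F} (htop : Δ_[1] ^[n - 1] b = fun _ => top)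
    (ht0 : top ≠ 0) (hb1 : b 1 ≠ 0)
    (hext : 4 ≤ q → ∃ τ : F, τ ≠ 0 ∧ τ + σ τ = 0 ∧ b 1 * σ (b 1) = -(τ * τ))
    (hbase : (3 ≤ q ∧ b 1 * b 1 * σ (b 2) + σ (b 1) * σ (b 1) * b 2 ≠ 0) ∨
      (q = 2 ∧ 5 ≤ n ∧ ∃ (w : F) (bl : List ℕ) (sI sN : ℕ) (dI dN : List ℕ), w * w + w + 1 = 0 ∧
        (∀ i, bl.getD i 0 < 4) ∧ (∀ i : ℕ, i < 5 → b (i : ℤ) = fieldOf w (bl.getD i 0)) ∧
        checkAll bl sI dI sN dN = true)) :
    HasTriple σ (Cfsg.hermForm n F q) := by
  classical
  have hf := isUnitaryForm_hermForm (n := n) hσ hinv hne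
  have hq := CfsgLib.Classical.two_le_q hF
  set f := Cfsg.hermForm n F q with hfdef
  obtain ⟨u, v, hu, hdet, hN, hN', hgram, hspan⟩ := exists_data hσ hinv hne (by omega : 0 < n) b hb hrec htop ht0
  set vv : ℕ → (Fin n → F) := fun i => (u : Matrix (Fin n) (Fin n) F) ^ i *ᵥ v with hvv
  have hspan' : Submodule.span F (vv '' Set.Iio n) = ⊤ := by
    rw [← hspan]
    congr 1
    ext x
    exact ⟨fun ⟨i, hi, hx⟩ => ⟨⟨i, hi⟩, hx⟩, fun ⟨k, hk⟩ => ⟨k, k.2, hk⟩⟩
  have hgr : ∀ i j : ℕ, i < n → j < n → f (vv i) (vv j) = b ((j : ℤ) - (i : ℤ)) := hgram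
  have hadj : ∀ i, i + 1 < n → f (vv i) (vv (i + 1)) ≠ 0 := fun i hi => by
    rw [hgr i (i + 1) (by omega) hi, show ((i + 1 : ℕ) : ℤ) - (i : ℤ) = 1 by push_cast; ring]
    exact hb1
  have hiso : ∀ i, i < n → f (vv i) (vv i) = 0 := fun i hi => by rw [hgr i i hi hi, sub_self, hb0]
  have hv0 : vv 0 ≠ 0 := fun h => hadj 0 (by omega) (by rw [h, zero_left' hf])
  have hv1 : vv 1 = (u : Matrix (Fin n) (Fin n) F) *ᵥ vv 0 := by simp [vv]
  have hclose : ∀ M : Subgroup (GL (Fin n) F), u ∈ M → UFull σ f M (vv 0) → transvGroup σ f ≤ M := by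
    intro M huM h0
    have hall : ∀ i, UFull σ f M (vv i) := by
      intro i
      induction i with
      | zero => exact h0
      | succ i ih =>
        rw [show vv (i + 1) = (u : Matrix (Fin n) (Fin n) F) *ᵥ vv i by
          simp only [vv]; rw [mulVec_mulVec, ← pow_succ']]
        exact ufull_conj hf huM hu ih
    obtain ⟨W, hW0, hW⟩ : ∃ W, vv 0 ∈ W ∧ Grown σ f M W := by
      rcases hbase with ⟨hq3, hd⟩ | ⟨rfl, hn5, w, bl, sI, sN, dI, dN, hw, hbl, hval, hchk⟩
      · refine grown_of_three hf ?_ (hall 0) (hall 1) (hall 2) (b1 := b 1) (b2 := b 2) ?_ ?_ ?_ hb1 hd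
        · intro ρ _ _
          obtain ⟨t, ht0, ht⟩ := exists_skew hne hinv
          by_cases h : t⁻¹ + ρ ≠ 0
          · exact ⟨t, ht, ht0, h⟩
          push Not at h
          obtain ⟨c, hc0, hc, hc1⟩ := exists_skew_ne_neg_one hF hq3 hσ hinv hne
          by_cases h' : c⁻¹ + ρ ≠ 0
          · exact ⟨c, hc, hc0, h'⟩
          push Not at h'
          obtain ⟨k, hk, hk0, hk1⟩ : ∃ k : F, σ k = k ∧ k ≠ 0 ∧ k ≠ 1 := by
            haveI : Fintype (fixF σ) := Fintype.ofFinite _
            obtain ⟨k, -, hk⟩ := Finset.exists_mem_notMem_of_card_lt_card (s := ({0, 1} : Finset (fixF σ)))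
              (t := Finset.univ) (lt_of_le_of_lt Finset.card_le_two (by
                rw [Finset.card_univ, card_fixF hF hinv hne]; omega))
            simp only [Finset.mem_insert, Finset.mem_singleton, not_or] at hk
            exact ⟨k, mem_fixF.1 k.2, fun h => hk.1 (Subtype.ext h), fun h => hk.2 (Subtype.ext h)⟩
          refine ⟨k * t, by rw [map_mul, hk]; linear_combination k * ht, mul_ne_zero hk0 ht0, fun h2 => hk1 ?_⟩
          have : (k * t)⁻¹ = t⁻¹ := by linear_combination h2 - h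
          rw [_root_.inv_inj] at this
          exact mul_right_cancel₀ ht0 (this.trans (one_mul t).symm)
        · rw [hgr 0 1 (by omega) (by omega)]; rfl
        · rw [hgr 1 2 (by omega) (by omega)]; rfl
        · rw [hgr 0 2 (by omega) (by omega)]; rfl
      · haveI : Fact (Nat.Prime 2) := ⟨Nat.prime_two⟩
        haveI : CharP F 2 := charP_of_card_eq_prime_pow hF
        have h2 : (2 : F) = 0 := by exact_mod_cast CharP.cast_eq_zero F 2
        refine grown_of_five (w := w) (v := vv) (bl := bl) h2 hw ?_ hf hbl ?_ (by rw [hF]; norm_num) hchk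
          (fun j _ => hall j) hv0
        · rw [hσ, pow_two]
        · intro i j hij hj
          rw [hgr i j (by omega) (by omega), ← Nat.cast_sub hij]
          exact hval (j - i) (by omega)
    exact transvGroup_le_of_grown hf hW (fun i _ => hall i) hspan' hadj hW0 hv0 (by omega)
  have hTok : ∀ c, c + σ c = 0 →
      Iso f (uT f (vv 0) c) ∧ (uT f (vv 0) c : Matrix (Fin n) (Fin n) F).det = 1 := fun c hc =>
    ⟨iso_uT hf (hiso 0 (by omega)) hc, (mem_specialLinear_iff _).mp (transv_mem_specialLinear _ _)⟩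
  rcases (show 4 ≤ q ∨ q ≤ 3 by omega) with h4 | h3
  · haveI : Fintype (fixF σ) := Fintype.ofFinite _
    obtain ⟨τ, hτ0, hτ, hn'⟩ := hext h4
    obtain ⟨s, t, hst⟩ := Sp.exists_E2_pair (F := fixF σ) (by rw [card_fixF hF hinv hne]; exact h4)
    have hr : ∀ r : fixF σ, -(r : F) / τ + σ (-(r : F) / τ) = 0 := fun r => by
      rw [map_div₀, map_neg, mem_fixF.1 r.2, show σ τ = -τ by linear_combination hτ, div_neg]
      ring
    refine ⟨u, uT f (vv 0) (-(s : F) / τ), uT f (vv 0) (-(t : F) / τ), ⟨hu, hdet⟩, hTok _ (hr s), hTok _ (hr t),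
      ⟨hN, hN'⟩, ?_⟩
    set M := Subgroup.closure ({u, uT f (vv 0) (-(s : F) / τ) * u * (uT f (vv 0) (-(s : F) / τ))⁻¹,
      uT f (vv 0) (-(t : F) / τ) * u * (uT f (vv 0) (-(t : F) / τ))⁻¹} : Set (GL (Fin n) F))
    have huM : u ∈ M := Subgroup.subset_closure (Set.mem_insert _ _)
    have hsM := letter_mem hf hu huM (hiso 0 (by omega))
      (Subgroup.subset_closure (Set.mem_insert_of_mem _ (Set.mem_insert _ _)) :
        uT f (vv 0) (-(s : F) / τ) * u * (uT f (vv 0) (-(s : F) / τ))⁻¹ ∈ M)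
    have htM := letter_mem hf hu huM (hiso 0 (by omega))
      (Subgroup.subset_closure (Set.mem_insert_of_mem _ (Set.mem_insert_of_mem _ rfl)) :
        uT f (vv 0) (-(t : F) / τ) * u * (uT f (vv 0) (-(t : F) / τ))⁻¹ ∈ M)
    simp only [← hv1, neg_div, neg_neg] at hsM htM
    refine hclose M huM ⟨hiso 0 (by omega), fun c hc => ?_⟩
    refine uT_mem_of_pair hf (hiso 0 (by omega)) (hiso 1 (by omega)) hτ0 hτ ?_ hst ?_ ?_ hc
    · rw [hgr 0 1 (by omega) (by omega)]; exact hn'
    · rw [neg_div]; exact hsM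
    · rw [neg_div]; exact htM
  · obtain ⟨c, hc0, hc⟩ := exists_skew hne hinv
    obtain ⟨g, hg⟩ : ∃ g, g = uT f (vv 0) c := ⟨_, rfl⟩
    have hgok := hTok c hc
    rw [← hg] at hgok
    refine ⟨u, g, g * g, ⟨hu, hdet⟩, hgok, ⟨hgok.1.mul hgok.1, by rw [Units.val_mul, det_mul, hgok.2, one_mul]⟩, ⟨hN, hN'⟩, ?_⟩
    set M := Subgroup.closure ({u, g * u * g⁻¹, g * g * u * (g * g)⁻¹} : Set (GL (Fin n) F))
    have h0 := hiso 0 (by omega : 0 < n)
    have hadd : ∀ r r' : F, uT f (vv 0) r * uT f (vv 0) r' = uT f (vv 0) (r + r') := fun r r' => gl_ext fun y => by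
      rw [mul_mulVec, uT_mulVec hf h0, uT_mulVec hf h0, uT_mulVec hf h0, hf.add_left, hf.smul_left, h0]
      module
    have hzero : uT f (vv 0) 0 = 1 := gl_ext fun y => by rw [uT_mulVec hf h0]; simp
    have hq23 : q = 2 ∨ q = 3 := by omega
    have hg3 : g * g * g = 1 ∨ g * g * g = g := by
      rw [hg, hadd, hadd]
      rcases hq23 with h | h
      · right
        subst h
        haveI : Fact (Nat.Prime 2) := ⟨Nat.prime_two⟩
        haveI : CharP F 2 := charP_of_card_eq_prime_pow hF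
        have h2 : (2 : F) = 0 := by exact_mod_cast CharP.cast_eq_zero F 2
        rw [show c + c + c = c by linear_combination c * h2]
      · left
        subst h
        haveI : Fact (Nat.Prime 3) := ⟨Nat.prime_three⟩
        haveI : CharP F 3 := charP_of_card_eq_prime_pow hF
        have h3 : (3 : F) = 0 := by exact_mod_cast CharP.cast_eq_zero F 3
        rw [show c + c + c = 0 by linear_combination c * h3, hzero]
    have hgN : g ∈ Subgroup.normalizer (M : Set (GL (Fin n) F)) := by
      refine Subgroup.mem_normalizer_fintype fun x hx => ?_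
      have hle : M ≤ M.comap (MulAut.conj g).toMonoidHom := by
        refine (Subgroup.closure_le _).2 ?_
        have h1 : u ∈ M := Subgroup.subset_closure (Set.mem_insert _ _)
        have h2 : g * u * g⁻¹ ∈ M := Subgroup.subset_closure (Set.mem_insert_of_mem _ (Set.mem_insert _ _))
        have h3' : g * g * u * (g * g)⁻¹ ∈ M :=
          Subgroup.subset_closure (Set.mem_insert_of_mem _ (Set.mem_insert_of_mem _ rfl))
        rintro y (rfl | rfl | rfl) <;> simp only [SetLike.mem_coe, Subgroup.mem_comap, MulEquiv.coe_toMonoidHom,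
          MulAut.conj_apply]
        · exact h2
        · rwa [show g * (g * u * g⁻¹) * g⁻¹ = g * g * u * (g * g)⁻¹ by group]
        · rw [show g * (g * g * u * (g * g)⁻¹) * g⁻¹ = g * g * g * u * (g * g * g)⁻¹ by group]
          rcases hg3 with h | h <;> rw [h]
          · simpa using h1
          · exact h2
      simpa using hle hx
    have hfull : transvGroup σ f ≤ M ⊔ Subgroup.zpowers g := by
      refine hclose _ (Subgroup.mem_sup_left (Subgroup.subset_closure (Set.mem_insert _ _))) ⟨h0, fun d hd => ?_⟩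
      obtain ⟨x, hx⟩ : ∃ x, x = d / c := ⟨_, rfl⟩
      have hd' : d = x * c := by rw [hx, div_mul_cancel₀ _ hc0]
      have hxσ : σ x = x := by
        rw [hx, map_div₀, show σ d = -d by linear_combination hd, show σ c = -c by linear_combination hc,
          neg_div_neg_eq]
      rw [hσ] at hxσ
      have hgz : g ∈ M ⊔ Subgroup.zpowers g := Subgroup.mem_sup_right (Subgroup.mem_zpowers g)
      have hgi : uT f (vv 0) (-c) = g⁻¹ := by
        rw [eq_comm, hg]
        refine inv_eq_of_mul_eq_one_right ?_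
        rw [hadd, add_neg_cancel, hzero]
      have hx' : x = 0 ∨ x = 1 ∨ x = -1 := by
        rcases hq23 with h | h <;> subst h
        · have : x * (x - 1) = 0 := by linear_combination hxσ
          rcases mul_eq_zero.1 this with h | h
          · exact Or.inl h
          · exact Or.inr (Or.inl (sub_eq_zero.1 h))
        · have : x * ((x - 1) * (x + 1)) = 0 := by linear_combination hxσ
          rcases mul_eq_zero.1 this with h | h
          · exact Or.inl h
          · rcases mul_eq_zero.1 h with h | h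
            · exact Or.inr (Or.inl (sub_eq_zero.1 h))
            · exact Or.inr (Or.inr (eq_neg_of_add_eq_zero_left h))
      rcases hx' with rfl | rfl | rfl
      · rw [hd', zero_mul, hzero]; exact one_mem _
      · rw [hd', one_mul, ← hg]; exact hgz
      · rw [hd', neg_one_mul, hgi]; exact inv_mem hgz
    refine le_of_perfect_adjoin ?_ hfull hgN
    refine transvGroup_perfect hf (by rwa [Fintype.card_fin]) ?_ (hermForm_basis hσ)
    rw [Fintype.card_fin]
    by_cases h4n : 4 ≤ n
    · exact Or.inl h4n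
    · exact Or.inr (exists_skew_ne_neg_one hF (by omega) hσ hinv hne)

/-- The scalar for the second Gram value. -/
theorem exists_gamma (hF : Fintype.card F = q ^ 2) (hσ : ∀ x, σ x = x ^ q) (hinv : ∀ x, σ (σ x) = x)
    (hne : σ ≠ RingEquiv.refl F) :
    ∃ γ : F, γ + σ γ ≠ 0 ∧ σ γ ≠ γ ∧
      (4 ≤ q → ∃ τ : F, τ ≠ 0 ∧ τ + σ τ = 0 ∧ σ γ * σ (σ γ) = -(τ * τ)) := by
  classical
  obtain ⟨τ, hτ0, hτ⟩ := exists_skew hne hinv
  have hστ : σ τ = -τ := by linear_combination hτ
  by_cases h4 : 4 ≤ q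
  · obtain ⟨g, hg⟩ := IsCyclic.exists_generator (α := Fˣ)
    have hord : orderOf g = (q - 1) * (q + 1) := by
      rw [orderOf_eq_card_of_forall_mem_zpowers hg, Nat.card_units, Nat.card_eq_fintype_card, hF, mul_comm,
        ← Nat.sq_sub_sq, one_pow]
    have hlord : orderOf (g ^ (q - 1)) = q + 1 := by
      rw [orderOf_pow_of_dvd (by omega) (hord ▸ dvd_mul_right _ _), hord, Nat.mul_div_cancel_left _ (by omega)]
    obtain ⟨l, hl⟩ : ∃ l : F, l = ((g ^ (q - 1) : Fˣ) : F) := ⟨_, rfl⟩
    have hl0 : l ≠ 0 := hl ▸ Units.ne_zero _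
    have hNl : l * σ l = 1 := by
      rw [hσ, ← pow_succ', hl, ← Units.val_pow_eq_pow_val, ← hlord, pow_orderOf_eq_one, Units.val_one]
    have hl4 : l ^ 4 ≠ 1 := fun h => by
      have h' : (g ^ (q - 1)) ^ 4 = 1 := Units.ext (by rw [Units.val_pow_eq_pow_val, ← hl, h, Units.val_one])
      have := Nat.le_of_dvd (by norm_num) (hlord ▸ orderOf_dvd_of_pow_eq_one h')
      omega
    refine ⟨τ * l, fun h => ?_, fun h => ?_, fun _ => ⟨τ, hτ0, hτ, ?_⟩⟩
    · rw [map_mul, hστ] at h
      have h1 : σ l = l := by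
        have : τ * (l - σ l) = 0 := by linear_combination h
        exact (sub_eq_zero.1 ((mul_eq_zero.1 this).resolve_left hτ0)).symm
      rw [h1] at hNl
      exact hl4 (by linear_combination (l * l + 1) * hNl)
    · rw [map_mul, hστ] at h
      have h1 : σ l = -l := by
        have : τ * (σ l + l) = 0 := by linear_combination -h
        linear_combination (mul_eq_zero.1 this).resolve_left hτ0
      rw [h1] at hNl
      exact hl4 (by linear_combination (l * l - 1) * (-1 : F) * hNl)
    · rw [hinv, map_mul, hστ]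
      linear_combination (-(τ * τ)) * hNl
  · obtain ⟨e, he⟩ := exists_trace_eq hne hinv (b := (1 : F)) (map_one σ)
    by_cases hee : σ e = e
    · refine ⟨e + τ, ?_, fun h => ?_, fun h => absurd h h4⟩
      · rw [map_add, hστ, show e + τ + (σ e + -τ) = e + σ e by ring, he]; exact one_ne_zero
      · rw [map_add, hστ, hee] at h
        have h2 : (2 : F) * τ = 0 := by linear_combination -h
        have h2' : (2 : F) ≠ 0 := fun h0 => one_ne_zero (α := F) (by rw [hee] at he; linear_combination -he + e * h0)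
        exact hτ0 ((mul_eq_zero.1 h2).resolve_left h2')
    · exact ⟨e, by rw [he]; exact one_ne_zero, hee, fun h => absurd h h4⟩

/-- The field with four elements. -/
theorem exists_omega (hF : Fintype.card F = 2 ^ 2) :
    ∃ w : F, w * w + w + 1 = 0 := by
  classical
  obtain ⟨w, -, hw⟩ := Finset.exists_mem_notMem_of_card_lt_card (s := ({0, 1} : Finset F)) (t := Finset.univ)
    (lt_of_le_of_lt Finset.card_le_two (by rw [Finset.card_univ, hF]; norm_num))
  simp only [Finset.mem_insert, Finset.mem_singleton, not_or] at hw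
  refine ⟨w, ?_⟩
  have h4 := FiniteField.pow_card w
  rw [hF] at h4
  have h : w * (w - 1) * (w * w + w + 1) = 0 := by linear_combination h4
  exact (mul_eq_zero.1 h).resolve_left (mul_ne_zero hw.1 (sub_ne_zero.2 hw.2))

/-- `SU(n, q)`, `n` odd. -/
theorem hasTriple_hermForm (hF : Fintype.card F = q ^ 2) (hσ : ∀ x, σ x = x ^ q) (hinv : ∀ x, σ (σ x) = x)
    (hne : σ ≠ RingEquiv.refl F) (hn : 3 ≤ n) (hodd : Odd n) (h32 : ¬ (n = 3 ∧ q = 2)) :
    HasTriple σ (Cfsg.hermForm n F q) := by
  have hq := CfsgLib.Classical.two_le_q hF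
  obtain ⟨k, rfl⟩ := hodd
  by_cases hq2 : q = 2
  · subst hq2
    haveI : Fact (Nat.Prime 2) := ⟨Nat.prime_two⟩
    haveI : CharP F 2 := charP_of_card_eq_prime_pow hF
    have h2 : (2 : F) = 0 := by exact_mod_cast CharP.cast_eq_zero F 2
    obtain ⟨w, hw⟩ := exists_omega hF
    have hσw : σ w = 1 + w := by rw [hσ]; linear_combination hw - (1 + w) * h2
    have hwtr : w + σ w ≠ 0 := by
      rw [hσw, show w + (1 + w) = 1 by linear_combination w * h2]; exact one_ne_zero
    have hk : 2 ≤ k := by omega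
    obtain ⟨b, hbdef⟩ : ∃ b : ℤ → F, b = hpair σ w ((0 : ℕ) : ℤ) 2 + hpair σ w ((2 : ℕ) : ℤ) 4 +
        (if k = 2 then 0 else hpair σ w (k : ℤ) (2 * k)) := ⟨_, rfl⟩
    have hval : ∀ x : ℕ, b (x : ℤ) = w * ((x.choose 2 : ℕ) : F) + σ w * (((x + 1).choose 2 : ℕ) : F) +
        (w * (((x + 2).choose 4 : ℕ) : F) + σ w * (((x + 1).choose 4 : ℕ) : F)) +
        (if k = 2 then 0
          else w * (((x + k).choose (2 * k) : ℕ) : F) + σ w * (((x + (k - 1)).choose (2 * k) : ℕ) : F)) := by
      intro x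
      rw [hbdef]
      simp only [Pi.add_apply]
      rw [hpair_natCast (c := 0) (c' := 1) w (by norm_num) x, hpair_natCast (c := 2) (c' := 1) w (by norm_num) x,
        Nat.add_zero]
      congr 1
      split_ifs with h
      · rfl
      · exact hpair_natCast w (by omega) x
    obtain ⟨bl, sI, sN, dI, dN, hbl, hgr, hchk⟩ : ∃ (bl : List ℕ) (sI sN : ℕ) (dI dN : List ℕ),
        (∀ i, bl.getD i 0 < 4) ∧ (∀ i : ℕ, i < 5 → b (i : ℤ) = fieldOf w (bl.getD i 0)) ∧
        checkAll bl sI dI sN dN = true := by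
      have hlt : ∀ l : List ℕ, (∀ a ∈ l, a < 4) → ∀ i, l.getD i 0 < 4 := by
        intro l hl i
        rw [List.getD_eq_getElem?_getD]
        cases hq : l[i]? with
        | none => simp
        | some a => simpa using hl a (List.mem_of_getElem? hq)
      rcases (show k = 2 ∨ k = 3 ∨ k = 4 ∨ 5 ≤ k by omega) with rfl | rfl | rfl | hk5
      · refine ⟨blA, stAI, stAN, derAI, derAN, hlt _ (by decide), fun i hi => ?_, checkA⟩
        rw [hval]
        interval_cases i <;> norm_num [blA, fieldOf, Nat.choose, hσw] <;>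
          first | linear_combination (0 : F) * h2 | linear_combination w * h2 | grobner
      · refine ⟨blB, stBI, stBN, derBI, derBN, hlt _ (by decide), fun i hi => ?_, checkB⟩
        rw [hval]
        interval_cases i <;> norm_num [blB, fieldOf, Nat.choose, hσw] <;> grobner
      · refine ⟨blC, stCI, stCN, derCI, derCN, hlt _ (by decide), fun i hi => ?_, checkC⟩
        rw [hval]
        interval_cases i <;> norm_num [blC, fieldOf, Nat.choose, hσw] <;> grobner
      · refine ⟨blA, stAI, stAN, derAI, derAN, hlt _ (by decide), fun i hi => ?_, checkA⟩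
        rw [hval, if_neg (by omega), Nat.choose_eq_zero_of_lt (show i + k < 2 * k by omega),
          Nat.choose_eq_zero_of_lt (show i + (k - 1) < 2 * k by omega)]
        interval_cases i <;> norm_num [blA, fieldOf, Nat.choose, hσw] <;> grobner
    have hb1 : b 1 = 1 + w := by
      rw [show (1 : ℤ) = ((1 : ℕ) : ℤ) by rfl, hval]
      rcases eq_or_ne k 2 with h | h
      · rw [if_pos h]; norm_num [Nat.choose, hσw]
      · rw [if_neg h, Nat.choose_eq_zero_of_lt (show 1 + k < 2 * k by omega),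
          Nat.choose_eq_zero_of_lt (show 1 + (k - 1) < 2 * k by omega)]
        norm_num [Nat.choose, hσw]
    refine hasTriple_of_seq hF hσ hinv hne hn h32 b ?_ ?_ ?_ (top := w + σ w) ?_ hwtr ?_ (fun h => absurd h (by norm_num))
      (Or.inr ⟨rfl, by omega, w, bl, sI, sN, dI, dN, hw, hbl, hgr, hchk⟩)
    · intro x
      rw [hbdef]
      simp only [Pi.add_apply, map_add]
      rw [hpair_neg hinv w _ (show Even 2 from ⟨1, rfl⟩), hpair_neg hinv w _ (show Even 4 from ⟨2, rfl⟩)]
      by_cases h : k = 2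
      · simp [h]
      · simp only [if_neg h]
        rw [hpair_neg hinv w _ (even_two_mul k)]
    · rw [show (0 : ℤ) = ((0 : ℕ) : ℤ) by rfl, hval, Nat.choose_eq_zero_of_lt (show 0 + k < 2 * k by omega),
        Nat.choose_eq_zero_of_lt (show 0 + (k - 1) < 2 * k by omega)]
      norm_num [Nat.choose]
    · rw [hbdef, fwdDiff_iter_add, fwdDiff_iter_add, fwdDiff_hpair σ _ _ (show 2 ≤ 2 * k + 1 by omega),
        fwdDiff_hpair σ _ _ (show 4 ≤ 2 * k + 1 by omega), fwdDiff_ite_hpair _ _ _ (show 2 * k ≤ 2 * k + 1 by omega)]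
      funext x
      simp only [Pi.add_apply]
      rw [if_neg (show 2 * k + 1 ≠ 2 by omega), if_neg (show 2 * k + 1 ≠ 4 by omega),
        if_neg (show 2 * k + 1 ≠ 2 * k by omega)]
      simp
    · rw [show 2 * k + 1 - 1 = 2 * k by omega, hbdef, fwdDiff_iter_add, fwdDiff_iter_add,
        fwdDiff_hpair σ _ _ (show 2 ≤ 2 * k by omega), fwdDiff_hpair σ _ _ (show 4 ≤ 2 * k by omega),
        fwdDiff_ite_hpair _ _ _ (le_refl (2 * k))]
      funext x
      simp only [Pi.add_apply]
      rcases eq_or_ne k 2 with h | h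
      · subst h; simp
      · rw [if_neg (show 2 * k ≠ 2 by omega), if_neg (show 2 * k ≠ 4 by omega), if_neg h]
        simp
    · rw [hb1]
      intro h
      exact one_ne_zero (α := F) (by linear_combination hw - w * h)
  obtain ⟨γ, hγtr, hγr, hγext⟩ := exists_gamma hF hσ hinv hne
  obtain ⟨τ, hτ0, hτ⟩ := exists_skew hne hinv
  obtain ⟨ε, hε, hεd⟩ : ∃ ε : F, ε + σ ε ≠ 0 ∧
      (γ + σ γ) ^ 3 + (σ γ * σ γ * σ ε + γ * γ * ε) ≠ 0 := by
    by_cases h : (γ + σ γ) ^ 3 + (σ γ * σ γ * σ γ + γ * γ * γ) ≠ 0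
    · exact ⟨γ, hγtr, h⟩
    push Not at h
    refine ⟨γ + τ, by rwa [map_add, show γ + τ + (σ γ + σ τ) = γ + σ γ by linear_combination hτ], fun h' => ?_⟩
    rw [map_add, show σ τ = -τ by linear_combination hτ] at h'
    have h'' : τ * ((γ + σ γ) * (γ - σ γ)) = 0 := by linear_combination h' - h
    exact mul_ne_zero hτ0 (mul_ne_zero hγtr (sub_ne_zero.2 (Ne.symm hγr))) h''
  obtain ⟨b, hbdef⟩ : ∃ b : ℤ → F, b = hpair σ γ ((0 : ℕ) : ℤ) 2 +
      (if k = 1 then 0 else hpair σ ε (k : ℤ) (2 * k)) := ⟨_, rfl⟩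
  have hval : ∀ x : ℕ, b (x : ℤ) = γ * ((x.choose 2 : ℕ) : F) + σ γ * (((x + 1).choose 2 : ℕ) : F) +
      (if k = 1 then 0
        else ε * (((x + k).choose (2 * k) : ℕ) : F) + σ ε * (((x + (k - 1)).choose (2 * k) : ℕ) : F)) := by
    intro x
    rw [hbdef]
    simp only [Pi.add_apply]
    rw [hpair_natCast (c := 0) (c' := 1) γ (by norm_num) x, Nat.add_zero]
    congr 1
    split_ifs with h
    · rfl
    · exact hpair_natCast ε (by omega) x
  have hv0 : b 0 = 0 := by
    rw [show (0 : ℤ) = ((0 : ℕ) : ℤ) by rfl, hval]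
    split_ifs with h
    · simp
    · simp [Nat.choose_eq_zero_of_lt (show k < 2 * k by omega),
        Nat.choose_eq_zero_of_lt (show k - 1 < 2 * k by omega)]
  have hv1 : b 1 = σ γ := by
    rw [show (1 : ℤ) = ((1 : ℕ) : ℤ) by rfl, hval]
    split_ifs with h
    · simp
    · simp [Nat.choose_eq_zero_of_lt (show 1 + k < 2 * k by omega),
        Nat.choose_eq_zero_of_lt (show 1 + (k - 1) < 2 * k by omega)]
  have hv2 : b 2 = γ + 3 * σ γ + if k = 2 then ε else 0 := by
    rw [show (2 : ℤ) = ((2 : ℕ) : ℤ) by rfl, hval]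
    rcases (show k = 1 ∨ k = 2 ∨ 3 ≤ k by omega) with rfl | rfl | h
    · norm_num [Nat.choose]; ring
    · norm_num [Nat.choose]; ring
    · rw [if_neg (by omega), if_neg (by omega), Nat.choose_eq_zero_of_lt (show 2 + k < 2 * k by omega),
        Nat.choose_eq_zero_of_lt (show 2 + (k - 1) < 2 * k by omega)]
      norm_num [Nat.choose]
      ring
  refine hasTriple_of_seq hF hσ hinv hne hn h32 b ?_ hv0 ?_ (top := if k = 1 then γ + σ γ else ε + σ ε) ?_
    (by split_ifs <;> assumption) ?_ ?_ (Or.inl ⟨by omega, ?_⟩)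
  · intro x
    rw [hbdef]
    simp only [Pi.add_apply, map_add, hpair_neg hinv _ _ (show Even 2 by decide)]
    congr 1
    split_ifs
    · simp
    · exact hpair_neg hinv _ _ (even_two_mul k) x
  · rw [hbdef, fwdDiff_iter_add, fwdDiff_hpair σ _ _ (show 2 ≤ 2 * k + 1 by omega),
      fwdDiff_ite_hpair _ _ _ (show 2 * k ≤ 2 * k + 1 by omega)]
    funext x
    simp only [Pi.add_apply]
    rw [if_neg (show 2 * k + 1 ≠ 2 by omega), if_neg (show 2 * k + 1 ≠ 2 * k by omega)]
    simp
  · rw [show 2 * k + 1 - 1 = 2 * k by omega, hbdef, fwdDiff_iter_add,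
      fwdDiff_hpair σ _ _ (show 2 ≤ 2 * k by omega), fwdDiff_ite_hpair _ _ _ (le_refl (2 * k))]
    funext x
    simp only [Pi.add_apply]
    rcases eq_or_ne k 1 with h | h
    · subst h; simp
    · rw [if_neg (show 2 * k ≠ 2 by omega), if_neg h, if_neg h]
      simp
  · rw [hv1]
    intro h
    exact hγr (by rw [h, ← hinv γ, h, map_zero])
  · intro h4
    rw [hv1]
    exact hγext h4
  · rw [hv1, hv2]
    split_ifs
    · intro h
      refine hεd ?_
      simp only [map_add, map_mul, map_ofNat, hinv] at h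
      linear_combination h
    · intro h
      refine pow_ne_zero 3 hγtr ?_
      simp only [map_add, map_mul, map_ofNat, map_zero, hinv, add_zero] at h
      linear_combination h

end CfsgLib.RegUnipotentGen.Herm
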