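/-
Unitary groups in dimension three: two conjugate regular unipotents with a torus element in a short word.
-/
import Cfsg.Agent.Lib.Classical.UnitTwoGen.Main
import Cfsg.Agent.Lib.Generation.FieldClosure

set_option autoImplicit false
set_option linter.unusedSectionVars false

namespace CfsgLib.KnownSimple.RegUnipotentGen.UnitaryThree

open Matrix CfsgLib.Transvec CfsgLib.Transvec.Unitary CfsgLib.Classical.Unitary CfsgLib.Classical.UnitTwoGen
open scoped MatrixGroups commutatorElement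

variable {ι : Type} [Fintype ι] [DecidableEq ι] {F : Type*} [Field F] {σ : F ≃+* F}
  {f : (ι → F) → (ι → F) → F}

/-- A hyperbolic pair `e1, e3` and a unit vector `e2` spanning the space. -/
structure Basis3 (f : (ι → F) → (ι → F) → F) (e1 e2 e3 : ι → F) : Prop where
  f11 : f e1 e1 = 0
  f33 : f e3 e3 = 0
  f13 : f e1 e3 = 1
  f31 : f e3 e1 = 1
  f22 : f e2 e2 = 1
  f21 : f e2 e1 = 0
  f12 : f e1 e2 = 0
  f23 : f e2 e3 = 0
  f32 : f e3 e2 = 0
  decomp : ∀ x, x = f x e3 • e1 + f x e2 • e2 + f x e1 • e3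

/-- A vector in coordinates. -/
def vec (e1 e2 e3 : ι → F) (a b c : F) : ι → F := a • e1 + b • e2 + c • e3

variable (hf : Cfsg.Geo.IsUnitaryForm σ f)

include hf

theorem basis_of_frame (H : HFrame f 1) (hz : f H.z H.z = 1) : Basis3 f (H.e 0) H.z (H.d 0) := by
  refine ⟨H.ee 0 0, H.dd 0 0, by simp [H.ed], by simp [H.de], hz, (H.ze 0).1, (H.ez 0).1, (H.ze 0).2,
    (H.ez 0).2, fun x => ?_⟩
  obtain ⟨c, hc⟩ := H.decomp hf x
  rw [Fin.sum_univ_one] at hc
  have hcz : f x H.z = c := by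
    conv_lhs => rw [hc]
    rw [hf.add_left, hf.add_left, hf.smul_left, hf.smul_left, hf.smul_left, hz, (H.ez 0).1, (H.ez 0).2]
    ring
  rw [hcz]
  conv_lhs => rw [hc]
  abel

variable {e1 e2 e3 : ι → F} (B : Basis3 f e1 e2 e3)

include B

theorem perp1 (x : F) : f (x • e2) e1 = 0 := by rw [hf.smul_left, B.f21, mul_zero]

theorem perp3 (x : F) : f (x • e2) e3 = 0 := by rw [hf.smul_left, B.f23, mul_zero]

theorem norm2 (x : F) : f (x • e2) (x • e2) = x * σ x := by rw [smul_self_form hf, B.f22, mul_one]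

theorem upper_apply (x b a a' a'' : F) :
    (eu f e1 (x • e2) b : Matrix ι ι F) *ᵥ vec e1 e2 e3 a a' a'' =
      vec e1 e2 e3 (a + b * a'' - σ x * a') (a' + x * a'') a'' := by
  rw [eu_mulVec hf B.f11 (perp1 hf B x)]
  simp only [vec, hf.add_left, hf.smul_left, smul_right' hf, B.f11, B.f21, B.f31, B.f12, B.f22, B.f32]
  module

theorem lower_apply (x b a a' a'' : F) :
    (eu f e3 (x • e2) b : Matrix ι ι F) *ᵥ vec e1 e2 e3 a a' a'' =
      vec e1 e2 e3 a (a' + x * a) (a'' + b * a - σ x * a') := by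
  rw [eu_mulVec hf B.f33 (perp3 hf B x)]
  simp only [vec, hf.add_left, hf.smul_left, smul_right' hf, B.f33, B.f23, B.f13, B.f12, B.f22, B.f32]
  module

theorem shift (x t b : F) : eu f e1 (x • e2 + t • e1) b = eu f e1 (x • e2) (b + t - σ t) := by
  refine gl_ext fun y => ?_
  rw [eu_mulVec hf B.f11 (by rw [hf.add_left, perp1 hf B, hf.smul_left, B.f11, mul_zero, add_zero]),
    eu_mulVec hf B.f11 (perp1 hf B x), add_right' hf, smul_right' hf, smul_right' hf]
  module

theorem regular (x b : F) (hx : x ≠ 0) :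
    ((eu f e1 (x • e2) b : Matrix ι ι F) - 1) ^ 3 = 0 ∧ ((eu f e1 (x • e2) b : Matrix ι ι F) - 1) ^ 2 ≠ 0 := by
  set M := (eu f e1 (x • e2) b : Matrix ι ι F) - 1 with hM
  have h1 : ∀ y, M *ᵥ y = f y e1 • (x • e2) + (b * f y e1 - f y (x • e2)) • e1 := fun y => by
    rw [hM, sub_mulVec, eu_mulVec hf B.f11 (perp1 hf B x), one_mulVec]
    abel
  have h2 : ∀ y, (M ^ 2) *ᵥ y = (-(x * σ x) * f y e1) • e1 := fun y => by
    rw [pow_two, ← mulVec_mulVec, h1, h1 y]
    simp only [hf.add_left, hf.smul_left, smul_right' hf, B.f11, B.f21, B.f12, B.f22]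
    module
  refine ⟨?_, fun h => ?_⟩
  · refine Matrix.ext_of_mulVec_single fun i => ?_
    rw [pow_succ', ← mulVec_mulVec, h2, mulVec_smul, h1, B.f11, smul_right' hf, B.f12, Matrix.zero_mulVec]
    simp
  · have h' := congrArg (fun m => f (m *ᵥ e3) e3) h
    simp only [h2, Matrix.zero_mulVec, hf.smul_left, B.f13, B.f31, zero_left' hf, mul_one, neg_eq_zero,
      mul_eq_zero, map_eq_zero, or_self] at h'
    exact hx h'

/-- The generation criterion. -/
theorem transvGroup_le_of_word [Fintype F] {p n : ℕ} (hp : p.Prime) (hF : Fintype.card F = p ^ n)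
    {H : Subgroup (GL ι F)} {v w : GL ι F} (hv : v ∈ H) (hvi : Iso f v)
    (hv1 : f ((v : Matrix ι ι F) *ᵥ e1) e1 ≠ 0) {ω b₀ : F} (hω : ω ≠ 0) (hb₀ : b₀ + σ b₀ + ω * σ ω = 0)
    (hu : eu f e1 (ω • e2) b₀ ∈ H) (hw : w ∈ H) (hwi : Iso f w) {lam μ ν : F}
    (hw1 : (w : Matrix ι ι F) *ᵥ e1 = lam • e1) (hw2 : (w : Matrix ι ι F) *ᵥ e2 = μ • e2 + ν • e1)
    (hρ0 : σ lam * μ ≠ 0) (hgen : ∀ d, 0 < d → d < n → (σ lam * μ) ^ p ^ d ≠ σ lam * μ) :
    transvGroup σ f ≤ H := by
  let Y : AddSubgroup F :=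
    { carrier := {x | ∃ b, b + σ b + x * σ x = 0 ∧ eu f e1 (x • e2) b ∈ H}
      zero_mem' := ⟨0, by simp, by
        rw [zero_smul, eu_zero hf B.f11,
          show uT f e1 0 = 1 from gl_ext fun y => by rw [uT_mulVec hf B.f11]; simp]
        exact one_mem H⟩
      add_mem' := by
        rintro x x' ⟨b, hb, hx⟩ ⟨b', hb', hx'⟩
        refine ⟨b + b' - f (x' • e2) (x • e2), ?_, ?_⟩
        · rw [hf.smul_left, smul_right' hf, B.f22, map_sub, map_add, map_add, map_mul, map_mul, map_one,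
            hf.involutive]
          linear_combination hb + hb'
        · rw [add_smul, ← eu_mul hf B.f11 (perp1 hf B x) (perp1 hf B x')]
          exact mul_mem hx hx'
      neg_mem' := by
        rintro x ⟨b, hb, hx⟩
        refine ⟨σ b, by rw [hf.involutive, map_neg]; linear_combination hb, ?_⟩
        have h : eu f e1 (x • e2) b * eu f e1 ((-x) • e2) (σ b) = 1 := by
          rw [eu_mul hf B.f11 (perp1 hf B x) (perp1 hf B _), ← add_smul, add_neg_cancel, zero_smul,
            eu_zero hf B.f11]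
          refine gl_ext fun y => ?_
          rw [uT_mulVec hf B.f11, hf.smul_left, smul_right' hf, B.f22, Units.val_one, one_mulVec,
            show b + σ b - -x * (σ x * 1) = 0 by linear_combination hb]
          simp
        rw [← inv_eq_of_mul_eq_one_right h]
        exact inv_mem hx }
  have hstep : ∀ x ∈ Y, σ lam * μ * x ∈ Y := by
    rintro x ⟨b, hb, hx⟩
    have hm := mul_mem (mul_mem hw hx) (inv_mem hw)
    have hperp : f (x • (μ • e2 + ν • e1)) e1 = 0 := by
      rw [hf.smul_left, hf.add_left, hf.smul_left, hf.smul_left, B.f21, B.f11]; ring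
    rw [conj_eu hf hwi B.f11 (perp1 hf B x), hw1, mulVec_smul, hw2, eu_smul hf lam B.f11 hperp,
      show σ lam • x • (μ • e2 + ν • e1) = (σ lam * μ * x) • e2 + (σ lam * x * ν) • e1 by module,
      shift hf B] at hm
    refine ⟨_, ?_, hm⟩
    have hμ : μ * σ μ = 1 := by
      have h := hwi e2 e2
      rw [hw2, B.f22] at h
      simp only [hf.add_left, add_right' hf, hf.smul_left, smul_right' hf, B.f22, B.f21, B.f12, B.f11] at h
      linear_combination h
    simp only [map_add, map_sub, map_mul, hf.involutive]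
    linear_combination (lam * σ lam) * hb + (lam * σ lam * x * σ x) * hμ
  let R : AddSubgroup F :=
    { carrier := {a | ∀ x ∈ Y, a * x ∈ Y}
      zero_mem' := fun x _ => by rw [zero_mul]; exact Y.zero_mem
      add_mem' := fun {a a'} ha ha' x hx => by rw [add_mul]; exact Y.add_mem (ha x hx) (ha' x hx)
      neg_mem' := fun {a} ha x hx => by rw [neg_mul]; exact Y.neg_mem (ha x hx) }
  have hR : R = ⊤ := CfsgLib.Generation.addSubgroup_eq_top hp hF _ hρ0 hgen R hstep
    fun a ha a' ha' x hx => by rw [mul_assoc]; exact ha _ (ha' x hx)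
  have hY : ∀ x, x ∈ Y := fun x => by
    have h : x / ω ∈ R := hR ▸ AddSubgroup.mem_top _
    have := h ω ⟨b₀, hb₀, hu⟩
    rwa [div_mul_cancel₀ _ hω] at this
  -- long root elements at `e1`
  have hT : ∀ τ, τ + σ τ = 0 → uT f e1 τ ∈ H := by
    intro τ hτ
    obtain ⟨e, he⟩ := exists_trace_eq hf.ne_refl hf.involutive (b := (1 : F)) (map_one σ)
    obtain ⟨b, -, hb⟩ := hY (τ * e)
    obtain ⟨b', -, hb'⟩ := hY 1
    have hm : ⁅eu f e1 ((τ * e) • e2) b, eu f e1 ((1 : F) • e2) b'⁆ ∈ H := by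
      rw [commutatorElement_def]
      exact mul_mem (mul_mem (mul_mem hb hb') (inv_mem hb)) (inv_mem hb')
    rwa [eu_commutator hf B.f11 (perp1 hf B _) (perp1 hf B _), hf.smul_left, hf.smul_left, smul_right' hf,
      smul_right' hf, B.f22, map_one, map_mul, show σ τ = -τ by linear_combination hτ,
      show τ * e * (1 * 1) - 1 * (-τ * σ e * 1) = τ * (e + σ e) by ring, he, mul_one] at hm
  -- all short root elements at `e1`
  have hFull : ∀ y c, f y e1 = 0 → c + σ c + f y y = 0 → eu f e1 y c ∈ H := by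
    intro y c hy hc
    have hy' : y = f y e2 • e2 + f y e3 • e1 := by
      conv_lhs => rw [B.decomp y, hy, zero_smul, add_zero, add_comm]
    obtain ⟨x, hx⟩ : ∃ x, x = f y e2 := ⟨_, rfl⟩
    obtain ⟨t, ht⟩ : ∃ t, t = f y e3 := ⟨_, rfl⟩
    rw [← hx, ← ht] at hy'
    rw [hy'] at hc ⊢
    simp only [hf.add_left, add_right' hf, hf.smul_left, smul_right' hf, B.f22, B.f21, B.f12, B.f11] at hc
    rw [shift hf B]
    obtain ⟨c', hc', hm⟩ := hY x
    have e : eu f e1 (x • e2) (c + t - σ t) = uT f e1 (c + t - σ t - c') * eu f e1 (x • e2) c' := by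
      rw [← eu_zero hf B.f11, eu_mul hf B.f11 (zero_left' hf _) (perp1 hf B x), zero_add, zero_right' hf]
      congr 1
      ring
    rw [e]
    refine mul_mem (hT _ ?_) hm
    simp only [map_sub, map_add, hf.involutive]
    linear_combination hc - hc'
  -- every isotropic vector moves to the line of `e1`
  have hto3 : ∀ y, f y y = 0 → f y e1 ≠ 0 →
      ∃ h ∈ H, Iso f h ∧ (h : Matrix ι ι F) *ᵥ y = f y e1 • e3 := by
    intro y hy hy1
    obtain ⟨x, c, hx, hc, hm⟩ := exists_eu_move hf B.f11 hy (u' := f y e1 • e3)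
      (by rw [smul_self_form hf, B.f33, mul_zero]) (by rw [hf.smul_left, B.f31, mul_one]) hy1
    exact ⟨_, hFull x c hx hc, iso_eu hf B.f11 hx hc, hm⟩
  obtain ⟨h₀, hh₀, hh₀i, hh₀e⟩ := hto3 ((v : Matrix ι ι F) *ᵥ e1) (by rw [hvi, B.f11]) hv1
  refine transvGroup_le_of hf fun y hy c hc => ?_
  obtain ⟨g, hg, hgi, k, hgy⟩ : ∃ g ∈ H, Iso f g ∧ ∃ k : F, (g : Matrix ι ι F) *ᵥ y = k • e1 := by
    by_cases hy1 : f y e1 = 0
    · refine ⟨1, one_mem H, fun a a' => by simp, f y e3, ?_⟩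
      have hd := B.decomp y
      rw [hy1, zero_smul, add_zero] at hd
      have h2 : f y e2 = 0 := by
        rw [hd] at hy
        simp only [hf.add_left, add_right' hf, hf.smul_left, smul_right' hf, B.f22, B.f21, B.f12, B.f11,
          mul_zero, add_zero, zero_add, mul_one, mul_eq_zero, map_eq_zero, or_self] at hy
        exact hy
      rw [Units.val_one, one_mulVec]
      conv_lhs => rw [hd, h2, zero_smul, add_zero]
    · obtain ⟨h, hh, hhi, hhy⟩ := hto3 y hy hy1
      set t₀ := f ((v : Matrix ι ι F) *ᵥ e1) e1 with ht₀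
      refine ⟨(h₀ * v)⁻¹ * h, mul_mem (inv_mem (mul_mem hh₀ hv)) hh, (hh₀i.mul hvi).inv.mul hhi,
        f y e1 / t₀, ?_⟩
      have he : f y e1 • e3 = ((h₀ * v : GL ι F) : Matrix ι ι F) *ᵥ ((f y e1 / t₀) • e1) := by
        rw [mulVec_smul, mul_mulVec, hh₀e, smul_smul, div_mul_cancel₀ _ hv1]
      rw [mul_mulVec, hhy, he, ← mul_mulVec, inv_mul_cancel, Units.val_one, one_mulVec]
  have hk : uT f (k • e1) c = uT f e1 (k * σ k * c) := gl_ext fun z => by
    rw [uT_mulVec hf (by rw [smul_self_form hf, B.f11, mul_zero]), uT_mulVec hf B.f11, smul_right' hf]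
    module
  have hm : uT f (k • e1) c ∈ H := hk ▸ hT _ (by
    rw [map_mul, map_mul, hf.involutive]; linear_combination (k * σ k) * hc)
  rw [← hgy, ← conj_uT hf hgi hy] at hm
  have := mul_mem (mul_mem (inv_mem hg) hm) hg
  rwa [show g⁻¹ * (g * uT f y c * g⁻¹) * g = uT f y c by group] at this

omit B

variable [Finite F]

/-- The lower and the upper regular unipotent are conjugate. -/
theorem exists_conj (H : HFrame f 1) (hz : f H.z H.z = 1) {c d ω b a : F}
    (hd : d + σ d + c * σ c = 0) (hb : b + σ b + ω * σ ω = 0) (hω : ω ≠ 0) (ha : a ≠ 0)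
    (haω : σ a * σ a * -c = ω * a) :
    ∃ g : GL ι F, (Iso f g ∧ (g : Matrix ι ι F).det = 1) ∧
      g * eu f (H.d 0) (c • H.z) d * g⁻¹ = eu f (H.e 0) (ω • H.z) b := by
  have B := basis_of_frame hf H hz
  obtain ⟨t, ht0, ht⟩ := exists_skew hf.ne_refl hf.involutive
  have hσt : σ t = -t := by linear_combination ht
  have ht' : -t⁻¹ + σ (-t⁻¹) = 0 := by
    rw [map_neg, map_inv₀, hσt, inv_neg]; ring
  have hσa : σ a ≠ 0 := (map_ne_zero_iff _ σ.injective).2 ha
  obtain ⟨α, hα⟩ : ∃ α, α = a / t := ⟨_, rfl⟩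
  have hα0 : α ≠ 0 := hα ▸ div_ne_zero ha ht0
  have hσα : σ α ≠ 0 := (map_ne_zero_iff _ σ.injective).2 hα0
  obtain ⟨l, hl⟩ : ∃ l, l = σ α / α := ⟨_, rfl⟩
  have hlN : l * σ l = 1 := by rw [hl, map_div₀, hf.involutive]; field_simp
  have hT : ∀ (y : ι → F) (r : F), f y y = 0 → r + σ r = 0 →
      Iso f (uT f y r) ∧ (uT f y r : Matrix ι ι F).det = 1 := fun y r hy hr =>
    ⟨iso_uT hf hy hr, (mem_specialLinear_iff _).mp (transv_mem_specialLinear _ _)⟩
  set N := uT f (H.e 0) t * uT f (H.d 0) (-t⁻¹) * uT f (H.e 0) t with hNdef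
  have hN : Iso f N ∧ (N : Matrix ι ι F).det = 1 :=
    iso_det_mul hf (iso_det_mul hf (hT _ _ B.f11 ht) (hT _ _ B.f33 ht')) (hT _ _ B.f11 ht)
  set g₁ := H.D σ 0 α * qR f H.z l * N with hg₁def
  have hg₁ : Iso f g₁ ∧ (g₁ : Matrix ι ι F).det = 1 := by
    refine ⟨((H.D_iso hf 0 hα0).mul (iso_qR hf hz hlN)).mul hN.1, ?_⟩
    rw [hg₁def, Units.val_mul, Units.val_mul, det_mul, det_mul, H.D_det hf 0 hα0, det_qR hf hz hlN, hN.2, hl]
    field_simp
  have e3' : (g₁ : Matrix ι ι F) *ᵥ H.d 0 = (α * t) • H.e 0 := by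
    rw [hg₁def, hNdef]
    simp only [mul_mulVec, uT_mulVec hf B.f11, uT_mulVec hf B.f33, hf.add_left, hf.smul_left, B.f11, B.f33,
      B.f31, B.f13, mul_zero, mul_one, zero_smul, add_zero, mulVec_add, mulVec_smul, zero_add]
    rw [show t * -t⁻¹ = -1 by field_simp]
    simp only [qR_mulVec hf hz hlN, B.f32, B.f12, mul_zero, zero_smul, add_zero,
      (H.D_e hf 0 hα0).1, neg_smul, one_smul]
    match_scalars <;> field_simp <;> ring
  have e2' : (g₁ : Matrix ι ι F) *ᵥ H.z = l • H.z := by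
    rw [hg₁def, hNdef]
    simp only [mul_mulVec, uT_mulVec hf B.f11, uT_mulVec hf B.f33, B.f21, B.f23, mul_zero, zero_smul, add_zero,
      qR_mulVec hf hz hlN, hz, mul_one, mulVec_add, mulVec_smul, H.D_z hf 0 hα0]
    module
  have hconj : g₁ * eu f (H.d 0) (c • H.z) d * g₁⁻¹ =
      eu f (H.e 0) (ω • H.z) (α * t * σ (α * t) * d) := by
    rw [conj_eu hf hg₁.1 B.f33 (perp3 hf B c), e3', mulVec_smul, e2',
      eu_smul hf (α * t) B.f11 (by rw [smul_smul]; exact perp1 hf B _), smul_smul, smul_smul]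
    congr 2
    rw [hl, hα, map_mul, map_div₀, hσt]
    field_simp
    linear_combination haω
  obtain ⟨b', hb'⟩ : ∃ b', b' = α * t * σ (α * t) * d := ⟨_, rfl⟩
  rw [← hb'] at hconj
  have hbb' : b' + σ b' + ω * σ ω = 0 := by
    have h := congrArg (fun g : GL ι F => f ((g : Matrix ι ι F) *ᵥ H.d 0) ((g : Matrix ι ι F) *ᵥ H.d 0)) hconj
    have hi : Iso f (g₁ * eu f (H.d 0) (c • H.z) d * g₁⁻¹) :=
      (hg₁.1.mul (iso_eu hf B.f33 (perp3 hf B c) (by rw [norm2 hf B]; exact hd))).mul hg₁.1.inv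
    simp only [hi (H.d 0) (H.d 0), B.f33] at h
    rw [eu_mulVec hf B.f11 (perp1 hf B ω)] at h
    simp only [hf.add_left, add_right' hf, hf.smul_left, smul_right' hf, B.f11, B.f33, B.f22, B.f21, B.f12,
      B.f23, B.f32, B.f31, B.f13, map_sub, map_mul, map_one, map_zero] at h
    linear_combination -h
  obtain ⟨e, he⟩ := exists_trace_eq hf.ne_refl hf.involutive (b := (1 : F)) (map_one σ)
  obtain ⟨y, hy⟩ : ∃ y, y = (b - b') * e / σ ω := ⟨_, rfl⟩
  obtain ⟨β, hβ⟩ := exists_trace_eq hf.ne_refl hf.involutive (b := -f (y • H.z) (y • H.z))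
    (by rw [map_neg, self_fixed hf])
  have hg₂ : Iso f (eu f (H.e 0) (y • H.z) β) ∧ (eu f (H.e 0) (y • H.z) β : Matrix ι ι F).det = 1 :=
    ⟨iso_eu hf B.f11 (perp1 hf B y) (by linear_combination hβ), eu_det _ _ _⟩
  refine ⟨eu f (H.e 0) (y • H.z) β * g₁, iso_det_mul hf hg₂ hg₁, ?_⟩
  have key : eu f (H.e 0) (y • H.z) β * eu f (H.e 0) (ω • H.z) b' =
      eu f (H.e 0) (ω • H.z) b * eu f (H.e 0) (y • H.z) β := by
    rw [eu_mul hf B.f11 (perp1 hf B y) (perp1 hf B ω), eu_mul hf B.f11 (perp1 hf B ω) (perp1 hf B y),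
      add_comm (y • H.z)]
    congr 1
    have hσω : σ ω ≠ 0 := (map_ne_zero_iff _ σ.injective).2 hω
    have h1 : y * σ ω = (b - b') * e := by rw [hy, div_mul_cancel₀ _ hσω]
    have h2 : ω * σ y = -(b - b') * σ e := by
      have := congrArg σ h1
      rw [map_mul, map_mul, map_sub, hf.involutive] at this
      linear_combination this + σ e * (hb - hbb')
    simp only [hf.smul_left, smul_right' hf, hz]
    linear_combination h1 - h2 + (b - b') * he
  rw [show ∀ G X : GL ι F, G * g₁ * X * (G * g₁)⁻¹ = G * (g₁ * X * g₁⁻¹) * G⁻¹ from fun G X => by group,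
    hconj, key, mul_inv_cancel_right]

end CfsgLib.KnownSimple.RegUnipotentGen.UnitaryThree
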