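/-
Unitary groups in dimension three outside q = 2, 5, 8: two conjugate regular unipotents generate.
-/
import Cfsg.Agent.Lib.KnownSimple.RegUnipotentGen.SUThree

set_option autoImplicit false
set_option linter.unusedSectionVars false

namespace CfsgLib.KnownSimple.RegUnipotentGen.UnitaryThree

open Matrix CfsgLib.Transvec CfsgLib.Transvec.Unitary CfsgLib.Classical.Unitary CfsgLib.Classical.UnitTwoGen
open scoped MatrixGroups

variable {ι : Type} [Fintype ι] [DecidableEq ι] {F : Type*} [Field F] {σ : F ≃+* F}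
  {f : (ι → F) → (ι → F) → F}

/-- Two conjugate regular unipotents generating the transvection group. -/
def HasPair (σ : F ≃+* F) (f : (ι → F) → (ι → F) → F) : Prop :=
  ∃ u g : GL ι F, (Iso f u ∧ (u : Matrix ι ι F).det = 1) ∧ (Iso f g ∧ (g : Matrix ι ι F).det = 1) ∧
    (((u : Matrix ι ι F) - 1) ^ 3 = 0 ∧ ((u : Matrix ι ι F) - 1) ^ 2 ≠ 0) ∧
    transvGroup σ f ≤ Subgroup.closure ({u, g * u * g⁻¹} : Set (GL ι F))

variable (hf : Cfsg.Geo.IsUnitaryForm σ f) [Fintype F] (H : HFrame f 1) (hz : f H.z H.z = 1)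

include hf hz

theorem hasPair_of_word {p n : ℕ} (hp : p.Prime) (hF : Fintype.card F = p ^ n) {c d ω b a : F}
    (hd : d + σ d + c * σ c = 0) (hb : b + σ b + ω * σ ω = 0) (hd0 : d ≠ 0) (hω : ω ≠ 0) (ha : a ≠ 0)
    (haω : σ a * σ a * -c = ω * a) {w : GL ι F}
    (hw : w ∈ Subgroup.closure
      ({eu f (H.e 0) (ω • H.z) b, eu f (H.d 0) (c • H.z) d} : Set (GL ι F)))
    {lam μ ν : F} (hw1 : (w : Matrix ι ι F) *ᵥ H.e 0 = lam • H.e 0)
    (hw2 : (w : Matrix ι ι F) *ᵥ H.z = μ • H.z + ν • H.e 0)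
    (hρ0 : σ lam * μ ≠ 0) (hgen : ∀ j, 0 < j → j < n → (σ lam * μ) ^ p ^ j ≠ σ lam * μ) :
    HasPair σ f := by
  have B := basis_of_frame hf H hz
  set u := eu f (H.e 0) (ω • H.z) b with hu
  set v := eu f (H.d 0) (c • H.z) d with hv
  obtain ⟨g, hg, hgv⟩ := exists_conj hf H hz hd hb hω ha haω
  rw [← hu, ← hv] at hgv
  have hui : Iso f u := iso_eu hf B.f11 (perp1 hf B ω) (by rw [norm2 hf B]; exact hb)
  have hvi : Iso f v := iso_eu hf B.f33 (perp3 hf B c) (by rw [norm2 hf B]; exact hd)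
  have hdet : ((g⁻¹ : GL ι F) : Matrix ι ι F).det = 1 := by
    have h := congrArg Matrix.det (congrArg Units.val (inv_mul_cancel g))
    rwa [Units.val_mul, det_mul, hg.2, mul_one, Units.val_one, det_one] at h
  refine ⟨u, g⁻¹, ⟨hui, eu_det _ _ _⟩, ⟨hg.1.inv, hdet⟩, regular hf B ω b hω, ?_⟩
  have hvg : g⁻¹ * u * g⁻¹⁻¹ = v := by rw [← hgv]; group
  rw [hvg]
  have hvmem : v ∈ Subgroup.closure ({u, v} : Set (GL ι F)) := Subgroup.subset_closure (by simp)
  have humem : u ∈ Subgroup.closure ({u, v} : Set (GL ι F)) := Subgroup.subset_closure (by simp)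
  have hwi : Iso f w := by
    have hs : ∀ x, x ∈ Subgroup.closure ({u, v} : Set (GL ι F)) → Iso f x := by
      intro x hx
      induction hx using Subgroup.closure_induction with
      | mem x hx =>
        rcases hx with rfl | rfl
        · exact hui
        · exact hvi
      | one => exact fun y y' => by simp
      | mul x y _ _ hx hy => exact hx.mul hy
      | inv x _ hx => exact hx.inv
    exact hs w hw
  refine transvGroup_le_of_word hf B hp hF hvmem hvi ?_ hω hb humem hw hwi hw1 hw2 hρ0 hgen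
  rw [hv, eu_mulVec hf B.f33 (perp3 hf B c)]
  simp only [hf.add_left, hf.smul_left, smul_right' hf, B.f13, B.f12, B.f11, B.f21, B.f31]
  simpa using hd0

omit hf hz in
/-- No proper subfield holds the cube of an element of order `p ^ k + 1`, bar three cases. -/
theorem exceptional_of_dvd {p k j : ℕ} (hp : p.Prime) (hk : 0 < k) (hj : 0 < j) (hjk : j < 2 * k)
    (h : p ^ k + 1 ∣ 3 * (p ^ j - 1)) : p ^ k = 2 ∨ p ^ k = 5 ∨ p ^ k = 8 := by
  obtain ⟨e, he⟩ : ∃ e, e = Nat.gcd (2 * k) j := ⟨_, rfl⟩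
  have h2 : p ^ k + 1 ∣ 3 * (p ^ (2 * k) - 1) := dvd_mul_of_dvd_right ⟨p ^ k - 1, by
    rw [mul_comm 2 k, pow_mul, ← Nat.sq_sub_sq, one_pow]⟩ _
  have h3 := Nat.dvd_gcd h2 h
  rw [Nat.gcd_mul_left, Nat.pow_sub_one_gcd_pow_sub_one, ← he] at h3
  have he0 : 0 < e := he ▸ Nat.gcd_pos_of_pos_right _ hj
  have hej : e ≤ j := he ▸ Nat.le_of_dvd hj (Nat.gcd_dvd_right _ _)
  obtain ⟨m, hm⟩ : e ∣ 2 * k := he ▸ Nat.gcd_dvd_left _ _
  have hpe : 2 ≤ p ^ e := le_trans hp.two_le (Nat.le_self_pow he0.ne' p)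
  have hQ : 2 ≤ p ^ k := le_trans hp.two_le (Nat.le_self_pow hk.ne' p)
  have hle : p ^ k + 1 ≤ 3 * (p ^ e - 1) := Nat.le_of_dvd (by omega) h3
  have hm2 : 2 ≤ m := by
    by_contra hc
    interval_cases m <;> omega
  rcases (show m = 2 ∨ m = 3 ∨ 4 ≤ m by omega) with rfl | rfl | h4
  · obtain rfl : e = k := by omega
    have h6 : p ^ e + 1 ∣ 6 := by
      have := Nat.dvd_sub (dvd_mul_left (p ^ e + 1) 3) h3
      rwa [show 3 * (p ^ e + 1) - 3 * (p ^ e - 1) = 6 by omega] at this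
    have h5 : p ^ e ≤ 5 := by have := Nat.le_of_dvd (by norm_num) h6; omega
    generalize p ^ e = Q at h6 h5 hpe
    interval_cases Q <;> omega
  · obtain ⟨l, rfl⟩ : ∃ l, e = 2 * l := ⟨e / 2, by omega⟩
    obtain rfl : k = l * 3 := by omega
    rw [mul_comm 2 l, pow_mul] at hle
    rw [pow_mul] at hle ⊢
    have hP : p ^ l = 2 := by
      have hP2 : 2 ≤ p ^ l := le_trans hp.two_le (Nat.le_self_pow (by omega) p)
      by_contra hc
      have hP3 : 3 ≤ p ^ l := by omega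
      have : 3 * (p ^ l) ^ 2 ≤ (p ^ l) ^ 3 := by rw [pow_succ' (p ^ l) 2]; exact Nat.mul_le_mul_right _ hP3
      omega
    rw [hP]
    norm_num
  · have h2e : 2 * e ≤ k := by
      have := Nat.mul_le_mul_left e h4
      omega
    have hsq : p ^ e * p ^ e ≤ p ^ k := by
      rw [← pow_add]; exact Nat.pow_le_pow_right hp.pos (by omega)
    have : p ^ e ≤ 2 := by
      by_contra hc
      have : 3 * p ^ e ≤ p ^ e * p ^ e := Nat.mul_le_mul_right _ (by omega)
      omega
    omega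

/-- The general case. -/
theorem hasPair_generic {q : ℕ} (hF : Fintype.card F = q ^ 2) (hσ : ∀ x, σ x = x ^ q) (hq : 3 ≤ q)
    (h5 : q ≠ 5) (h8 : q ≠ 8) : HasPair σ f := by
  have B := basis_of_frame hf H hz
  obtain ⟨p, hchar⟩ := CharP.exists F
  obtain ⟨n, hp, hn⟩ := FiniteField.card F p
  obtain ⟨k, -, hk⟩ := (Nat.dvd_prime_pow hp).1
    (show q ∣ p ^ (n : ℕ) by rw [← hn, hF]; exact dvd_pow_self q two_ne_zero)
  subst hk
  have hnk : (n : ℕ) = 2 * k := by
    rw [hn, ← pow_mul] at hF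
    have := Nat.pow_right_injective hp.two_le hF
    omega
  have hk0 : 0 < k := by
    by_contra h
    obtain rfl : k = 0 := by omega
    simp at hq
  set q := p ^ k with hqdef
  classical
  obtain ⟨g, hg⟩ := IsCyclic.exists_generator (α := Fˣ)
  have hord : orderOf g = (q - 1) * (q + 1) := by
    rw [orderOf_eq_card_of_forall_mem_zpowers hg, Nat.card_units, Nat.card_eq_fintype_card, hF, mul_comm,
      ← Nat.sq_sub_sq, one_pow]
  obtain ⟨l, hl⟩ : ∃ l, l = g ^ (q - 1) := ⟨_, rfl⟩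
  have hlord : orderOf l = q + 1 := by
    rw [hl, orderOf_pow_of_dvd (by omega) (hord ▸ dvd_mul_right _ _), hord, Nat.mul_div_cancel_left _ (by omega)]
  obtain ⟨x, hxl⟩ : ∃ x : F, x = (l : F) := ⟨_, rfl⟩
  have hx0 : x ≠ 0 := hxl ▸ l.ne_zero
  have hσx : σ x = x⁻¹ := by
    refine eq_inv_of_mul_eq_one_left ?_
    rw [hσ, ← pow_succ, hxl, ← Units.val_pow_eq_pow_val, ← hlord, pow_orderOf_eq_one, Units.val_one]
  obtain ⟨d, hd⟩ : ∃ d, d = 1 + x := ⟨_, rfl⟩
  have hd0 : d ≠ 0 := by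
    intro h
    have hl2 : l ^ 2 = 1 := Units.ext (by
      rw [Units.val_pow_eq_pow_val, ← hxl, Units.val_one]
      linear_combination (x - 1) * hd.symm.trans h)
    have := orderOf_dvd_of_pow_eq_one hl2
    rw [hlord] at this
    have := Nat.le_of_dvd (by norm_num) this
    omega
  have hσd : σ d = d / x := by
    rw [hd, map_add, map_one, hσx]; field_simp; ring
  obtain ⟨c, hc⟩ := exists_norm_eq hf.ne_refl hf.involutive (b := -(d + σ d))
    (by rw [map_neg, map_add, hf.involutive, add_comm])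
  have hc0 : c ≠ 0 := by
    rintro rfl
    have hsum : d + σ d = d ^ 2 / x := by rw [hσd, hd]; field_simp; ring
    rw [zero_mul, hsum, eq_comm, neg_eq_zero, div_eq_zero_iff] at hc
    exact hc.elim (pow_ne_zero 2 hd0) hx0
  obtain ⟨b, hb⟩ : ∃ b, b = (x - 1) / d + σ d := ⟨_, rfl⟩
  have hcond : d + σ d + c * σ c = 0 := by linear_combination hc
  have hbcond : b + σ b + -c * σ (-c) = 0 := by
    rw [map_neg, neg_mul_neg, hc, hb, map_add, map_div₀, map_sub, map_one, hσx, hf.involutive, hσd]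
    field_simp
    rw [hd]
    ring
  have hN : d * σ d = d + σ d := by
    rw [hσd, hd]; field_simp; ring
  have hbd : b * d = x - 1 + d + σ d := by
    rw [hb, add_mul, div_mul_cancel₀ _ hd0]; linear_combination hN
  have hσc : σ (-c) = -σ c := map_neg σ c
  set u := eu f (H.e 0) ((-c) • H.z) b with hu
  set v := eu f (H.d 0) (c • H.z) d with hv
  have he1 : H.e 0 = vec (H.e 0) H.z (H.d 0) 1 0 0 := by simp [vec]
  have he2 : H.z = vec (H.e 0) H.z (H.d 0) 0 1 0 := by simp [vec]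
  have hv' : ∀ r s t : F, (v : Matrix ι ι F) *ᵥ vec (H.e 0) H.z (H.d 0) r s t =
      vec (H.e 0) H.z (H.d 0) r (s + c * r) (t + d * r - σ c * s) := fun r s t => lower_apply hf B c d r s t
  have hu' : ∀ r s t : F, (u : Matrix ι ι F) *ᵥ vec (H.e 0) H.z (H.d 0) r s t =
      vec (H.e 0) H.z (H.d 0) (r + b * t + σ c * s) (s - c * t) t := fun r s t => by
    rw [hu, upper_apply hf B, hσc]; congr 1 <;> ring
  obtain ⟨μ, hμ⟩ : ∃ μ, μ = 1 + c * σ c * (2 - b) := ⟨_, rfl⟩
  have hμv : μ = x⁻¹ * x⁻¹ := by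
    rw [hμ, hc, hb, hσd]
    field_simp
    rw [hd]
    ring
  refine hasPair_of_word hf H hz hp (hn.trans (by rw [hnk])) (c := c) (d := d) (ω := -c) (b := b) (a := 1)
    hcond hbcond hd0 (neg_ne_zero.2 hc0) one_ne_zero (by rw [map_one]; ring)
    (w := v * u * v) (lam := x) (μ := μ) (ν := σ c * (1 - b)) ?_ ?_ ?_ ?_ ?_
  · have h1 : v ∈ Subgroup.closure ({u, v} : Set (GL ι F)) := Subgroup.subset_closure (by simp)
    exact mul_mem (mul_mem h1 (Subgroup.subset_closure (Set.mem_insert _ _))) h1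
  · rw [mul_mulVec, mul_mulVec]
    conv_lhs => rw [he1, hv', hu', hv']
    have eA : 1 + b * (0 + d * 1 - σ c * 0) + σ c * (0 + c * 1) = x := by
      linear_combination hbd + hcond
    have eB : 0 + c * 1 - c * (0 + d * 1 - σ c * 0) + c * x = 0 := by
      linear_combination -c * hd
    have eC : 0 + d * 1 - σ c * 0 + d * x - σ c * (0 + c * 1 - c * (0 + d * 1 - σ c * 0)) = 0 := by
      linear_combination (-(1 - d)) * hcond - d * hd - hN
    rw [eA, eB, eC]
    simp [vec]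
  · rw [mul_mulVec, mul_mulVec]
    conv_lhs => rw [he2, hv', hu', hv']
    have eC : 0 + d * 0 - σ c * 1 + d * (0 + b * (0 + d * 0 - σ c * 1) + σ c * (1 + c * 0)) -
        σ c * (1 + c * 0 - c * (0 + d * 0 - σ c * 1)) = 0 := by
      linear_combination (-σ c) * hcond - σ c * hbd + σ c * hd
    rw [eC, hμ]
    simp only [vec, zero_smul, add_zero]
    match_scalars <;> ring
  · rw [hμv, hσx]
    exact mul_ne_zero (inv_ne_zero hx0) (mul_ne_zero (inv_ne_zero hx0) (inv_ne_zero hx0))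
  · intro j hj hjn hEq
    rw [hμv, hσx, show x⁻¹ * (x⁻¹ * x⁻¹) = (x⁻¹) ^ 3 by ring, hxl, ← Units.val_inv_eq_inv_val,
      ← Units.val_pow_eq_pow_val, ← Units.val_pow_eq_pow_val, ← pow_mul] at hEq
    have hpj : 1 ≤ p ^ j := Nat.one_le_pow _ _ hp.pos
    have h1 : l⁻¹ ^ (3 * p ^ j) = l⁻¹ ^ 3 := Units.ext hEq
    have h3 : l⁻¹ ^ (3 * (p ^ j - 1)) = 1 := by
      rw [show 3 * p ^ j = 3 + 3 * (p ^ j - 1) by omega, pow_add, mul_eq_left] at h1
      exact h1
    have h4 := orderOf_dvd_of_pow_eq_one h3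
    rw [orderOf_inv, hlord] at h4
    rcases exceptional_of_dvd hp hk0 hj (by omega) h4 with h | h | h <;> omega

end CfsgLib.KnownSimple.RegUnipotentGen.UnitaryThree
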