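/-
Unitary groups in dimension three for q = 5 and q = 8: explicit words.
-/
import Cfsg.Agent.Lib.KnownSimple.RegUnipotentGen.SUThreeMain

set_option autoImplicit false
set_option linter.unusedSectionVars false
set_option linter.unusedSimpArgs false
set_option maxHeartbeats 1000000

namespace CfsgLib.KnownSimple.RegUnipotentGen.UnitaryThree

open Matrix CfsgLib.Transvec CfsgLib.Transvec.Unitary CfsgLib.Classical.Unitary CfsgLib.Classical.UnitTwoGen
open scoped MatrixGroups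

variable {ι : Type} [Fintype ι] [DecidableEq ι] {F : Type*} [Field F] {σ : F ≃+* F}
  {f : (ι → F) → (ι → F) → F}

theorem vec_congr {e1 e2 e3 : ι → F} {a a' b b' c c' : F} (h1 : a = a') (h2 : b = b') (h3 : c = c') :
    vec e1 e2 e3 a b c = vec e1 e2 e3 a' b' c' := by
  rw [h1, h2, h3]

variable (hf : Cfsg.Geo.IsUnitaryForm σ f) [Fintype F] (H : HFrame f 1) (hz : f H.z H.z = 1)

include hf hz

/-- The case `q = 5`. -/
theorem hasPair_five {n : ℕ} (hF : Fintype.card F = 5 ^ n) {z : F}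
    (hP : z ^ 2 + 4 * z + 2 = 0) (hchar : (5 : F) = 0)
    (hσz : σ z = (1 + 4 * z))
    (hgen : ∀ j, 0 < j → j < n → (4 + 2 * z) ^ 5 ^ j ≠ (4 + 2 * z)) (hn : 1 < n) : HasPair σ f := by
  have B := basis_of_frame hf H hz
  have hsd : σ (1 + 2 * z) = (3 + 3 * z) := by
    simp only [map_add, map_mul, map_pow, map_one, map_ofNat, hσz]
    linear_combination 0 * hP + ((1) * z) * hchar
  have hsw : σ (4 + 2 * z) = (1 + 3 * z) := by
    simp only [map_add, map_mul, map_pow, map_one, map_ofNat, hσz]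
    linear_combination 0 * hP + ((1) + (1) * z) * hchar
  have hcond : (1 + 2 * z) + σ (1 + 2 * z) + 1 * σ (1 : F) = 0 := by
    rw [hsd, map_one]
    linear_combination 0 * hP + ((1) + (1) * z) * hchar
  have hbcond : (3 * z) + σ (3 * z) + (4 + 2 * z) * σ (4 + 2 * z) = 0 := by
    rw [hsw]
    simp only [map_add, map_mul, map_pow, map_one, map_ofNat, hσz]
    linear_combination ((6)) * hP + ((-1) + (1) * z) * hchar
  have haω : σ (z) * σ (z) * -1 = (4 + 2 * z) * (z) := by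
    simp only [map_add, map_mul, map_pow, map_one, map_ofNat, hσz]
    linear_combination ((-18)) * hP + ((7) + (12) * z) * hchar
  have hρ : σ (4 * z) * (2 + 2 * z) = (4 + 2 * z) := by
    simp only [map_add, map_mul, map_pow, map_one, map_ofNat, hσz]
    linear_combination ((32)) * hP + ((-12) + (-18) * z) * hchar
  have hd0 : ((1 + 2 * z) : F) ≠ 0 := left_ne_zero_of_mul_eq_one (b := (3 + 3 * z)) (by
    linear_combination ((6)) * hP + ((-2) + (-3) * z) * hchar)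
  have hw0 : ((4 + 2 * z) : F) ≠ 0 := left_ne_zero_of_mul_eq_one (b := (3 + 4 * z)) (by
    linear_combination ((8)) * hP + ((-1) + (-2) * z) * hchar)
  have ha0 : ((z) : F) ≠ 0 := left_ne_zero_of_mul_eq_one (b := (3 + 2 * z)) (by
    linear_combination ((2)) * hP + ((-1) + (-1) * z) * hchar)
  have hρ0 : ((4 + 2 * z) : F) ≠ 0 := fun h => hgen 1 one_pos hn (by rw [h]; simp)
  set u := eu f (H.e 0) ((4 + 2 * z) • H.z) (3 * z) with hu
  set v := eu f (H.d 0) ((1 : F) • H.z) (1 + 2 * z) with hv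
  have hv' : ∀ r s t : F, (v : Matrix ι ι F) *ᵥ vec (H.e 0) H.z (H.d 0) r s t =
      vec (H.e 0) H.z (H.d 0) r (s + 1 * r) (t + (1 + 2 * z) * r - 1 * s) := fun r s t => by
    rw [hv, lower_apply hf B, map_one]
  have hu' : ∀ r s t : F, (u : Matrix ι ι F) *ᵥ vec (H.e 0) H.z (H.d 0) r s t =
      vec (H.e 0) H.z (H.d 0) (r + (3 * z) * t - (1 + 3 * z) * s) (s + (4 + 2 * z) * t) t := fun r s t => by
    rw [hu, upper_apply hf B, hsw]
  have s1 : (v : Matrix ι ι F) *ᵥ vec (H.e 0) H.z (H.d 0) (1) 0 0 =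
      vec (H.e 0) H.z (H.d 0) (1) (1) (1 + 2 * z) := by
    rw [hv']
    refine vec_congr ?_ ?_ ?_
    · linear_combination 0 * hP + 0 * hchar
    · linear_combination 0 * hP + 0 * hchar
    · linear_combination 0 * hP + 0 * hchar
  have s2 : (v : Matrix ι ι F) *ᵥ vec (H.e 0) H.z (H.d 0) (1) (1) (1 + 2 * z) =
      vec (H.e 0) H.z (H.d 0) (1) (2) (1 + 4 * z) := by
    rw [hv']
    refine vec_congr ?_ ?_ ?_
    · linear_combination 0 * hP + 0 * hchar
    · linear_combination 0 * hP + 0 * hchar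
    · linear_combination 0 * hP + 0 * hchar
  have s3 : (u : Matrix ι ι F) *ᵥ vec (H.e 0) H.z (H.d 0) (1) (2) (1 + 4 * z) =
      vec (H.e 0) H.z (H.d 0) (4 * z) (z) (1 + 4 * z) := by
    rw [hu']
    refine vec_congr ?_ ?_ ?_
    · linear_combination ((12)) * hP + ((-5) + (-11) * z) * hchar
    · linear_combination ((8)) * hP + ((-2) + (-3) * z) * hchar
    · linear_combination 0 * hP + 0 * hchar
  have s4 : (v : Matrix ι ι F) *ᵥ vec (H.e 0) H.z (H.d 0) (4 * z) (z) (1 + 4 * z) =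
      vec (H.e 0) H.z (H.d 0) (4 * z) 0 0 := by
    rw [hv']
    refine vec_congr ?_ ?_ ?_
    · linear_combination 0 * hP + 0 * hchar
    · linear_combination 0 * hP + ((1) * z) * hchar
    · linear_combination ((8)) * hP + ((-3) + (-5) * z) * hchar
  have s5 : (v : Matrix ι ι F) *ᵥ vec (H.e 0) H.z (H.d 0) 0 (1) 0 =
      vec (H.e 0) H.z (H.d 0) 0 (1) (4) := by
    rw [hv']
    refine vec_congr ?_ ?_ ?_
    · linear_combination 0 * hP + 0 * hchar
    · linear_combination 0 * hP + 0 * hchar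
    · linear_combination 0 * hP + ((-1)) * hchar
  have s6 : (v : Matrix ι ι F) *ᵥ vec (H.e 0) H.z (H.d 0) 0 (1) (4) =
      vec (H.e 0) H.z (H.d 0) 0 (1) (3) := by
    rw [hv']
    refine vec_congr ?_ ?_ ?_
    · linear_combination 0 * hP + 0 * hchar
    · linear_combination 0 * hP + 0 * hchar
    · linear_combination 0 * hP + 0 * hchar
  have s7 : (u : Matrix ι ι F) *ᵥ vec (H.e 0) H.z (H.d 0) 0 (1) (3) =
      vec (H.e 0) H.z (H.d 0) (4 + z) (3 + z) (3) := by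
    rw [hu']
    refine vec_congr ?_ ?_ ?_
    · linear_combination 0 * hP + ((-1) + (1) * z) * hchar
    · linear_combination 0 * hP + ((2) + (1) * z) * hchar
    · linear_combination 0 * hP + 0 * hchar
  have s8 : (v : Matrix ι ι F) *ᵥ vec (H.e 0) H.z (H.d 0) (4 + z) (3 + z) (3) =
      vec (H.e 0) H.z (H.d 0) (4 + z) (2 + 2 * z) 0 := by
    rw [hv']
    refine vec_congr ?_ ?_ ?_
    · linear_combination 0 * hP + 0 * hchar
    · linear_combination 0 * hP + ((1)) * hchar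
    · linear_combination ((2)) * hP + 0 * hchar
  have he1 : H.e 0 = vec (H.e 0) H.z (H.d 0) 1 0 0 := by simp [vec]
  have he2 : H.z = vec (H.e 0) H.z (H.d 0) 0 1 0 := by simp [vec]
  have hvm : v ∈ Subgroup.closure ({u, v} : Set (GL ι F)) :=
    Subgroup.subset_closure (Set.mem_insert_of_mem _ rfl)
  have hum : u ∈ Subgroup.closure ({u, v} : Set (GL ι F)) := Subgroup.subset_closure (Set.mem_insert _ _)
  refine hasPair_of_word hf H hz (p := 5) (by norm_num) hF (c := 1) (d := (1 + 2 * z)) (ω := (4 + 2 * z))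
    (b := (3 * z)) (a := (z)) hcond hbcond ?_ ?_ ?_ haω (w := v * u * (v * v)) (lam := (4 * z)) (μ := (2 + 2 * z))
    (ν := (4 + z)) (mul_mem (mul_mem hvm hum) (mul_mem hvm hvm)) ?_ ?_ (by rw [hρ]; exact hρ0) (by rw [hρ]; exact hgen)
  · exact hd0
  · exact hw0
  · exact ha0
  · simp only [mul_mulVec]
    conv_lhs => rw [he1, s1, s2, s3, s4]
    simp [vec]
  · simp only [mul_mulVec]
    conv_lhs => rw [he2, s5, s6, s7, s8]
    simp only [vec]
    module

/-- The case `q = 8`. -/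
theorem hasPair_eight {n : ℕ} (hF : Fintype.card F = 2 ^ n) {z : F}
    (hP : z ^ 6 + z + 1 = 0) (hchar : (2 : F) = 0)
    (hσz : σ z = (z ^ 2 + z ^ 3))
    (hgen : ∀ j, 0 < j → j < n → (1 + z) ^ 2 ^ j ≠ (1 + z)) (hn : 1 < n) : HasPair σ f := by
  have B := basis_of_frame hf H hz
  have hsd : σ (z + z ^ 5) = (1 + z + z ^ 5) := by
    simp only [map_add, map_mul, map_pow, map_one, map_ofNat, hσz]
    linear_combination ((-15) + (-20) * z + (-15) * z ^ 2 + (-6) * z ^ 3 + (5) * z ^ 5 + (10) * z ^ 6 + (10) * z ^ 7 + (5) * z ^ 8 + (1) * z ^ 9) * hP + ((7) + (17) * z + (18) * z ^ 2 + (11) * z ^ 3 + (3) * z ^ 4 + (-3) * z ^ 5) * hchar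
  have hsw : σ (1 + z ^ 2) = (z + z ^ 4) := by
    simp only [map_add, map_mul, map_pow, map_one, map_ofNat, hσz]
    linear_combination ((1)) * hP + ((-1) * z + (1) * z ^ 5) * hchar
  have hcond : (z + z ^ 5) + σ (z + z ^ 5) + 1 * σ (1 : F) = 0 := by
    rw [hsd, map_one]
    linear_combination 0 * hP + ((1) + (1) * z + (1) * z ^ 5) * hchar
  have hbcond : (z ^ 4) + σ (z ^ 4) + (1 + z ^ 2) * σ (1 + z ^ 2) = 0 := by
    rw [hsw]
    simp only [map_add, map_mul, map_pow, map_one, map_ofNat, hσz]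
    linear_combination ((-4) + (-1) * z + (1) * z ^ 2 + (4) * z ^ 3 + (6) * z ^ 4 + (4) * z ^ 5 + (1) * z ^ 6) * hP + ((2) + (3) * z + (-2) * z ^ 3 + (-4) * z ^ 4 + (-5) * z ^ 5) * hchar
  have haω : σ (1 + z + z ^ 2) * σ (1 + z + z ^ 2) * -1 = (1 + z ^ 2) * (1 + z + z ^ 2) := by
    simp only [map_add, map_mul, map_pow, map_one, map_ofNat, hσz]
    linear_combination ((-5) * z + (-7) * z ^ 2 + (-6) * z ^ 3 + (-6) * z ^ 4 + (-4) * z ^ 5 + (-1) * z ^ 6) * hP + ((-1) + (2) * z + (4) * z ^ 2 + (5) * z ^ 3 + (4) * z ^ 4 + (2) * z ^ 5) * hchar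
  have hρ : σ (z + z ^ 2 + z ^ 3 + z ^ 5) * (z + z ^ 2) = (1 + z) := by
    simp only [map_add, map_mul, map_pow, map_one, map_ofNat, hσz]
    linear_combination ((3) + (-16) * z + (-30) * z ^ 2 + (-29) * z ^ 3 + (-17) * z ^ 4 + (-5) * z ^ 5 + (5) * z ^ 6 + (15) * z ^ 7 + (20) * z ^ 8 + (15) * z ^ 9 + (6) * z ^ 10 + (1) * z ^ 11) * hP + ((-2) + (6) * z + (23) * z ^ 2 + (30) * z ^ 3 + (24) * z ^ 4 + (12) * z ^ 5) * hchar
  have hd0 : ((z + z ^ 5) : F) ≠ 0 := left_ne_zero_of_mul_eq_one (b := (1 + z + z ^ 3 + z ^ 4)) (by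
    linear_combination ((1) + (1) * z ^ 2 + (1) * z ^ 3) * hP + ((-1) + (-1) * z ^ 3 + (1) * z ^ 5) * hchar)
  have hw0 : ((1 + z ^ 2) : F) ≠ 0 := left_ne_zero_of_mul_eq_one (b := (1 + z + z ^ 3 + z ^ 5)) (by
    linear_combination ((1) * z) * hP + ((1) * z ^ 3 + (1) * z ^ 5) * hchar)
  have ha0 : ((1 + z + z ^ 2) : F) ≠ 0 := left_ne_zero_of_mul_eq_one (b := (z ^ 2 + z ^ 3 + z ^ 5)) (by
    linear_combination ((1) + (1) * z) * hP + ((-1) + (-1) * z + (1) * z ^ 3 + (1) * z ^ 4 + (1) * z ^ 5) * hchar)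
  have hρ0 : ((1 + z) : F) ≠ 0 := fun h => hgen 1 one_pos hn (by rw [h]; simp)
  set u := eu f (H.e 0) ((1 + z ^ 2) • H.z) (z ^ 4) with hu
  set v := eu f (H.d 0) ((1 : F) • H.z) (z + z ^ 5) with hv
  have hv' : ∀ r s t : F, (v : Matrix ι ι F) *ᵥ vec (H.e 0) H.z (H.d 0) r s t =
      vec (H.e 0) H.z (H.d 0) r (s + 1 * r) (t + (z + z ^ 5) * r - 1 * s) := fun r s t => by
    rw [hv, lower_apply hf B, map_one]
  have hu' : ∀ r s t : F, (u : Matrix ι ι F) *ᵥ vec (H.e 0) H.z (H.d 0) r s t =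
      vec (H.e 0) H.z (H.d 0) (r + (z ^ 4) * t - (z + z ^ 4) * s) (s + (1 + z ^ 2) * t) t := fun r s t => by
    rw [hu, upper_apply hf B, hsw]
  have s1 : (v : Matrix ι ι F) *ᵥ vec (H.e 0) H.z (H.d 0) (1) 0 0 =
      vec (H.e 0) H.z (H.d 0) (1) (1) (z + z ^ 5) := by
    rw [hv']
    refine vec_congr ?_ ?_ ?_
    · linear_combination 0 * hP + 0 * hchar
    · linear_combination 0 * hP + 0 * hchar
    · linear_combination 0 * hP + 0 * hchar
  have s2 : (u : Matrix ι ι F) *ᵥ vec (H.e 0) H.z (H.d 0) (1) (1) (z + z ^ 5) =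
      vec (H.e 0) H.z (H.d 0) (1 + z + z ^ 3 + z ^ 5) (1 + z ^ 2 + z ^ 3 + z ^ 5) (z + z ^ 5) := by
    rw [hu']
    refine vec_congr ?_ ?_ ?_
    · linear_combination ((1) * z ^ 3) * hP + ((-1) * z + (-1) * z ^ 3 + (-1) * z ^ 4) * hchar
    · linear_combination ((1) * z) * hP + ((-1) * z ^ 2) * hchar
    · linear_combination 0 * hP + 0 * hchar
  have s3 : (u : Matrix ι ι F) *ᵥ vec (H.e 0) H.z (H.d 0) (1 + z + z ^ 3 + z ^ 5) (1 + z ^ 2 + z ^ 3 + z ^ 5) (z + z ^ 5) =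
      vec (H.e 0) H.z (H.d 0) (1 + z + z ^ 2) (1) (z + z ^ 5) := by
    rw [hu']
    refine vec_congr ?_ ?_ ?_
    · linear_combination ((-2) + (-1) * z) * hP + ((1) + (1) * z + (-1) * z ^ 4 + (1) * z ^ 5) * hchar
    · linear_combination ((1) * z) * hP + ((1) * z ^ 3 + (1) * z ^ 5) * hchar
    · linear_combination 0 * hP + 0 * hchar
  have s4 : (v : Matrix ι ι F) *ᵥ vec (H.e 0) H.z (H.d 0) (1 + z + z ^ 2) (1) (z + z ^ 5) =
      vec (H.e 0) H.z (H.d 0) (1 + z + z ^ 2) (z + z ^ 2) (z ^ 3) := by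
    rw [hv']
    refine vec_congr ?_ ?_ ?_
    · linear_combination 0 * hP + 0 * hchar
    · linear_combination 0 * hP + ((1)) * hchar
    · linear_combination ((1) + (1) * z) * hP + ((-1) + (1) * z ^ 5) * hchar
  have s5 : (u : Matrix ι ι F) *ᵥ vec (H.e 0) H.z (H.d 0) (1 + z + z ^ 2) (z + z ^ 2) (z ^ 3) =
      vec (H.e 0) H.z (H.d 0) (z + z ^ 2 + z ^ 3 + z ^ 5) (z + z ^ 2 + z ^ 3 + z ^ 5) (z ^ 3) := by
    rw [hu']
    refine vec_congr ?_ ?_ ?_
    · linear_combination ((-1) + (1) * z) * hP + ((1) + (-1) * z ^ 2 + (-1) * z ^ 3 + (-1) * z ^ 5) * hchar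
    · linear_combination 0 * hP + 0 * hchar
    · linear_combination 0 * hP + 0 * hchar
  have s6 : (v : Matrix ι ι F) *ᵥ vec (H.e 0) H.z (H.d 0) (z + z ^ 2 + z ^ 3 + z ^ 5) (z + z ^ 2 + z ^ 3 + z ^ 5) (z ^ 3) =
      vec (H.e 0) H.z (H.d 0) (z + z ^ 2 + z ^ 3 + z ^ 5) 0 0 := by
    rw [hv']
    refine vec_congr ?_ ?_ ?_
    · linear_combination 0 * hP + 0 * hchar
    · linear_combination 0 * hP + ((1) * z + (1) * z ^ 2 + (1) * z ^ 3 + (1) * z ^ 5) * hchar
    · linear_combination ((2) + (1) * z + (1) * z ^ 2 + (1) * z ^ 4) * hP + ((-1) + (-2) * z + (-1) * z ^ 2 + (-1) * z ^ 5) * hchar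
  have s7 : (v : Matrix ι ι F) *ᵥ vec (H.e 0) H.z (H.d 0) 0 (1) 0 =
      vec (H.e 0) H.z (H.d 0) 0 (1) (1) := by
    rw [hv']
    refine vec_congr ?_ ?_ ?_
    · linear_combination 0 * hP + 0 * hchar
    · linear_combination 0 * hP + 0 * hchar
    · linear_combination 0 * hP + ((-1)) * hchar
  have s8 : (u : Matrix ι ι F) *ᵥ vec (H.e 0) H.z (H.d 0) 0 (1) (1) =
      vec (H.e 0) H.z (H.d 0) (z) (z ^ 2) (1) := by
    rw [hu']
    refine vec_congr ?_ ?_ ?_
    · linear_combination 0 * hP + ((-1) * z) * hchar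
    · linear_combination 0 * hP + ((1)) * hchar
    · linear_combination 0 * hP + 0 * hchar
  have s9 : (u : Matrix ι ι F) *ᵥ vec (H.e 0) H.z (H.d 0) (z) (z ^ 2) (1) =
      vec (H.e 0) H.z (H.d 0) (1 + z ^ 3 + z ^ 4) (1) (1) := by
    rw [hu']
    refine vec_congr ?_ ?_ ?_
    · linear_combination ((-1)) * hP + ((1) * z + (-1) * z ^ 3) * hchar
    · linear_combination 0 * hP + ((1) * z ^ 2) * hchar
    · linear_combination 0 * hP + 0 * hchar
  have s10 : (v : Matrix ι ι F) *ᵥ vec (H.e 0) H.z (H.d 0) (1 + z ^ 3 + z ^ 4) (1) (1) =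
      vec (H.e 0) H.z (H.d 0) (1 + z ^ 3 + z ^ 4) (z ^ 3 + z ^ 4) (z + z ^ 2) := by
    rw [hv']
    refine vec_congr ?_ ?_ ?_
    · linear_combination 0 * hP + 0 * hchar
    · linear_combination 0 * hP + ((1)) * hchar
    · linear_combination ((1) * z ^ 2 + (1) * z ^ 3) * hP + ((-1) * z ^ 2 + (-1) * z ^ 3 + (1) * z ^ 5) * hchar
  have s11 : (u : Matrix ι ι F) *ᵥ vec (H.e 0) H.z (H.d 0) (1 + z ^ 3 + z ^ 4) (z ^ 3 + z ^ 4) (z + z ^ 2) =
      vec (H.e 0) H.z (H.d 0) 0 (z + z ^ 2) (z + z ^ 2) := by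
    rw [hu']
    refine vec_congr ?_ ?_ ?_
    · linear_combination ((1) + (-1) * z + (-1) * z ^ 2) * hP + ((1) * z ^ 2 + (1) * z ^ 3) * hchar
    · linear_combination 0 * hP + ((1) * z ^ 3 + (1) * z ^ 4) * hchar
    · linear_combination 0 * hP + 0 * hchar
  have s12 : (v : Matrix ι ι F) *ᵥ vec (H.e 0) H.z (H.d 0) 0 (z + z ^ 2) (z + z ^ 2) =
      vec (H.e 0) H.z (H.d 0) 0 (z + z ^ 2) 0 := by
    rw [hv']
    refine vec_congr ?_ ?_ ?_
    · linear_combination 0 * hP + 0 * hchar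
    · linear_combination 0 * hP + 0 * hchar
    · linear_combination 0 * hP + 0 * hchar
  have he1 : H.e 0 = vec (H.e 0) H.z (H.d 0) 1 0 0 := by simp [vec]
  have he2 : H.z = vec (H.e 0) H.z (H.d 0) 0 1 0 := by simp [vec]
  have hvm : v ∈ Subgroup.closure ({u, v} : Set (GL ι F)) :=
    Subgroup.subset_closure (Set.mem_insert_of_mem _ rfl)
  have hum : u ∈ Subgroup.closure ({u, v} : Set (GL ι F)) := Subgroup.subset_closure (Set.mem_insert _ _)
  refine hasPair_of_word hf H hz (p := 2) (by norm_num) hF (c := 1) (d := (z + z ^ 5)) (ω := (1 + z ^ 2))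
    (b := (z ^ 4)) (a := (1 + z + z ^ 2)) hcond hbcond ?_ ?_ ?_ haω (w := v * u * v * (u * u) * v) (lam := (z + z ^ 2 + z ^ 3 + z ^ 5)) (μ := (z + z ^ 2))
    (ν := 0) (mul_mem (mul_mem (mul_mem (mul_mem hvm hum) hvm) (mul_mem hum hum)) hvm) ?_ ?_ (by rw [hρ]; exact hρ0) (by rw [hρ]; exact hgen)
  · exact hd0
  · exact hw0
  · exact ha0
  · simp only [mul_mulVec]
    conv_lhs => rw [he1, s1, s2, s3, s4, s5, s6]
    simp [vec]
  · simp only [mul_mulVec]
    conv_lhs => rw [he2, s7, s8, s9, s10, s11, s12]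
    simp only [vec]
    module

end CfsgLib.KnownSimple.RegUnipotentGen.UnitaryThree
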