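/-
The fields with 25 and 64 elements, and assembly for SU(3).
-/
import Cfsg.Agent.Lib.KnownSimple.RegUnipotentGen.SUThreeSmall
import Cfsg.Agent.Lib.Classical.UnitTwoGen.Std
import Cfsg.Agent.Lib.Classical.UnitaryPSU

set_option autoImplicit false
set_option linter.unusedSectionVars false

namespace CfsgLib.KnownSimple.RegUnipotentGen.UnitaryThree

open Matrix Polynomial CfsgLib.Transvec CfsgLib.Transvec.Unitary CfsgLib.Classical.Unitary
  CfsgLib.Classical.UnitTwoGen
open scoped MatrixGroups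

/-- A root of a polynomial dividing `X ^ |F| - X`. -/
theorem exists_root_of_dvd {F : Type*} [Field F] [Fintype F] {P : F[X]} (hdeg : P.degree ≠ 0)
    (h : ∀ r : AdjoinRoot P, r = AdjoinRoot.root P → r ^ Fintype.card F = r) : ∃ z, P.eval z = 0 := by
  have hdvd : P ∣ X ^ Fintype.card F - X := by
    rw [← AdjoinRoot.mk_eq_zero]
    simp only [map_sub, map_pow, AdjoinRoot.mk_X]
    rw [h _ rfl, sub_self]
  have hs : Splits (X ^ Fintype.card F - X : F[X]) := by
    rw [splits_iff_card_roots, FiniteField.roots_X_pow_card_sub_X,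
      FiniteField.X_pow_card_sub_X_natDegree_eq F Fintype.one_lt_card]
    rfl
  exact (hs.of_dvd
    (FiniteField.X_pow_card_sub_X_ne_zero F Fintype.one_lt_card) hdvd).exists_eval_eq_zero hdeg

variable {ι : Type} [Fintype ι] [DecidableEq ι] {F : Type*} [Field F] {σ : F ≃+* F}
  {f : (ι → F) → (ι → F) → F}

variable (hf : Cfsg.Geo.IsUnitaryForm σ f) [Fintype F] (H : HFrame f 1) (hz : f H.z H.z = 1)

include hf hz

theorem hasPair_q_five (hF : Fintype.card F = 5 ^ 2) (hσ : ∀ x, σ x = x ^ 5) : HasPair σ f := by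
  haveI : Fact (Nat.Prime 5) := ⟨by norm_num⟩
  haveI : CharP F 5 := charP_of_card_eq_prime_pow hF
  have h5 : (5 : F) = 0 := by exact_mod_cast CharP.cast_eq_zero F 5
  have hP0 : (X ^ 2 + 4 * X + 2 : F[X]).degree ≠ 0 := by
    rw [show (X ^ 2 + 4 * X + 2 : F[X]).degree = 2 by compute_degree!]
    decide
  obtain ⟨z, hz'⟩ := exists_root_of_dvd hP0 fun r hr => by
    have hr0 : r ^ 2 + 4 * r + 2 = 0 := by
      have := AdjoinRoot.eval₂_root (X ^ 2 + 4 * X + 2 : F[X])
      rw [hr]
      simpa using this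
    have h5' : (5 : AdjoinRoot (X ^ 2 + 4 * X + 2 : F[X])) = 0 := by
      rw [← map_ofNat (AdjoinRoot.of _) 5, h5, map_zero]
    rw [hF]
    have e : ∀ s : AdjoinRoot (X ^ 2 + 4 * X + 2 : F[X]), s = r → r ^ 5 = 1 + 4 * r := fun s _ => by
      linear_combination (r ^ 3 - 4 * r ^ 2 + 14 * r - 48) * hr0 + (32 * r + 19) * h5'
    rw [show 5 ^ 2 = 5 * 5 by norm_num, pow_mul, e r rfl]
    have e2 : (1 + 4 * r) ^ 5 = 1 + 4 * r ^ 5 := by
      linear_combination (4 * r + 32 * r ^ 2 + 128 * r ^ 3 + 256 * r ^ 4 + 204 * r ^ 5) * h5'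
    rw [e2, e r rfl]
    linear_combination (1 + 3 * r) * h5'
  have hP : z ^ 2 + 4 * z + 2 = 0 := by simpa using hz'
  refine hasPair_five hf H hz (n := 2) hF hP h5 ?_ (fun j hj hj2 => ?_) (by norm_num)
  · rw [hσ]
    linear_combination (z ^ 3 - 4 * z ^ 2 + 14 * z - 48) * hP + (32 * z + 19) * h5
  · obtain rfl : j = 1 := by omega
    intro h
    have hz5 : z ^ 5 = 1 + 4 * z := by
      linear_combination (z ^ 3 - 4 * z ^ 2 + 14 * z - 48) * hP + (32 * z + 19) * h5
    rw [pow_one, add_pow_char, mul_pow, hz5, show (4 : F) ^ 5 = 4 by linear_combination (204 : F) * h5,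
      show (2 : F) ^ 5 = 2 by linear_combination (6 : F) * h5] at h
    have h3 : z = 3 := by linear_combination (1 / 1 : F) * h + (-z - 1) * h5 + (0 : F) * hP
    rw [h3] at hP
    exact one_ne_zero (α := F) (by linear_combination (2 : F) * hP - (9 : F) * h5)

theorem hasPair_q_eight (hF : Fintype.card F = 2 ^ 6) (hσ : ∀ x, σ x = x ^ 8) : HasPair σ f := by
  haveI : Fact (Nat.Prime 2) := ⟨Nat.prime_two⟩
  haveI : CharP F 2 := charP_of_card_eq_prime_pow hF
  have h2 : (2 : F) = 0 := by exact_mod_cast CharP.cast_eq_zero F 2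
  have hP0 : (X ^ 6 + X + 1 : F[X]).degree ≠ 0 := by
    rw [show (X ^ 6 + X + 1 : F[X]).degree = 6 by compute_degree!]
    decide
  obtain ⟨z, hz'⟩ := exists_root_of_dvd hP0 fun r hr => by
    have h6 : r ^ 6 + r + 1 = 0 := by
      have := AdjoinRoot.eval₂_root (X ^ 6 + X + 1 : F[X])
      rw [hr]
      simpa using this
    have h2' : (2 : AdjoinRoot (X ^ 6 + X + 1 : F[X])) = 0 := by
      rw [← map_ofNat (AdjoinRoot.of _) 2, h2, map_zero]
    have e8 : r ^ 8 = r ^ 3 + r ^ 2 := by linear_combination (r ^ 2) * h6 - (r ^ 3 + r ^ 2) * h2'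
    have e16 : r ^ 16 = r ^ 4 + r + 1 := by
      rw [show r ^ 16 = (r ^ 8) ^ 2 by ring, e8]
      linear_combination h6 + (r ^ 5 - r - 1) * h2'
    have e32 : r ^ 32 = r ^ 3 + 1 := by
      rw [show r ^ 32 = (r ^ 16) ^ 2 by ring, e16]
      linear_combination (r ^ 2) * h6 + (r ^ 5 + r ^ 4 + r - r ^ 3) * h2'
    rw [hF, show r ^ 2 ^ 6 = (r ^ 32) ^ 2 by ring, e32]
    linear_combination h6 + (r ^ 3 - r) * h2'
  have hP : z ^ 6 + z + 1 = 0 := by simpa using hz'
  have hz0 : z ≠ 0 := by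
    rintro rfl
    simp at hP
  have e8 : z ^ 8 = z ^ 3 + z ^ 2 := by linear_combination (z ^ 2) * hP - (z ^ 3 + z ^ 2) * h2
  have h64 : z ^ 64 = z := by
    have := FiniteField.pow_card z
    rwa [hF] at this
  refine hasPair_eight hf H hz (n := 6) hF hP h2 ?_ (fun j hj hj2 => ?_) (by norm_num)
  · rw [hσ, e8, add_comm]
  · intro h
    rw [add_pow_char_pow, one_pow, add_right_inj] at h
    have h3 : z ^ 3 = 1 → False := fun h3 => hz0 (by linear_combination hP - (z ^ 3 + 1) * h3 - h2)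
    have h4 : z ^ 4 = z → False := fun h4 => h3 (mul_right_cancel₀ hz0 (by linear_combination h4))
    interval_cases j
    · norm_num at h
      exact h4 (by linear_combination (z ^ 2 + z + 1) * h)
    · exact h4 (by norm_num at h; exact h)
    · norm_num at h
      rw [e8] at h
      have hq : z ^ 2 + z = 1 := mul_right_cancel₀ hz0 (by linear_combination h)
      exact h3 (by linear_combination (z - 1) * hq + z * h2 - h2)
    · norm_num at h
      exact h4 (calc z ^ 4 = (z ^ 16) ^ 4 := by rw [h]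
        _ = z ^ 64 := by ring
        _ = z := h64)
    · norm_num at h
      exact h4 (by
        have : z ^ 2 = z := calc
          z ^ 2 = (z ^ 32) ^ 2 := by rw [h]
          _ = z ^ 64 := by ring
          _ = z := h64
        linear_combination (z ^ 2 + z + 1) * this)

omit hf hz

/-- `SU(3, q)` for `q ≥ 3`. -/
theorem hasPair_hermForm {F : Type*} [Field F] [Fintype F] {σ : F ≃+* F} {q : ℕ} (hF : Fintype.card F = q ^ 2)
    (hσ : ∀ x, σ x = x ^ q) (hinv : ∀ x, σ (σ x) = x) (hne : σ ≠ RingEquiv.refl F) (hq : 3 ≤ q) :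
    HasPair σ (Cfsg.hermForm 3 F q) := by
  have hf := isUnitaryForm_hermForm (n := 3) hσ hinv hne
  obtain ⟨H, hH⟩ := exists_frame (n := 3) hF hσ hinv hne
  have hz : Cfsg.hermForm 3 F q H.z H.z = 1 := by
    rcases hH with ⟨-, h⟩ | ⟨h, -⟩
    · omega
    · exact h
  by_cases h5 : q = 5
  · subst h5
    exact hasPair_q_five hf H hz hF hσ
  by_cases h8 : q = 8
  · subst h8
    exact hasPair_q_eight hf H hz (by rw [hF]; norm_num) hσ
  exact hasPair_generic hf H hz hF hσ hq h5 h8

end CfsgLib.KnownSimple.RegUnipotentGen.UnitaryThree
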