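import Cfsg.Agent.Lib.KnownSimple.RegUnipotentGen.SpGrow

/-!
Products of transvections with centres in a window of vectors, computed in coordinates.
-/

set_option autoImplicit false
set_option linter.unusedSectionVars false

namespace CfsgLib.RegUnipotentGen.Sp

open Matrix CfsgLib.Transvec
open scoped MatrixGroups

section Word

variable {R : Type*} [CommRing R] {m : ℕ}

/-- The product law of window coefficient matrices. -/
def wmul (G A B : Matrix (Fin m) (Fin m) R) : Matrix (Fin m) (Fin m) R := A + B + A * G * B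

/-- The shift of a coefficient vector. -/
def shiftVec (c : List R) (k : ℕ) : Fin m → R := fun i => if k ≤ (i : ℕ) then c.getD ((i : ℕ) - k) 0 else 0

/-- One letter: the coefficient matrix of `sT (z_{k+1}) t * sT (z_k) (-t)`. -/
def letterMat (G : Matrix (Fin m) (Fin m) R) (l : List R × ℕ × R) : Matrix (Fin m) (Fin m) R :=
  wmul G (l.2.2 • vecMulVec (shiftVec l.1 (l.2.1 + 1)) (shiftVec l.1 (l.2.1 + 1)))
    ((-l.2.2) • vecMulVec (shiftVec l.1 l.2.1) (shiftVec l.1 l.2.1))

/-- The coefficient matrix of a word. -/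
def wordMat (G : Matrix (Fin m) (Fin m) R) : List (List R × ℕ × R) → Matrix (Fin m) (Fin m) R
  | [] => 0
  | l :: ls => wmul G (letterMat G l) (wordMat G ls)

variable {S : Type*} [CommRing S] (φ : R →+* S)

lemma map_wmul (G A B : Matrix (Fin m) (Fin m) R) :
    (wmul G A B).map φ = wmul (G.map φ) (A.map φ) (B.map φ) := by
  rw [wmul, wmul, Matrix.map_add _ (map_add φ), Matrix.map_add _ (map_add φ), Matrix.map_mul, Matrix.map_mul]

lemma map_smul_vecMulVec (t : R) (c : Fin m → R) :
    (t • vecMulVec c c).map φ = φ t • vecMulVec (φ ∘ c) (φ ∘ c) := by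
  ext i j; simp [vecMulVec_apply]

end Word

variable {ι : Type} [Fintype ι] [DecidableEq ι] {F : Type*} [Field F]
variable {f : (ι → F) → (ι → F) → F} (v : ℕ → ι → F) {m : ℕ}

/-- The vector with window coefficients `c`. -/
def pvec (c : Fin m → F) : ι → F := ∑ i, c i • v i

/-- The pairings with the window. -/
def qvec (f : (ι → F) → (ι → F) → F) (v : ℕ → ι → F) (m : ℕ) (x : ι → F) : Fin m → F := fun i => f x (v i)

/-- The Gram matrix of the window. -/
def gmat (f : (ι → F) → (ι → F) → F) (v : ℕ → ι → F) (m : ℕ) : Matrix (Fin m) (Fin m) F :=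
  of fun i j => f (v j) (v i)

/-- `g` acts through the coefficient matrix `A`. -/
def Rep (f : (ι → F) → (ι → F) → F) (v : ℕ → ι → F) (A : Matrix (Fin m) (Fin m) F) (g : GL ι F) : Prop :=
  ∀ x, (g : Matrix ι ι F) *ᵥ x = x + pvec v (A *ᵥ qvec f v m x)

lemma pvec_add (a b : Fin m → F) : pvec v (a + b) = pvec v a + pvec v b := by
  simp [pvec, add_smul, Finset.sum_add_distrib]

lemma pvec_smul (c : F) (a : Fin m → F) : pvec v (c • a) = c • pvec v a := by
  simp [pvec, smul_smul, Finset.smul_sum]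

lemma pvec_single (i : Fin m) : pvec v (Pi.single i 1) = v i := by
  simp [pvec, Pi.single_apply]

lemma pvec_mem_span (c : Fin m → F) : pvec v c ∈ Submodule.span F (v '' Set.Iio m) :=
  Submodule.sum_mem _ fun i _ => Submodule.smul_mem _ _ (Submodule.subset_span ⟨i, i.2, rfl⟩)

lemma exists_pvec {x : ι → F} (hx : x ∈ Submodule.span F (v '' Set.Iio m)) : ∃ c : Fin m → F, pvec v c = x := by
  refine Submodule.span_induction ?_ ?_ ?_ ?_ hx
  · rintro _ ⟨i, hi, rfl⟩
    exact ⟨Pi.single ⟨i, hi⟩ 1, pvec_single v _⟩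
  · exact ⟨0, by simp [pvec]⟩
  · rintro x y _ _ ⟨a, rfl⟩ ⟨b, rfl⟩
    exact ⟨a + b, pvec_add v a b⟩
  · rintro c x _ ⟨a, rfl⟩
    exact ⟨c • a, pvec_smul v c a⟩

variable (hf : Cfsg.Geo.IsSymplecticForm f)

include hf

lemma form_pvec_right (x : ι → F) (c : Fin m → F) : f x (pvec v c) = c ⬝ᵥ qvec f v m x := by
  rw [← CfsgLib.Transvec.toBilin_apply hf.bilinear, pvec, map_sum, dotProduct]
  refine Finset.sum_congr rfl fun i _ => ?_
  rw [map_smul, smul_eq_mul, CfsgLib.Transvec.toBilin_apply, qvec]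

lemma qvec_pvec (c : Fin m → F) : qvec f v m (pvec v c) = gmat f v m *ᵥ c := by
  funext i
  rw [qvec, ← CfsgLib.Transvec.toBilin_apply hf.bilinear, pvec, map_sum, LinearMap.sum_apply, mulVec, dotProduct]
  refine Finset.sum_congr rfl fun j _ => ?_
  rw [map_smul, LinearMap.smul_apply, smul_eq_mul, CfsgLib.Transvec.toBilin_apply, gmat, of_apply, mul_comm]

lemma qvec_add (x y : ι → F) : qvec f v m (x + y) = qvec f v m x + qvec f v m y :=
  funext fun i => add_left' hf x y (v i)

lemma rep_sT (c : Fin m → F) (t : F) : Rep f v (t • vecMulVec c c) (sT f (pvec v c) t) := fun x => by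
  rw [sT_mulVec hf, smul_mulVec, vecMulVec_mulVec, op_smul_eq_smul, pvec_smul, pvec_smul, form_pvec_right v hf,
    smul_smul]

lemma rep_mul {A B : Matrix (Fin m) (Fin m) F} {g h : GL ι F} (hg : Rep f v A g) (hh : Rep f v B h) :
    Rep f v (wmul (gmat f v m) A B) (g * h) := fun x => by
  rw [mul_mulVec, hh, hg, qvec_add v hf, qvec_pvec v hf, wmul, add_mulVec, add_mulVec, mulVec_add, pvec_add,
    pvec_add, pvec_add, mulVec_mulVec, mulVec_mulVec]
  abel

lemma rep_one : Rep f v (0 : Matrix (Fin m) (Fin m) F) 1 := fun x => by simp [pvec]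

lemma rep_unique {A : Matrix (Fin m) (Fin m) F} {g h : GL ι F} (hg : Rep f v A g) (hh : Rep f v A h) : g = h :=
  gl_ext fun x => (hg x).trans (hh x).symm

variable {R : Type*} [CommRing R] (φ : R →+* F)

/-- A word in the generators reaching a transvection. -/
theorem word_mem_group {M : Subgroup (GL ι F)} {G0 : Matrix (Fin m) (Fin m) R} (hG : gmat f v m = G0.map φ)
    (w : List (List R × ℕ × R))
    (hgen : ∀ l ∈ w, sT f (pvec v (φ ∘ (shiftVec l.1 (l.2.1 + 1) : Fin m → R))) (φ l.2.2) *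
        sT f (pvec v (φ ∘ (shiftVec l.1 l.2.1 : Fin m → R))) (-φ l.2.2) ∈ M)
    {c : Fin m → R} {t : R} (hw : wordMat G0 w = t • vecMulVec c c) :
    sT f (pvec v (φ ∘ c)) (φ t) ∈ M := by
  suffices ∃ g ∈ M, Rep f v ((wordMat G0 w).map φ) g by
    obtain ⟨g, hg, hrep⟩ := this
    rw [hw, map_smul_vecMulVec φ] at hrep
    exact rep_unique v hf (rep_sT v hf (φ ∘ c) (φ t)) hrep ▸ hg
  clear hw
  induction w with
  | nil =>
    refine ⟨1, M.one_mem, ?_⟩
    rw [wordMat, Matrix.map_zero _ (map_zero φ)]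
    exact rep_one v hf
  | cons l w ih =>
    obtain ⟨g, hg, hrep⟩ := ih fun l' hl' => hgen l' (List.mem_cons_of_mem _ hl')
    refine ⟨_, M.mul_mem (hgen l List.mem_cons_self) hg, ?_⟩
    rw [wordMat, map_wmul φ, letterMat, map_wmul φ, map_smul_vecMulVec φ, map_smul_vecMulVec φ, ← hG,
      map_neg]
    exact rep_mul v hf (rep_mul v hf (rep_sT v hf _ _) (rep_sT v hf _ _)) hrep

end CfsgLib.RegUnipotentGen.Sp
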