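import Cfsg.Agent.Lib.KnownSimple.RegUnipotentGen.SpSpace
import Cfsg.Agent.Lib.KnownSimple.RegUnipotentGen.SpWindow
import Cfsg.Agent.Lib.KnownSimple.RegUnipotentGen.SL2Small

/-!
Three conjugates of a regular unipotent element generate the symplectic group.
-/

set_option autoImplicit false
set_option linter.unusedSectionVars false

namespace CfsgLib.RegUnipotentGen.Sp

open Matrix CfsgLib.Transvec
open scoped MatrixGroups

section Orbit

variable {ι : Type} [Fintype ι] [DecidableEq ι] {F : Type*} [Field F]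
variable {f : (ι → F) → (ι → F) → F} (hf : Cfsg.Geo.IsSymplecticForm f)
variable {u : GL ι F} (hu : Iso f u) {M : Subgroup (GL ι F)} (huM : u ∈ M)

include hf hu huM

lemma iso_pow (k : ℕ) : Iso f (u ^ k) := by
  induction k with
  | zero => simpa using iso_one f
  | succ k ih => rw [pow_succ]; exact ih.mul hu

/-- The generators from a conjugate `sT z c * u * (sT z c)⁻¹`. -/
lemma letter_mem {z : ι → F} {c : F} (hg : sT f z c * u * (sT f z c)⁻¹ ∈ M) (k : ℕ) :
    sT f ((u : Matrix ι ι F) ^ (k + 1) *ᵥ z) c * sT f ((u : Matrix ι ι F) ^ k *ᵥ z) (-c) ∈ M := by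
  have h1 : sT f z c * sT f ((u : Matrix ι ι F) *ᵥ z) (-c) ∈ M := by
    have := M.mul_mem hg (M.inv_mem huM)
    rwa [mul_assoc, mul_assoc, ← mul_assoc u, sT_inv hf, conj_sT_iso hf hu] at this
  have h2 := M.inv_mem (M.mul_mem (M.mul_mem (M.pow_mem huM k) h1) (M.inv_mem (M.pow_mem huM k)))
  have h3 : (u ^ k * (sT f z c * sT f ((u : Matrix ι ι F) *ᵥ z) (-c)) * (u ^ k)⁻¹) =
      (u ^ k * sT f z c * (u ^ k)⁻¹) * (u ^ k * sT f ((u : Matrix ι ι F) *ᵥ z) (-c) * (u ^ k)⁻¹) := by group
  rw [h3, conj_sT_iso hf (iso_pow hf hu huM k), conj_sT_iso hf (iso_pow hf hu huM k), _root_.mul_inv_rev,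
    sT_inv hf, sT_inv hf, neg_neg, Units.val_pow_eq_pow_val, mulVec_mulVec, ← pow_succ] at h2
  exact h2

lemma full_orbit {z : ι → F} (hz : Full f M z) (k : ℕ) : Full f M ((u : Matrix ι ι F) ^ k *ᵥ z) := by
  rw [← Units.val_pow_eq_pow_val]
  exact full_conj hf (M.pow_mem huM k) (iso_pow hf hu huM k) hz

end Orbit

section Values

variable {F : Type*} [Field F]

lemma bseq_small (α : ℕ → F) {n d : ℕ} (h : d ≤ n) :
    bseq α n (d : ℤ) = ∑ t ∈ Finset.range d, α t * ((d + t).choose (2 * t + 1) : F) := by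
  rw [bseq_natCast]
  refine (Finset.sum_subset (Finset.range_mono h) fun t _ ht => ?_).symm
  rw [Nat.choose_eq_zero_of_lt (by simp at ht; omega), Nat.cast_zero, mul_zero]

variable {R : Type*} [CommRing R]

/-- The Gram matrix with first column `bl`. -/
def gramList (bl : List R) (m : ℕ) : Matrix (Fin m) (Fin m) R :=
  of fun i j => if (j : ℕ) ≤ (i : ℕ) then bl.getD ((i : ℕ) - j) 0 else - bl.getD ((j : ℕ) - i) 0

end Values

section Window

variable {ι : Type} [Fintype ι] [DecidableEq ι] {F : Type*} [Field F]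
variable {f : (ι → F) → (ι → F) → F} {v : ℕ → ι → F} {R : Type*} [CommRing R] (φ : R →+* F)

lemma gmat_eq (α : ℕ → F) {n m : ℕ} (hm : m ≤ 2 * n)
    (hv : ∀ i j, i < 2 * n → j < 2 * n → f (v i) (v j) = bseq α n ((j : ℤ) - (i : ℤ))) (bl : List R)
    (hb : ∀ d < m, bseq α n (d : ℤ) = φ (bl.getD d 0)) : gmat f v m = (gramList bl m).map φ := by
  ext i j
  rw [gmat, of_apply, hv j i (by omega) (by omega), map_apply, gramList, of_apply]
  split_ifs with h
  · rw [← hb _ (by omega), Nat.cast_sub h]
  · rw [map_neg, ← hb _ (by omega), Nat.cast_sub (by omega), ← bseq_neg, neg_sub]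

lemma pvec_shift_one {m k : ℕ} (hk : k < m) : pvec v (φ ∘ (shiftVec [1] k : Fin m → R)) = v k := by
  have h : (φ ∘ (shiftVec [1] k : Fin m → R)) = Pi.single ⟨k, hk⟩ 1 := by
    funext i
    rw [Function.comp_apply, shiftVec, Pi.single_apply]
    rcases lt_trichotomy (i : ℕ) k with h | h | h
    · rw [if_neg (by omega), if_neg (fun h' => by rw [h'] at h; exact lt_irrefl _ h), map_zero]
    · rw [if_pos h.ge, if_pos (Fin.ext h), h, Nat.sub_self]; simp
    · rw [if_pos h.le, if_neg (fun h' => by rw [h'] at h; exact lt_irrefl _ h)]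
      obtain ⟨d, hd⟩ : ∃ d, (i : ℕ) - k = d + 1 := ⟨(i : ℕ) - k - 1, by omega⟩
      rw [hd]; simp
  rw [h, pvec_single]

lemma pvec_shift_two {m k : ℕ} (hk : k + 1 < m) :
    pvec v (φ ∘ (shiftVec [1, 1] k : Fin m → R)) = v k + v (k + 1) := by
  have h : (φ ∘ (shiftVec [1, 1] k : Fin m → R)) =
      φ ∘ (shiftVec [1] k : Fin m → R) + φ ∘ (shiftVec [1] (k + 1) : Fin m → R) := by
    funext i
    simp only [Function.comp_apply, Pi.add_apply, shiftVec]
    rcases lt_trichotomy (i : ℕ) k with h | h | h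
    · rw [if_neg (by omega), if_neg (by omega), if_neg (by omega)]; simp
    · rw [if_pos h.ge, if_pos h.ge, if_neg (by omega), h, Nat.sub_self]; simp
    · rw [if_pos h.le, if_pos h.le, if_pos (by omega : k + 1 ≤ (i : ℕ))]
      obtain ⟨d, hd⟩ : ∃ d, (i : ℕ) - k = d + 1 := ⟨(i : ℕ) - k - 1, by omega⟩
      rw [hd, show (i : ℕ) - (k + 1) = d by omega]
      rcases d with - | d <;> simp
  rw [h, pvec_add, pvec_shift_one φ (by omega), pvec_shift_one φ hk]

end Window

variable {F : Type*} [Field F] {n : ℕ}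

local notation "Vn" => (Fin n ⊕ Fin n → F)
local notation "GLn" => GL (Fin n ⊕ Fin n) F
local notation "fS" => Cfsg.sympForm n F

/-- All centres are full in every group containing `u` and the two conjugates. -/
def GenData (u : GLn) (z w : Vn) (c d : F) : Prop :=
  ∀ M : Subgroup GLn, u ∈ M → sT fS z c * u * (sT fS z c)⁻¹ ∈ M → sT fS w d * u * (sT fS w d)⁻¹ ∈ M →
    ∀ x, Full fS M x

variable {u : GL (Fin n ⊕ Fin n) F} {v0 : Fin n ⊕ Fin n → F} {α : ℕ → F}

/-- Finishing when the field has at least three elements. -/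
lemma full_all_three (h3 : ∃ a : F, a ≠ 0 ∧ a ≠ 1) (hn : 2 ≤ n) (hu : Iso (Cfsg.sympForm n F) u)
    (hgram : ∀ i j : ℕ, i < 2 * n → j < 2 * n → Cfsg.sympForm n F
        ((u : Matrix (Fin n ⊕ Fin n) (Fin n ⊕ Fin n) F) ^ i *ᵥ v0)
        ((u : Matrix (Fin n ⊕ Fin n) (Fin n ⊕ Fin n) F) ^ j *ᵥ v0) = bseq α n ((j : ℤ) - (i : ℤ)))
    (hspan : Submodule.span F (Set.range fun k : Fin (2 * n) =>
        (u : Matrix (Fin n ⊕ Fin n) (Fin n ⊕ Fin n) F) ^ (k : ℕ) *ᵥ v0) = ⊤)
    (hb : bseq α n 1 ≠ 0) {M : Subgroup (GL (Fin n ⊕ Fin n) F)} (huM : u ∈ M)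
    (hfull : Full (Cfsg.sympForm n F) M v0) : ∀ x, Full (Cfsg.sympForm n F) M x := by
  have hf := isSymplecticForm_sympForm (F := F) n
  set v : ℕ → (Fin n ⊕ Fin n → F) := fun k => (u : Matrix (Fin n ⊕ Fin n) (Fin n ⊕ Fin n) F) ^ k *ᵥ v0 with hv
  have hvf : ∀ k, Full (Cfsg.sympForm n F) M (v k) := fun k => full_orbit hf hu huM hfull k
  have h01 : ∀ k, k + 1 < 2 * n → Cfsg.sympForm n F (v (k + 1)) (v k) ≠ 0 := fun k hk => by
    rw [hv, hgram _ _ hk (by omega), show ((k : ℕ) : ℤ) - ((k + 1 : ℕ) : ℤ) = -1 by push_cast; ring, bseq_neg]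
    exact neg_ne_zero.2 hb
  have hspan' : Submodule.span F (v '' Set.Iio (2 * n)) = ⊤ := by
    rw [← hspan]; congr 1; ext x
    exact ⟨fun ⟨i, hi, h⟩ => ⟨⟨i, hi⟩, h⟩, fun ⟨i, h⟩ => ⟨i, i.2, h⟩⟩
  have h10 : Cfsg.sympForm n F (v 1) (v 0) ≠ 0 := h01 0 (by omega)
  refine full_of_chain hf v (m0 := 2) (N := 2 * n) (by omega) hspan' ?_ ?_ (Or.inl h3) (fun k _ _ => hvf k)
    (fun k hk hk' => ⟨k - 1, by omega, by simpa [Nat.sub_add_cancel (show 1 ≤ k by omega)] using h01 (k - 1) (by omega)⟩)
  · rintro x ⟨hx, -⟩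
    obtain ⟨c, rfl⟩ := exists_pvec v hx
    rw [pvec, Fin.sum_univ_two]
    show Full _ M (c 0 • v 0 + c 1 • v 1)
    rcases eq_or_ne (c 0) 0 with h | h
    · rw [h, zero_smul, zero_add]; exact full_smul hf (hvf 1) _
    · refine full_add_smul hf (full_smul hf (hvf 0) _) (hvf 1) ?_ _
      rw [smul_left' hf, hf.skew]
      exact mul_ne_zero h (neg_ne_zero.2 h10)
  · exact ⟨v 1, Submodule.subset_span ⟨1, by simp, rfl⟩, v 0, Submodule.subset_span ⟨0, by simp, rfl⟩, h10⟩

/-- The case of at least four elements. -/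
theorem gen_four [Fintype F] (hn : 2 ≤ n) (h4 : 4 ≤ Fintype.card F) :
    ∃ (u : GLn) (z w : Vn) (c d : F), Iso fS u ∧
      ((u : Matrix (Fin n ⊕ Fin n) (Fin n ⊕ Fin n) F) - 1) ^ (2 * n) = 0 ∧
      ((u : Matrix (Fin n ⊕ Fin n) (Fin n ⊕ Fin n) F) - 1) ^ (2 * n - 1) ≠ 0 ∧ GenData u z w c d := by
  set α : ℕ → F := fun t => if t = 0 ∨ t = n - 1 then 1 else 0 with hα
  obtain ⟨u, v0, hu, hN, hN', hgram, hspan⟩ := exists_data α (show 0 < n by omega) (by simp [hα])
  obtain ⟨s, t, hst⟩ := exists_E2_pair h4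
  refine ⟨u, v0, v0, s, t, hu, hN, hN', fun M huM hgs hgt => ?_⟩
  have hf := isSymplecticForm_sympForm (F := F) n
  set v : ℕ → (Fin n ⊕ Fin n → F) := fun k => (u : Matrix (Fin n ⊕ Fin n) (Fin n ⊕ Fin n) F) ^ k *ᵥ v0 with hv
  have hb1 : bseq α n ((1 : ℕ) : ℤ) = 1 := by rw [bseq_small α (by omega)]; simp [hα]
  have hG : gmat fS v 2 = !![0, -1; 1, 0] := by
    rw [gmat_eq (RingHom.id F) α (by omega) hgram [0, 1] (fun d hd => ?_)]
    · ext i j; fin_cases i <;> fin_cases j <;> simp [gramList]
    · interval_cases d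
      · simp [bseq_zero]
      · simpa using hb1
  set G : Matrix (Fin 2) (Fin 2) F := !![0, -1; 1, 0] with hGdef
  let P : Submonoid SL(2, F) :=
    { carrier := {S | ∃ g ∈ M, ∃ A, Rep fS v A g ∧ (S : Matrix (Fin 2) (Fin 2) F) = 1 + A * G}
      one_mem' := ⟨1, M.one_mem, 0, rep_one v hf, by simp⟩
      mul_mem' := by
        rintro S T ⟨g, hg, A, hA, hS⟩ ⟨h, hh, B, hB, hT⟩
        refine ⟨g * h, M.mul_mem hg hh, _, rep_mul v hf hA hB, ?_⟩
        rw [Matrix.SpecialLinearGroup.coe_mul, hS, hT, hG, wmul]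
        noncomm_ring }
  have hE : ∀ c : F, sT fS v0 c * u * (sT fS v0 c)⁻¹ ∈ M → E2 c ∈ P := by
    intro c hc
    refine ⟨_, letter_mem hf hu huM hc 0, letterMat G ([1], 0, c), ?_, ?_⟩
    · have h := rep_mul v hf (rep_sT v hf (Pi.single (1 : Fin 2) (1 : F)) c) (rep_sT v hf (Pi.single (0 : Fin 2) (1 : F)) (-c))
      rw [pvec_single, pvec_single, hG] at h
      have e1 : (shiftVec [1] 1 : Fin 2 → F) = Pi.single 1 1 := by funext i; fin_cases i <;> simp [shiftVec]
      have e0 : (shiftVec [1] 0 : Fin 2 → F) = Pi.single 0 1 := by funext i; fin_cases i <;> simp [shiftVec]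
      simp only [letterMat, zero_add, e1, e0]
      exact h
    · rw [E2_val]
      ext i j
      fin_cases i <;> fin_cases j <;>
        simp [letterMat, wmul, hGdef, shiftVec, Matrix.mul_apply, Fin.sum_univ_two, vecMulVec_apply] <;> ring
  have hP : ∀ S, S ∈ P := by
    intro S
    have h : S ∈ Subgroup.closure {E2 s, E2 t} := hst ▸ Subgroup.mem_top S
    rw [← Subgroup.mem_toSubmonoid, Subgroup.closure_toSubmonoid_of_finite] at h
    exact (Submonoid.closure_le.2 (Set.insert_subset (hE s hgs) (Set.singleton_subset_iff.2 (hE t hgt)))) h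
  refine full_all_three ?_ hn hu hgram hspan (by rw [show (1 : ℤ) = ((1 : ℕ) : ℤ) from rfl, hb1]; exact one_ne_zero)
    huM fun c => ?_
  · classical
    obtain ⟨a, ha⟩ := Finset.exists_mem_notMem_of_card_lt_card (s := {0, 1}) (t := (Finset.univ : Finset F))
      (lt_of_le_of_lt Finset.card_le_two (by rw [Finset.card_univ]; omega))
    exact ⟨a, by simpa [not_or] using ha.2⟩
  · obtain ⟨g, hg, A, hA, hS⟩ := hP (upT (-c))
    have hA' : A = c • vecMulVec (Pi.single (0 : Fin 2) 1) (Pi.single (0 : Fin 2) 1) := by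
      rw [upT_val] at hS
      have h00 := congrFun (congrFun hS 0) 0
      have h01 := congrFun (congrFun hS 0) 1
      have h10 := congrFun (congrFun hS 1) 0
      have h11 := congrFun (congrFun hS 1) 1
      simp [hGdef, Matrix.mul_apply, Fin.sum_univ_two] at h00 h01 h10 h11
      ext i j
      fin_cases i <;> fin_cases j <;> simp [vecMulVec_apply]
      all_goals first | assumption | exact h01.symm | exact h10.symm
    have h := rep_sT v hf (Pi.single (0 : Fin 2) (1 : F)) c
    rw [← hA', pvec_single] at h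
    rw [rep_unique v hf hA h] at hg
    simpa [hv] using hg

lemma full_of_prime_field {ι : Type} [Fintype ι] [DecidableEq ι] {f : (ι → F) → (ι → F) → F}
    (hf : Cfsg.Geo.IsSymplecticForm f) {p : ℕ} {φ : ZMod p →+* F} (hφ : Function.Surjective φ)
    {M : Subgroup (GL ι F)} {x : ι → F} (h : sT f x 1 ∈ M) : Full f M x := by
  intro c
  obtain ⟨a, rfl⟩ := hφ c
  obtain ⟨i, rfl⟩ := ZMod.intCast_surjective a
  rw [map_intCast]
  induction i using Int.induction_on with
  | zero => rw [Int.cast_zero, sT_zero hf]; exact M.one_mem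
  | succ i ih => rw [Int.cast_add, Int.cast_one, ← sT_mul hf]; exact M.mul_mem ih h
  | pred i ih =>
    rw [Int.cast_sub, Int.cast_one, sub_eq_add_neg, ← sT_mul hf, ← sT_inv hf x 1]
    exact M.mul_mem ih (M.inv_mem h)

/-- The word for three elements, `n ≥ 3`. -/
def word3 : List (List (ZMod 3) × ℕ × ZMod 3) :=
  [([1], 0, 1), ([1], 2, 1), ([1], 0, 2), ([1], 1, 1), ([1], 2, 1), ([1], 0, 1), ([1], 2, 1), ([1], 0, 2),
    ([1], 1, 1), ([1], 2, 1)]

/-- The word for three elements, `n = 2`. -/
def word3' : List (List (ZMod 3) × ℕ × ZMod 3) :=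
  [([1], 2, 1), ([1], 2, 1), ([1], 0, 1), ([1], 1, 2), ([1], 2, 1), ([1], 0, 1), ([1], 1, 2), ([1], 1, 1), ([1], 2, 1)]

lemma word3_ok : wordMat (gramList [0, 1, 0, 0] 4) word3 =
    (1 : ZMod 3) • vecMulVec (shiftVec [1] 0) (shiftVec [1] 0) := by decide +kernel

lemma word3'_ok : wordMat (gramList [0, 1, 0, 1] 4) word3' =
    (1 : ZMod 3) • vecMulVec (shiftVec [1] 0) (shiftVec [1] 0) := by decide +kernel

lemma word3_letters : ∀ l ∈ word3 ++ word3', l.1 = [1] ∧ l.2.1 ≤ 2 ∧ (l.2.2 = 1 ∨ l.2.2 = 2) := by decide +kernel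

/-- The case of three elements. -/
theorem gen_three [Fintype F] (hn : 2 ≤ n) (h3 : Fintype.card F = 3) :
    ∃ (u : GLn) (z w : Vn) (c d : F), Iso fS u ∧
      ((u : Matrix (Fin n ⊕ Fin n) (Fin n ⊕ Fin n) F) - 1) ^ (2 * n) = 0 ∧
      ((u : Matrix (Fin n ⊕ Fin n) (Fin n ⊕ Fin n) F) - 1) ^ (2 * n - 1) ≠ 0 ∧ GenData u z w c d := by
  haveI : CharP F 3 := charP_of_card_eq_prime h3
  set φ : ZMod 3 →+* F := ZMod.castHom (dvd_refl 3) F
  have hφ : Function.Surjective φ :=
    ((Fintype.bijective_iff_injective_and_card φ).2 ⟨φ.injective, by rw [ZMod.card, h3]⟩).2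
  have h30 : (3 : F) = 0 := by exact_mod_cast CharP.cast_eq_zero F 3
  have h2 : (2 : F) ≠ 0 := fun h => one_ne_zero (α := F) (by linear_combination h30 - h)
  -- choice of the Gram sequence
  obtain ⟨α, bl, w, hαn, hb, hword, hw⟩ : ∃ (α : ℕ → F) (bl : List (ZMod 3)) (w : List (List (ZMod 3) × ℕ × ZMod 3)),
      α (n - 1) ≠ 0 ∧ (∀ d : ℕ, d < 4 → bseq α n (d : ℤ) = φ (bl.getD d 0)) ∧
      (wordMat (gramList bl 4) w = (1 : ZMod 3) • vecMulVec (shiftVec [1] 0) (shiftVec [1] 0) ∧ bl.getD 1 0 = 1) ∧
      (∀ l ∈ w, l.1 = [1] ∧ l.2.1 ≤ 2 ∧ (l.2.2 = 1 ∨ l.2.2 = 2)) := by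
    rcases eq_or_ne n 2 with rfl | hn2
    · refine ⟨fun _ => 1, [0, 1, 0, 1], word3', one_ne_zero, fun d hd => ?_, ⟨word3'_ok, rfl⟩,
        fun l hl => word3_letters l (List.mem_append_right _ hl)⟩
      rw [bseq_natCast]
      interval_cases d <;> simp [Finset.sum_range_succ, Nat.choose]
      all_goals first
        | linear_combination (1 : F) * h30
        | linear_combination (-1 : F) * h30
        | linear_combination (2 : F) * h30
        | linear_combination (-2 : F) * h30
        | linear_combination (3 : F) * h30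
        | linear_combination (-3 : F) * h30
        | linear_combination (4 : F) * h30
        | linear_combination (-4 : F) * h30
        | linear_combination (5 : F) * h30
        | linear_combination (-5 : F) * h30
        | linear_combination (6 : F) * h30
        | linear_combination (-6 : F) * h30
        | linear_combination (7 : F) * h30
        | linear_combination (-7 : F) * h30
        | linear_combination (8 : F) * h30
        | linear_combination (9 : F) * h30
        | linear_combination (10 : F) * h30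
        | linear_combination (11 : F) * h30
        | linear_combination (12 : F) * h30
        | linear_combination (13 : F) * h30
        | linear_combination (14 : F) * h30
        | linear_combination (15 : F) * h30
    · set α : ℕ → F := fun t => if t = 0 ∨ t = 1 then 1 else if t = 2 then 2 else if t = n - 1 then 1 else 0 with hα
      refine ⟨α, [0, 1, 0, 0], word3, ?_, fun d hd => ?_, ⟨word3_ok, rfl⟩,
        fun l hl => word3_letters l (List.mem_append_left _ hl)⟩
      · simp only [hα]; split_ifs <;> first | exact one_ne_zero | exact h2 | omega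
      · rw [bseq_small α (by omega)]
        interval_cases d <;> simp [hα, Finset.sum_range_succ, Nat.choose]
        all_goals first
        | linear_combination (1 : F) * h30
        | linear_combination (-1 : F) * h30
        | linear_combination (2 : F) * h30
        | linear_combination (-2 : F) * h30
        | linear_combination (3 : F) * h30
        | linear_combination (-3 : F) * h30
        | linear_combination (4 : F) * h30
        | linear_combination (-4 : F) * h30
        | linear_combination (5 : F) * h30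
        | linear_combination (-5 : F) * h30
        | linear_combination (6 : F) * h30
        | linear_combination (-6 : F) * h30
        | linear_combination (7 : F) * h30
        | linear_combination (-7 : F) * h30
        | linear_combination (8 : F) * h30
        | linear_combination (9 : F) * h30
        | linear_combination (10 : F) * h30
        | linear_combination (11 : F) * h30
        | linear_combination (12 : F) * h30
        | linear_combination (13 : F) * h30
        | linear_combination (14 : F) * h30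
        | linear_combination (15 : F) * h30
  obtain ⟨u, v0, hu, hN, hN', hgram, hspan⟩ := exists_data α (show 0 < n by omega) hαn
  refine ⟨u, v0, v0, 1, φ 2, hu, hN, hN', fun M huM hgs hgt => ?_⟩
  have hf := isSymplecticForm_sympForm (F := F) n
  set v : ℕ → (Fin n ⊕ Fin n → F) := fun k => (u : Matrix (Fin n ⊕ Fin n) (Fin n ⊕ Fin n) F) ^ k *ᵥ v0 with hv
  have hG := gmat_eq (f := fS) (v := v) φ α (show 4 ≤ 2 * n by omega) hgram bl hb
  have hone : bseq α n 1 ≠ 0 := by
    have h := hb 1 (by norm_num)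
    rw [hword.2, map_one, Nat.cast_one] at h
    rw [h]; exact one_ne_zero
  have hmem := word_mem_group v hf φ (M := M) hG w (fun l hl => by
    obtain ⟨h1, h2', h3'⟩ := hw l hl
    rw [h1, pvec_shift_one φ (by omega), pvec_shift_one φ (by omega)]
    rcases h3' with h | h <;> rw [h]
    · rw [map_one]; exact letter_mem hf hu huM hgs _
    · exact letter_mem hf hu huM hgt _) hword.1
  rw [pvec_shift_one φ (by norm_num), map_one] at hmem
  refine full_all_three ⟨2, h2, fun h => one_ne_zero (α := F) (by linear_combination h)⟩ hn hu hgram hspan hone huM ?_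
  have := full_of_prime_field hf hφ hmem
  simpa [hv] using this

/-! ### Two elements -/

/-- The vector with the given binary code. -/
def bitVec (k : ℕ) : Fin 6 → ZMod 2 := fun i => if k.testBit (i : ℕ) then 1 else 0

/-- Codes of the seeds of the closure. -/
def seeds2 : List ℕ := [1, 2, 4, 8, 16, 32, 3, 6, 12, 24, 48]

/-- Checks a derivation of all non-zero vectors from the seeds. -/
def chk2 (G : Matrix (Fin 6) (Fin 6) (ZMod 2)) : List ℕ → List (ℕ × ℕ × ℕ) → Bool
  | acc, [] => (List.range 63).all fun k => decide (k + 1 ∈ acc)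
  | acc, (x, y, s) :: r =>
    decide (y ∈ acc) && decide (s ∈ seeds2) && decide (bitVec s ⬝ᵥ (G *ᵥ bitVec y) ≠ 0) &&
      decide (bitVec x = bitVec y + bitVec s) && chk2 G (x :: acc) r

lemma bitVec_surj : ∀ x : Fin 6 → ZMod 2, x ≠ 0 → ∃ k ∈ List.range 63, bitVec (k + 1) = x := by decide +kernel

lemma seeds2_eq : seeds2.map bitVec =
    ((List.range 6).map fun k => shiftVec [1] k) ++ ((List.range 5).map fun k => shiftVec [1, 1] k) := by
  decide +kernel

lemma chk2_sound {G : Matrix (Fin 6) (Fin 6) (ZMod 2)} {P : (Fin 6 → ZMod 2) → Prop}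
    (hstep : ∀ y s, P y → s ∈ seeds2 → bitVec s ⬝ᵥ (G *ᵥ y) ≠ 0 → P (y + bitVec s)) :
    ∀ (acc : List ℕ) (r : List (ℕ × ℕ × ℕ)), chk2 G acc r = true → (∀ k ∈ acc, P (bitVec k)) →
      ∀ x, x ≠ 0 → P x
  | acc, [], h, hacc, x, hx => by
    obtain ⟨k, hk, rfl⟩ := bitVec_surj x hx
    simp only [chk2, List.all_eq_true, decide_eq_true_eq] at h
    exact hacc _ (h k hk)
  | acc, (a, y, s) :: r, h, hacc, x, hx => by
    simp only [chk2, Bool.and_eq_true, decide_eq_true_eq] at h
    obtain ⟨⟨⟨⟨h1, h2⟩, h3⟩, h4⟩, h5⟩ := h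
    refine chk2_sound hstep (a :: acc) r h5 (fun k hk => ?_) x hx
    rcases List.mem_cons.1 hk with rfl | hk
    · rw [h4]; exact hstep _ s (hacc y h1) h2 h3
    · exact hacc k hk

/-- The word reaching the first basis vector, first pattern. -/
def word2v : List (List (ZMod 2) × ℕ × ZMod 2) :=
  [([1], 3, 1), ([1, 1], 0, 1), ([1], 2, 1), ([1], 0, 1), ([1], 3, 1), ([1, 1], 1, 1), ([1, 1], 2, 1), ([1, 1], 1, 1)]

/-- The word reaching the sum of the first two basis vectors, first pattern. -/
def word2w : List (List (ZMod 2) × ℕ × ZMod 2) :=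
  [([1], 0, 1), ([1], 1, 1), ([1], 2, 1), ([1, 1], 1, 1), ([1], 0, 1), ([1, 1], 0, 1), ([1], 2, 1), ([1, 1], 1, 1)]

/-- The word reaching the first basis vector, second pattern. -/
def word2v' : List (List (ZMod 2) × ℕ × ZMod 2) :=
  [([1], 1, 1), ([1], 3, 1), ([1], 0, 1), ([1, 1], 2, 1), ([1], 0, 1), ([1, 1], 0, 1), ([1, 1], 2, 1)]

/-- The word reaching the sum of the first two basis vectors, second pattern. -/
def word2w' : List (List (ZMod 2) × ℕ × ZMod 2) :=
  [([1, 1], 1, 1), ([1], 0, 1), ([1, 1], 2, 1), ([1], 1, 1), ([1], 3, 1), ([1], 0, 1), ([1, 1], 2, 1)]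

/-- Everything checked about a Gram sequence over `ZMod 2`. -/
def Cert2 (bl : List (ZMod 2)) (wv ww : List (List (ZMod 2) × ℕ × ZMod 2)) (r : List (ℕ × ℕ × ℕ)) : Prop :=
  wordMat (gramList bl 6) wv = (1 : ZMod 2) • vecMulVec (shiftVec [1] 0) (shiftVec [1] 0) ∧
  wordMat (gramList bl 6) ww = (1 : ZMod 2) • vecMulVec (shiftVec [1, 1] 0) (shiftVec [1, 1] 0) ∧
  (∀ l ∈ wv ++ ww, l.2.2 = 1 ∧ ((l.1 = [1] ∧ l.2.1 + 1 < 6) ∨ (l.1 = [1, 1] ∧ l.2.1 + 2 < 6))) ∧
  chk2 (gramList bl 6) seeds2 r = true ∧
  (∀ x : Fin 6 → ZMod 2, x ≠ 0 → ∃ i, (gramList bl 6 *ᵥ x) i ≠ 0) ∧ bl.getD 3 0 = 1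

lemma cert2a : Cert2 [0, 0, 0, 1, 0, 1] word2v word2w
    [(9, 1, 8), (33, 1, 32), (13, 1, 12), (25, 1, 24), (49, 1, 48), (18, 2, 16), (26, 2, 24), (50, 2, 48),
    (36, 4, 32), (52, 4, 48), (11, 8, 3), (19, 16, 3), (22, 16, 6), (35, 32, 3), (38, 32, 6), (44, 32,
    12), (15, 3, 12), (30, 6, 24), (60, 12, 48), (41, 9, 32), (10, 9, 3), (5, 9, 12), (17, 9, 24), (57,
    9, 48), (37, 33, 4), (34, 33, 3), (39, 33, 6), (14, 13, 3), (21, 13, 24), (27, 25, 2), (31, 25, 6),
    (51, 49, 2), (53, 49, 4), (20, 18, 6), (28, 26, 6), (42, 26, 48), (54, 50, 4), (62, 50, 12), (40, 36,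
    12), (56, 52, 12), (43, 11, 32), (7, 11, 12), (63, 15, 48), (45, 41, 4), (47, 41, 6), (58, 10, 48),
    (29, 5, 24), (23, 17, 6), (59, 57, 2), (61, 57, 4), (46, 34, 12), (55, 39, 16)] := by
  unfold Cert2; decide +kernel

lemma cert2b : Cert2 [0, 0, 0, 1, 1, 1] word2v' word2w'
    [(9, 1, 8), (17, 1, 16), (33, 1, 32), (13, 1, 12), (18, 2, 16), (34, 2, 32), (26, 2, 24), (36, 4, 32),
    (52, 4, 48), (11, 8, 3), (22, 16, 6), (44, 32, 12), (15, 3, 12), (27, 3, 24), (30, 6, 24), (54, 6,
    48), (60, 12, 48), (25, 9, 16), (41, 9, 32), (10, 9, 3), (5, 9, 12), (19, 17, 2), (49, 17, 32), (23,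
    17, 6), (29, 17, 12), (35, 33, 2), (37, 33, 4), (14, 13, 3), (61, 13, 48), (50, 18, 32), (20, 18, 6),
    (38, 34, 4), (46, 34, 12), (58, 34, 24), (28, 26, 6), (40, 36, 12), (56, 52, 12), (7, 11, 12), (47,
    44, 3), (63, 15, 48), (57, 25, 32), (31, 25, 6), (21, 25, 12), (43, 41, 2), (45, 41, 4), (42, 41, 3),
    (53, 5, 48), (55, 49, 6), (39, 23, 48), (59, 35, 24), (62, 14, 48), (51, 43, 24)] := by
  unfold Cert2; decide +kernel

lemma cert2c : Cert2 [0, 0, 0, 1, 1, 0] word2v' word2w'
    [(9, 1, 8), (17, 1, 16), (13, 1, 12), (49, 1, 48), (18, 2, 16), (34, 2, 32), (26, 2, 24), (36, 4, 32),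
    (52, 4, 48), (11, 8, 3), (22, 16, 6), (35, 32, 3), (44, 32, 12), (15, 3, 12), (27, 3, 24), (51, 3,
    48), (30, 6, 24), (54, 6, 48), (60, 12, 48), (25, 9, 16), (10, 9, 3), (5, 9, 12), (57, 9, 48), (19,
    17, 2), (23, 17, 6), (29, 17, 12), (33, 17, 48), (45, 13, 32), (14, 13, 3), (53, 49, 4), (50, 49, 3),
    (55, 49, 6), (20, 18, 6), (38, 34, 4), (46, 34, 12), (58, 34, 24), (28, 26, 6), (39, 36, 3), (40, 36,
    12), (56, 52, 12), (43, 11, 32), (7, 11, 12), (59, 11, 48), (31, 25, 6), (21, 25, 12), (41, 25, 48),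
    (42, 10, 32), (37, 5, 32), (61, 57, 4), (63, 57, 6), (47, 45, 2), (62, 14, 48)] := by
  unfold Cert2; decide +kernel

/-- The case of two elements. -/
theorem gen_two [Fintype F] (hn : 3 ≤ n) (h2 : Fintype.card F = 2) :
    ∃ (u : GLn) (z w : Vn) (c d : F), Iso fS u ∧
      ((u : Matrix (Fin n ⊕ Fin n) (Fin n ⊕ Fin n) F) - 1) ^ (2 * n) = 0 ∧
      ((u : Matrix (Fin n ⊕ Fin n) (Fin n ⊕ Fin n) F) - 1) ^ (2 * n - 1) ≠ 0 ∧ GenData u z w c d := by
  haveI : CharP F 2 := charP_of_card_eq_prime h2
  set φ : ZMod 2 →+* F := ZMod.castHom (dvd_refl 2) F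
  have hφ : Function.Surjective φ :=
    ((Fintype.bijective_iff_injective_and_card φ).2 ⟨φ.injective, by rw [ZMod.card, h2]⟩).2
  have h20 : (2 : F) = 0 := by exact_mod_cast CharP.cast_eq_zero F 2
  obtain ⟨α, bl, wv, ww, r, hαn, hb, hcert⟩ : ∃ (α : ℕ → F) (bl : List (ZMod 2))
      (wv ww : List (List (ZMod 2) × ℕ × ZMod 2)) (r : List (ℕ × ℕ × ℕ)),
      α (n - 1) ≠ 0 ∧ (∀ d : ℕ, d < 6 → bseq α n (d : ℤ) = φ (bl.getD d 0)) ∧ Cert2 bl wv ww r := by
    rcases (show n = 3 ∨ n = 4 ∨ n = 5 ∨ 6 ≤ n by omega) with rfl | rfl | rfl | hn6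
    · refine ⟨fun t => if t = 2 then 1 else 0, _, _, _, _, by simp, fun d hd => ?_, cert2a⟩
      rw [bseq_natCast]
      interval_cases d <;> simp [Finset.sum_range_succ, Nat.choose]
      all_goals first
        | linear_combination (1 : F) * h20
        | linear_combination (-1 : F) * h20
        | linear_combination (2 : F) * h20
        | linear_combination (-2 : F) * h20
        | linear_combination (3 : F) * h20
        | linear_combination (-3 : F) * h20
        | linear_combination (4 : F) * h20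
        | linear_combination (-4 : F) * h20
        | linear_combination (5 : F) * h20
        | linear_combination (-5 : F) * h20
        | linear_combination (6 : F) * h20
        | linear_combination (-6 : F) * h20
        | linear_combination (7 : F) * h20
        | linear_combination (-7 : F) * h20
        | linear_combination (8 : F) * h20
        | linear_combination (9 : F) * h20
        | linear_combination (10 : F) * h20
        | linear_combination (11 : F) * h20
        | linear_combination (12 : F) * h20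
        | linear_combination (13 : F) * h20
        | linear_combination (14 : F) * h20
        | linear_combination (15 : F) * h20
    · refine ⟨fun t => if t = 2 ∨ t = 3 then 1 else 0, _, _, _, _, by simp, fun d hd => ?_, cert2b⟩
      rw [bseq_natCast]
      interval_cases d <;> simp [Finset.sum_range_succ, Nat.choose]
      all_goals first
        | linear_combination (1 : F) * h20
        | linear_combination (-1 : F) * h20
        | linear_combination (2 : F) * h20
        | linear_combination (-2 : F) * h20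
        | linear_combination (3 : F) * h20
        | linear_combination (-3 : F) * h20
        | linear_combination (4 : F) * h20
        | linear_combination (-4 : F) * h20
        | linear_combination (5 : F) * h20
        | linear_combination (-5 : F) * h20
        | linear_combination (6 : F) * h20
        | linear_combination (-6 : F) * h20
        | linear_combination (7 : F) * h20
        | linear_combination (-7 : F) * h20
        | linear_combination (8 : F) * h20
        | linear_combination (9 : F) * h20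
        | linear_combination (10 : F) * h20
        | linear_combination (11 : F) * h20
        | linear_combination (12 : F) * h20
        | linear_combination (13 : F) * h20
        | linear_combination (14 : F) * h20
        | linear_combination (15 : F) * h20
    · refine ⟨fun t => if 2 ≤ t then 1 else 0, _, _, _, _, by simp, fun d hd => ?_, cert2c⟩
      rw [bseq_natCast]
      interval_cases d <;> simp [Finset.sum_range_succ, Nat.choose]
      all_goals first
        | linear_combination (1 : F) * h20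
        | linear_combination (-1 : F) * h20
        | linear_combination (2 : F) * h20
        | linear_combination (-2 : F) * h20
        | linear_combination (3 : F) * h20
        | linear_combination (-3 : F) * h20
        | linear_combination (4 : F) * h20
        | linear_combination (-4 : F) * h20
        | linear_combination (5 : F) * h20
        | linear_combination (-5 : F) * h20
        | linear_combination (6 : F) * h20
        | linear_combination (-6 : F) * h20
        | linear_combination (7 : F) * h20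
        | linear_combination (-7 : F) * h20
        | linear_combination (8 : F) * h20
        | linear_combination (9 : F) * h20
        | linear_combination (10 : F) * h20
        | linear_combination (11 : F) * h20
        | linear_combination (12 : F) * h20
        | linear_combination (13 : F) * h20
        | linear_combination (14 : F) * h20
        | linear_combination (15 : F) * h20
    · set α : ℕ → F := fun t => if t = 2 ∨ t = n - 1 then 1 else 0 with hα
      refine ⟨α, _, _, _, _, by simp [hα], fun d hd => ?_, cert2a⟩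
      rw [bseq_small α (by omega)]
      have hne : ∀ t, t < 5 → t ≠ n - 1 := fun t ht => by omega
      interval_cases d <;> simp [hα, Finset.sum_range_succ, Nat.choose, hne]
      all_goals first
        | linear_combination (1 : F) * h20
        | linear_combination (-1 : F) * h20
        | linear_combination (2 : F) * h20
        | linear_combination (-2 : F) * h20
        | linear_combination (3 : F) * h20
        | linear_combination (-3 : F) * h20
        | linear_combination (4 : F) * h20
        | linear_combination (-4 : F) * h20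
        | linear_combination (5 : F) * h20
        | linear_combination (-5 : F) * h20
        | linear_combination (6 : F) * h20
        | linear_combination (-6 : F) * h20
        | linear_combination (7 : F) * h20
        | linear_combination (-7 : F) * h20
        | linear_combination (8 : F) * h20
        | linear_combination (9 : F) * h20
        | linear_combination (10 : F) * h20
        | linear_combination (11 : F) * h20
        | linear_combination (12 : F) * h20
        | linear_combination (13 : F) * h20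
        | linear_combination (14 : F) * h20
        | linear_combination (15 : F) * h20
  obtain ⟨hwv, hww, hlet, hclos, hnd, hb3⟩ := hcert
  obtain ⟨u, v0, hu, hN, hN', hgram, hspan⟩ := exists_data α (show 0 < n by omega) hαn
  set v : ℕ → (Fin n ⊕ Fin n → F) := fun k => (u : Matrix (Fin n ⊕ Fin n) (Fin n ⊕ Fin n) F) ^ k *ᵥ v0 with hv
  refine ⟨u, v0, v 0 + v 1, 1, 1, hu, hN, hN', fun M huM hgs hgt => ?_⟩
  have hf := isSymplecticForm_sympForm (F := F) n
  have hG := gmat_eq (f := fS) (v := v) φ α (show 6 ≤ 2 * n by omega) hgram bl hb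
  have hw0 : ∀ k, (u : Matrix (Fin n ⊕ Fin n) (Fin n ⊕ Fin n) F) ^ k *ᵥ (v 0 + v 1) = v k + v (k + 1) := fun k => by
    simp only [hv, mulVec_add, mulVec_mulVec, ← pow_add, Nat.add_zero]
  have hgen : ∀ l ∈ wv ++ ww, sT fS (pvec v (φ ∘ (shiftVec l.1 (l.2.1 + 1) : Fin 6 → ZMod 2))) (φ l.2.2) *
      sT fS (pvec v (φ ∘ (shiftVec l.1 l.2.1 : Fin 6 → ZMod 2))) (-φ l.2.2) ∈ M := by
    intro l hl
    obtain ⟨ht, ⟨hc, hk⟩ | ⟨hc, hk⟩⟩ := hlet l hl <;> rw [ht, hc, map_one]
    · rw [pvec_shift_one φ hk, pvec_shift_one φ (by omega)]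
      exact letter_mem hf hu huM hgs _
    · rw [pvec_shift_two φ (by omega), pvec_shift_two φ (by omega), ← hw0 (l.2.1 + 1), ← hw0 l.2.1]
      exact letter_mem hf hu huM hgt _
  have hv0 : Full fS M (v 0) := by
    have h := word_mem_group v hf φ (M := M) hG wv (fun l hl => hgen l (List.mem_append_left _ hl)) hwv
    rw [pvec_shift_one φ (by norm_num), map_one] at h
    exact full_of_prime_field hf hφ h
  have hw1 : Full fS M (v 0 + v 1) := by
    have h := word_mem_group v hf φ (M := M) hG ww (fun l hl => hgen l (List.mem_append_right _ hl)) hww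
    rw [pvec_shift_two φ (by norm_num), map_one] at h
    exact full_of_prime_field hf hφ h
  have hvf : ∀ k, Full fS M (v k) := fun k => by
    have := full_orbit hf hu huM (z := v 0) hv0 k
    simpa [hv, mulVec_mulVec] using this
  have hwf : ∀ k, Full fS M (v k + v (k + 1)) := fun k => hw0 k ▸ full_orbit hf hu huM hw1 k
  have hseed : ∀ k ∈ seeds2, Full fS M (pvec v (φ ∘ bitVec k)) := by
    intro k hk
    have hs : bitVec k ∈ seeds2.map bitVec := List.mem_map_of_mem hk
    simp only [seeds2_eq, List.mem_append, List.mem_map, List.mem_range] at hs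
    rcases hs with ⟨i, hi, e⟩ | ⟨i, hi, e⟩ <;> rw [← e]
    · rw [pvec_shift_one φ hi]; exact hvf i
    · rw [pvec_shift_two φ (by omega)]; exact hwf i
  have hform : ∀ x y : Fin 6 → ZMod 2, fS (pvec v (φ ∘ x)) (pvec v (φ ∘ y)) = φ (y ⬝ᵥ (gramList bl 6 *ᵥ x)) := by
    intro x y
    rw [form_pvec_right v hf, qvec_pvec v hf, hG, RingHom.map_dotProduct]
    congr 1; funext i; exact (RingHom.map_mulVec φ _ _ i).symm
  have hiter : ∀ x : Fin 6 → ZMod 2, x ≠ 0 → Full fS M (pvec v (φ ∘ x)) := by
    refine chk2_sound (fun y k hy hk hne => ?_) seeds2 r hclos hseed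
    have h := full_add_smul hf hy (hseed k hk) (by
      rw [hform]; exact fun h => hne (φ.injective (h.trans (map_zero φ).symm))) 1
    rw [one_smul, ← pvec_add] at h
    convert h using 2
    funext i; simp
  set W := Submodule.span F (v '' Set.Iio 6) with hW
  have hcoef : ∀ x ∈ W, ∃ c : Fin 6 → ZMod 2, x = pvec v (φ ∘ c) := fun x hx => by
    obtain ⟨c, rfl⟩ := exists_pvec v hx
    refine ⟨fun i => (hφ (c i)).choose, ?_⟩
    congr 1; funext i; exact (hφ (c i)).choose_spec.symm
  have hnd' : ∀ c : Fin 6 → ZMod 2, c ≠ 0 → ∃ i : Fin 6, fS (pvec v (φ ∘ c)) (v i) ≠ 0 := by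
    intro c hc
    obtain ⟨i, hi⟩ := hnd c hc
    refine ⟨i, fun h => hi (φ.injective ?_)⟩
    have h' : qvec fS v 6 (pvec v (φ ∘ c)) i = 0 := h
    rw [qvec_pvec v hf, hG, ← RingHom.map_mulVec] at h'
    rw [h', map_zero]
  have hNR : ∀ x ∈ W, x ≠ 0 → NR fS W x := by
    intro x hx hx0
    obtain ⟨c, rfl⟩ := hcoef x hx
    obtain ⟨i, hi⟩ := hnd' c (fun h => hx0 (by subst h; simp [pvec]))
    exact ⟨hx, v i, Submodule.subset_span ⟨i, i.2, rfl⟩, hi⟩
  have hdim : 4 ≤ Module.finrank F W := by
    let L : (Fin 6 → F) →ₗ[F] W :=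
      { toFun := fun c => ⟨pvec v c, pvec_mem_span v c⟩
        map_add' := fun a b => Subtype.ext (pvec_add v a b)
        map_smul' := fun a b => Subtype.ext (pvec_smul v a b) }
    have hL : Function.Injective L := by
      rw [← LinearMap.ker_eq_bot, LinearMap.ker_eq_bot']
      intro c hc
      obtain ⟨c', rfl⟩ : ∃ c' : Fin 6 → ZMod 2, φ ∘ c' = c :=
        ⟨fun i => (hφ (c i)).choose, funext fun i => (hφ (c i)).choose_spec⟩
      by_contra hne
      obtain ⟨i, hi⟩ := hnd' c' (fun h => hne (by subst h; funext i; simp))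
      have h0 : pvec v (φ ∘ c') = 0 := congrArg Subtype.val hc
      rw [h0] at hi
      exact hi (zero_left' hf _)
    have := LinearMap.finrank_le_finrank_of_injective hL
    rw [Module.finrank_fin_fun] at this
    omega
  have hspan' : Submodule.span F (v '' Set.Iio (2 * n)) = ⊤ := by
    rw [← hspan]; congr 1; ext x
    exact ⟨fun ⟨i, hi, h⟩ => ⟨⟨i, hi⟩, h⟩, fun ⟨i, h⟩ => ⟨i, i.2, h⟩⟩
  have hlink : ∀ k, 3 ≤ k → k < 2 * n → fS (v k) (v (k - 3)) ≠ 0 := fun k hk hk' => by
    rw [hv, hgram k (k - 3) hk' (by omega),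
      show ((k - 3 : ℕ) : ℤ) - (k : ℤ) = -((3 : ℕ) : ℤ) by omega, bseq_neg, hb 3 (by norm_num), hb3, map_one]
    exact neg_ne_zero.2 one_ne_zero
  refine full_of_chain hf v (m0 := 6) (N := 2 * n) (by omega) hspan' ?_ ?_ (Or.inr ⟨fun a ha => ?_, W, le_rfl, hNR, hdim⟩)
    (fun k _ _ => hvf k) (fun k hk hk' => ⟨k - 3, by omega, hlink k (by omega) hk'⟩)
  · rintro x ⟨hx, -⟩
    obtain ⟨c, rfl⟩ := hcoef x hx
    rcases eq_or_ne c 0 with rfl | hc
    · simpa [pvec] using full_zero hf
    · exact hiter c hc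
  · exact ⟨v 3, Submodule.subset_span ⟨3, by simp, rfl⟩, v 0, Submodule.subset_span ⟨0, by simp, rfl⟩,
      hlink 3 le_rfl (by omega)⟩
  · obtain ⟨b, rfl⟩ := hφ a
    have h01 : ∀ b : ZMod 2, b ≠ 0 → b = 1 := by decide
    rw [h01 b (fun h => ha (by rw [h, map_zero])), map_one]

end CfsgLib.RegUnipotentGen.Sp
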